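import Mathlib.GroupTheory.Sylow
import Mathlib.GroupTheory.SpecificGroups.Cyclic
import Mathlib.Algebra.BigOperators.Group.Finset.Sigma
import Mathlib.Tactic.Group

set_option autoImplicit false

namespace Cfsg.Agent.H24

variable {A V : Type*} [Group A] [CommGroup V] (φ : A →* MulAut V)

/-- The product of the images of `v` under a nontrivial subgroup acting fixed-point-freely is `1`. -/
theorem prod_subgroup_eq_one (hfpf : ∀ a : A, a ≠ 1 → ∀ v : V, φ a v = v → v = 1)
    (B : Subgroup A) [Fintype B] (hB : B ≠ ⊥) (v : V) : ∏ b : B, φ b v = 1 := by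
  obtain ⟨⟨c, hc⟩, hc1⟩ := (Subgroup.ne_bot_iff_exists_ne_one.1 hB)
  rw [Ne, Subgroup.mk_eq_one] at hc1
  refine hfpf c hc1 _ ?_
  rw [map_prod]
  refine Fintype.prod_equiv (Equiv.mulLeft (⟨c, hc⟩ : B)) _ _ fun b => ?_
  simp

variable [Finite A]

/-- If the nonidentity elements of `A` all have prime order and `A` acts fixed-point-freely,
then `v ^ k = v` where `k` is the number of subgroups of prime order. -/
theorem pow_card_cyclic_eq [Fintype A] [DecidableEq A] [DecidableEq (Subgroup A)]
    (hfpf : ∀ a : A, a ≠ 1 → ∀ v : V, φ a v = v → v = 1)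
    (hA : ∀ a : A, a ≠ 1 → (orderOf a).Prime) [Nontrivial A] (v : V) :
    v ^ ((Finset.univ.erase (1 : A)).image Subgroup.zpowers).card = v := by
  classical
  have hall : ∏ a ∈ Finset.univ.erase (1 : A), φ a v = v⁻¹ := by
    have htop : ∏ a : (⊤ : Subgroup A), φ a v = 1 :=
      prod_subgroup_eq_one φ hfpf ⊤ (by simp) v
    have h1 : ∏ a : A, φ a v = 1 := by
      rw [← htop]
      exact (Fintype.prod_equiv Subgroup.topEquiv.toEquiv _ _ fun b => rfl).symm
    rw [← Finset.mul_prod_erase Finset.univ (fun a => φ a v) (Finset.mem_univ 1), map_one] at h1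
    exact eq_inv_of_mul_eq_one_right h1
  have hfib : ∀ B ∈ (Finset.univ.erase (1 : A)).image Subgroup.zpowers,
      ∏ a ∈ (Finset.univ.erase (1 : A)) with Subgroup.zpowers a = B, φ a v = v⁻¹ := by
    intro B hB
    obtain ⟨c, hc, rfl⟩ := Finset.mem_image.1 hB
    have hc1 : c ≠ 1 := (Finset.mem_erase.1 hc).1
    have hset : (Finset.univ.erase (1 : A)).filter (fun a => Subgroup.zpowers a = Subgroup.zpowers c) =
        (Finset.univ.filter (fun a => a ∈ Subgroup.zpowers c)).erase 1 := by
      ext a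
      simp only [Finset.mem_filter, Finset.mem_erase, Finset.mem_univ, and_true, true_and]
      refine and_congr_right fun ha => ⟨fun h => h ▸ Subgroup.mem_zpowers a, fun h => ?_⟩
      apply Subgroup.eq_of_le_of_card_ge (Subgroup.zpowers_le.2 h)
      rw [Nat.card_zpowers, Nat.card_zpowers]
      have h1 : orderOf a ∣ orderOf c := by
        rw [← Nat.card_zpowers c]; exact Subgroup.orderOf_dvd_natCard _ h
      exact ((Nat.prime_dvd_prime_iff_eq (hA a ha) (hA c hc1)).1 h1).ge
    rw [hset]
    have h2 : ∏ a ∈ Finset.univ.filter (fun a => a ∈ Subgroup.zpowers c), φ a v = 1 := by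
      rw [Finset.prod_subtype (p := fun a => a ∈ Subgroup.zpowers c) _ (by simp) (fun a => φ a v)]
      exact prod_subgroup_eq_one φ hfpf (Subgroup.zpowers c) (by simpa using hc1) v
    rw [← Finset.mul_prod_erase _ (fun a => φ a v) (show (1 : A) ∈ Finset.univ.filter (fun a => a ∈ Subgroup.zpowers c) by simp),
      map_one] at h2
    exact eq_inv_of_mul_eq_one_right h2
  rw [← Finset.prod_fiberwise_of_maps_to (t := (Finset.univ.erase (1 : A)).image Subgroup.zpowers)
    (g := Subgroup.zpowers) (fun a ha => Finset.mem_image_of_mem _ ha), Finset.prod_congr rfl hfib,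
    Finset.prod_const, inv_pow, inv_inj] at hall
  exact hall

/-- A group of order a product of two primes with no fixed points on a nontrivial abelian group
is cyclic. -/
theorem isCyclic_of_card_mul_prime [Finite V] [Nontrivial V]
    (hfpf : ∀ a : A, a ≠ 1 → ∀ v : V, φ a v = v → v = 1) {p q : ℕ} (hp : p.Prime) (hq : q.Prime)
    (hle : p ≤ q) (hcard : Nat.card A = p * q) : IsCyclic A := by
  classical
  have := Fintype.ofFinite A
  by_contra hnc
  have : Nontrivial A := Finite.one_lt_card_iff_nontrivial.1 (hcard ▸ one_lt_mul'' hp.one_lt hq.one_lt)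
  have hord : ∀ a : A, a ≠ 1 → orderOf a = p ∨ orderOf a = q := by
    intro a ha
    obtain ⟨d, e, hd, he, hde⟩ := Nat.dvd_mul.1 (hcard ▸ orderOf_dvd_natCard a)
    rcases (Nat.dvd_prime hp).1 hd with rfl | rfl <;> rcases (Nat.dvd_prime hq).1 he with rfl | rfl
    · exact absurd (orderOf_eq_one_iff.1 (by simpa using hde.symm)) ha
    · exact Or.inr (by simpa using hde.symm)
    · exact Or.inl (by simpa using hde.symm)
    · exact absurd (isCyclic_of_orderOf_eq_card a (hde.symm.trans hcard.symm)) hnc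
  have hprime : ∀ a : A, a ≠ 1 → (orderOf a).Prime := fun a ha => by
    rcases hord a ha with h | h <;> rw [h] <;> assumption
  set T := (Finset.univ.erase (1 : A)).image Subgroup.zpowers with hT
  have hsum : ∑ B ∈ T, (Nat.card B - 1) = p * q - 1 := by
    have h := Finset.card_eq_sum_card_fiberwise (s := Finset.univ.erase (1 : A)) (t := T)
      (f := Subgroup.zpowers) (fun a ha => Finset.mem_image_of_mem _ ha)
    rw [Finset.card_erase_of_mem (Finset.mem_univ _), Finset.card_univ, ← Nat.card_eq_fintype_card, hcard] at h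
    rw [h]
    refine Finset.sum_congr rfl fun B hB => ?_
    obtain ⟨c, hc, rfl⟩ := Finset.mem_image.1 hB
    have hc1 : c ≠ 1 := (Finset.mem_erase.1 hc).1
    have hset : (Finset.univ.erase (1 : A)).filter (fun a => Subgroup.zpowers a = Subgroup.zpowers c) =
        (Finset.univ.filter (fun a => a ∈ Subgroup.zpowers c)).erase 1 := by
      ext a
      simp only [Finset.mem_filter, Finset.mem_erase, Finset.mem_univ, and_true, true_and]
      refine and_congr_right fun ha => ⟨fun h => h ▸ Subgroup.mem_zpowers a, fun h => ?_⟩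
      apply Subgroup.eq_of_le_of_card_ge (Subgroup.zpowers_le.2 h)
      rw [Nat.card_zpowers, Nat.card_zpowers]
      have h1 : orderOf a ∣ orderOf c := by
        rw [← Nat.card_zpowers c]; exact Subgroup.orderOf_dvd_natCard _ h
      exact ((Nat.prime_dvd_prime_iff_eq (hprime a ha) (hprime c hc1)).1 h1).ge
    rw [hset, Finset.card_erase_of_mem (by simp), Nat.card_eq_fintype_card, Fintype.card_subtype]
  have hcT : ∀ B ∈ T, Nat.card B = p ∨ Nat.card B = q := by
    intro B hB
    obtain ⟨c, hc, rfl⟩ := Finset.mem_image.1 hB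
    rw [Nat.card_zpowers]; exact hord c (Finset.mem_erase.1 hc).1
  have hcard_q : T.card = q + 1 := by
    have hp2 := hp.two_le
    rcases hle.lt_or_eq with hlt | rfl
    · have huniq : ∀ B ∈ T, ∀ C ∈ T, Nat.card B = q → Nat.card C = q → B = C := by
        intro B _ C _ hB hC
        by_contra hne
        have hinf : B ⊓ C = ⊥ := by
          rcases (Nat.dvd_prime hq).1 (hB ▸ Subgroup.card_dvd_of_le (inf_le_left : B ⊓ C ≤ B)) with h | h
          · exact Subgroup.card_eq_one.1 h
          · have e1 : B ⊓ C = B := Subgroup.eq_of_le_of_card_ge inf_le_left (by rw [h, hB])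
            exact absurd (Subgroup.eq_of_le_of_card_ge (e1 ▸ inf_le_right : B ≤ C) (by rw [hB, hC])) hne
        have hbig : Nat.card B * Nat.card C ≤ Nat.card A := by
          rw [← Nat.card_prod]
          exact Nat.card_le_card_of_injective _ (Subgroup.mul_injective_of_disjoint (disjoint_iff.2 hinf))
        rw [hB, hC, hcard] at hbig
        exact absurd (Nat.le_of_mul_le_mul_right hbig hq.pos) (not_le.2 hlt)
      have := Fact.mk hq
      obtain ⟨z, hz⟩ := exists_prime_orderOf_dvd_card' (G := A) q (hcard ▸ dvd_mul_left q p)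
      have hz1 : z ≠ 1 := fun h => by rw [h, orderOf_one] at hz; exact hq.one_lt.ne hz
      have hzT : Subgroup.zpowers z ∈ T := Finset.mem_image_of_mem _ (by simpa using hz1)
      have hrest : ∀ B ∈ T.erase (Subgroup.zpowers z), Nat.card B = p := by
        intro B hB
        obtain ⟨hne, hB⟩ := Finset.mem_erase.1 hB
        exact (hcT B hB).resolve_right fun h => hne (huniq B hB _ hzT h (by rw [Nat.card_zpowers, hz]))
      rw [← Finset.add_sum_erase _ _ hzT, Nat.card_zpowers, hz,
        Finset.sum_congr rfl (fun B hB => by rw [hrest B hB]), Finset.sum_const, smul_eq_mul,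
        Finset.card_erase_of_mem hzT] at hsum
      have hTpos : 0 < T.card := Finset.card_pos.2 ⟨_, hzT⟩
      have e : p * q - 1 = (q - 1) + q * (p - 1) := by
        have : p * q = q * (p - 1) + q := by
          rw [mul_comm p q, ← Nat.mul_succ]; congr 1; omega
        have := hq.pos
        omega
      have := Nat.eq_of_mul_eq_mul_right (show 0 < p - 1 by omega) (Nat.add_left_cancel (hsum.trans e))
      omega
    · rw [Finset.sum_congr rfl (fun B hB => by rw [(hcT B hB).elim id id]), Finset.sum_const,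
        smul_eq_mul] at hsum
      have e : p * p - 1 = (p + 1) * (p - 1) := by
        rw [← Nat.sq_sub_sq]; simp [sq]
      exact Nat.eq_of_mul_eq_mul_right (by omega) (hsum.trans e)
  have hpow : ∀ v : V, v ^ q = 1 := fun v => by
    have h := pow_card_cyclic_eq φ hfpf hprime v
    rw [← hT, hcard_q, pow_succ] at h
    exact mul_eq_right.1 h
  have := Fact.mk hq
  obtain ⟨z, hz⟩ := exists_prime_orderOf_dvd_card' (G := A) q (hcard ▸ dvd_mul_left q p)
  have hz1 : z ≠ 1 := fun h => by rw [h, orderOf_one] at hz; exact hq.one_lt.ne hz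
  have hV : IsPGroup q V := fun v => ⟨1, by rw [pow_one]; exact hpow v⟩
  let _ : MulAction A V := MulAction.compHom V φ
  have hZ : IsPGroup q (Subgroup.zpowers z) :=
    IsPGroup.of_card (n := 1) (by rw [Nat.card_zpowers, hz, pow_one])
  obtain ⟨w, hw, hne⟩ := hZ.exists_fixed_point_of_prime_dvd_card_of_fixed_point V
    ((hV.card_eq_or_dvd).resolve_left (Nat.ne_of_gt Finite.one_lt_card))
    (a := (1 : V)) (fun g => map_one (φ g))
  exact hne (hfpf z hz1 w (hw ⟨z, Subgroup.mem_zpowers z⟩)).symm

/-- A finite noncyclic abelian `p`-group contains a subgroup of order `p ^ 2` and exponent `p`. -/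
theorem exists_elementary_sq {P : Type*} [CommGroup P] [Finite P] {p : ℕ} (hp : p.Prime)
    (hP : IsPGroup p P) (hnc : ¬ IsCyclic P) :
    ∃ B : Subgroup P, Nat.card B = p ^ 2 ∧ ∀ b ∈ B, b ^ p = 1 := by
  classical
  have := Fact.mk hp
  obtain ⟨x, hx⟩ := Monoid.exists_orderOf_eq_exponent (Monoid.ExponentExists.of_finite (G := P))
  have hxne : Subgroup.zpowers x ≠ ⊤ := fun h => hnc
    ⟨⟨x, fun y => Subgroup.mem_zpowers_iff.1 (h ▸ Subgroup.mem_top y : y ∈ Subgroup.zpowers x)⟩⟩
  have hQ : Nontrivial (P ⧸ Subgroup.zpowers x) := QuotientGroup.nontrivial_iff.2 hxne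
  obtain ⟨yb, hyb⟩ := exists_prime_orderOf_dvd_card' p
    (((hP.to_quotient (Subgroup.zpowers x)).card_eq_or_dvd).resolve_left (Nat.ne_of_gt Finite.one_lt_card))
  induction yb using QuotientGroup.induction_on with | H y => ?_
  have hy : y ∉ Subgroup.zpowers x := fun h => by
    rw [(QuotientGroup.eq_one_iff y).2 h, orderOf_one] at hyb; exact hp.one_lt.ne hyb
  have hyp : y ^ p ∈ Subgroup.zpowers x := by
    rw [← QuotientGroup.eq_one_iff, QuotientGroup.mk_pow, ← hyb, pow_orderOf_eq_one]
  obtain ⟨m, hm⟩ := mem_powers_iff_mem_zpowers.2 hyp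
  simp only at hm
  obtain ⟨e, he⟩ := IsPGroup.iff_orderOf.1 hP x
  have he0 : e ≠ 0 := fun h => by
    rw [h, pow_zero, hx] at he
    have := Monoid.exp_eq_one_iff.1 he
    exact hy (Subsingleton.elim (1 : P) y ▸ one_mem _)
  obtain ⟨f, rfl⟩ := Nat.exists_eq_succ_of_ne_zero he0
  have hpm : p ∣ m := by
    have h1 : x ^ (m * p ^ f) = 1 := by
      rw [pow_mul, hm, ← pow_mul, ← pow_succ', ← he, hx, Monoid.pow_exponent_eq_one]
    have h2 := orderOf_dvd_of_pow_eq_one h1
    rw [he, pow_succ'] at h2
    exact Nat.dvd_of_mul_dvd_mul_right (pow_pos hp.pos f) h2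
  obtain ⟨m', rfl⟩ := hpm
  let c := y * (x ^ m')⁻¹
  have hc : c ∉ Subgroup.zpowers x := fun h => hy (by
    have := mul_mem h (pow_mem (Subgroup.mem_zpowers x) m')
    simpa [c] using this)
  have hcp : c ^ p = 1 := by
    rw [mul_pow, inv_pow, ← pow_mul, mul_comm m', hm, mul_inv_cancel]
  let z := x ^ p ^ f
  have hz : orderOf z = p := by
    rw [orderOf_pow' x (pow_ne_zero f hp.ne_zero), he, pow_succ,
      Nat.gcd_eq_right (dvd_mul_right (p ^ f) p), Nat.mul_div_cancel_left _ (pow_pos hp.pos f)]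
  let B : Subgroup P := Subgroup.zpowers z ⊔ Subgroup.zpowers c
  have hBexp : ∀ b ∈ B, b ^ p = 1 := by
    intro b hb
    obtain ⟨u, hu, w, hw, rfl⟩ := Subgroup.mem_sup.1 hb
    obtain ⟨i, rfl⟩ := Subgroup.mem_zpowers_iff.1 hu
    obtain ⟨j, rfl⟩ := Subgroup.mem_zpowers_iff.1 hw
    have hzp : z ^ p = 1 := by rw [← hz, pow_orderOf_eq_one]
    rw [mul_pow, ← zpow_natCast, ← zpow_natCast (c ^ j), ← zpow_mul, ← zpow_mul, mul_comm i,
      mul_comm j, zpow_mul, zpow_mul, zpow_natCast, zpow_natCast, hzp, hcp, one_zpow, one_zpow, one_mul]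
  refine ⟨B, ?_, hBexp⟩
  have hco : orderOf c = p := orderOf_eq_prime hcp fun h => hc (h ▸ one_mem _)
  have hdis : Disjoint (Subgroup.zpowers z) (Subgroup.zpowers c) := by
    rw [disjoint_iff]
    rcases (Nat.dvd_prime hp).1 (hco ▸ Nat.card_zpowers c ▸
      Subgroup.card_dvd_of_le (inf_le_right : Subgroup.zpowers z ⊓ Subgroup.zpowers c ≤ _)) with h | h
    · exact Subgroup.card_eq_one.1 h
    · exfalso
      have h1 : Subgroup.zpowers z ⊓ Subgroup.zpowers c = Subgroup.zpowers c :=
        Subgroup.eq_of_le_of_card_ge inf_le_right (by rw [h, Nat.card_zpowers, hco])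
      have h2 : c ∈ Subgroup.zpowers z := (h1.ge (Subgroup.mem_zpowers c)).1
      exact hc (Subgroup.zpowers_le.2 (pow_mem (Subgroup.mem_zpowers x) _) h2)
  have hinj : Function.Bijective
      (fun g : Subgroup.zpowers z × Subgroup.zpowers c => (⟨g.1.1 * g.2.1,
        mul_mem (Subgroup.mem_sup_left g.1.2) (Subgroup.mem_sup_right g.2.2)⟩ : B)) := by
    refine ⟨fun g g' h => Subgroup.mul_injective_of_disjoint hdis (congrArg Subtype.val h), fun b => ?_⟩
    obtain ⟨u, hu, w, hw, h⟩ := Subgroup.mem_sup.1 b.2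
    exact ⟨(⟨u, hu⟩, ⟨w, hw⟩), Subtype.ext h⟩
  rw [← Nat.card_eq_of_bijective _ hinj, Nat.card_prod, Nat.card_zpowers, Nat.card_zpowers, hz, hco, sq]

end Cfsg.Agent.H24
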