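import Mathlib.GroupTheory.Nilpotent

set_option autoImplicit false

namespace Cfsg.Agent.H24

/-- A nontrivial normal subgroup of a nilpotent group meets the centre nontrivially. -/
theorem inf_center_ne_bot {G : Type*} [Group G] [Group.IsNilpotent G]
    (N : Subgroup G) [N.Normal] (hN : N ≠ ⊥) : N ⊓ Subgroup.center G ≠ ⊥ := by
  classical
  obtain ⟨n, hn⟩ := Group.IsNilpotent.nilpotent G
  have hex : ∃ i, N ⊓ Subgroup.upperCentralSeries G i ≠ ⊥ := ⟨n, by rwa [hn, inf_top_eq]⟩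
  have hpos : Nat.find hex ≠ 0 := by
    intro h0
    have := Nat.find_spec hex
    rw [h0, Subgroup.upperCentralSeries_zero, inf_bot_eq] at this
    exact this rfl
  obtain ⟨j, hj⟩ := Nat.exists_eq_succ_of_ne_zero hpos
  have hbot : N ⊓ Subgroup.upperCentralSeries G j = ⊥ := not_not.1 (Nat.find_min hex (hj ▸ Nat.lt_succ_self j))
  have hspec := Nat.find_spec hex
  rw [hj] at hspec
  obtain ⟨⟨x, hx⟩, hx1⟩ := Subgroup.ne_bot_iff_exists_ne_one.1 hspec
  rw [Ne, Subgroup.mk_eq_one] at hx1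
  refine fun h => hx1 ?_
  rw [← Subgroup.mem_bot, ← h]
  refine ⟨hx.1, Subgroup.mem_center_iff.2 fun g => ?_⟩
  have h1 : x * g * x⁻¹ * g⁻¹ ∈ Subgroup.upperCentralSeries G j :=
    Subgroup.mem_upperCentralSeries_succ_iff.1 hx.2 g
  have h2 : x * g * x⁻¹ * g⁻¹ ∈ N := by
    have := mul_mem hx.1 ((inferInstance : N.Normal).conj_mem _ (inv_mem hx.1) g)
    simpa [mul_assoc] using this
  have h3 : x * g * x⁻¹ * g⁻¹ = 1 := by
    rw [← Subgroup.mem_bot, ← hbot]
    exact ⟨h2, h1⟩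
  rw [mul_inv_eq_one, mul_inv_eq_iff_eq_mul] at h3
  exact h3.symm

end Cfsg.Agent.H24
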