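import Mathlib.GroupTheory.Index
import Mathlib.GroupTheory.GroupAction.Quotient
import Mathlib.Tactic.Group

set_option autoImplicit false

namespace Cfsg.Agent.H24

variable {G : Type*} [Group G]

/-- If `H` and `K` have coprime index then `H.relIndex K = H.index`. -/
theorem relIndex_eq_index_of_coprime [Finite G] (H K : Subgroup G)
    (h : H.index.Coprime K.index) : H.relIndex K = H.index := by
  have h1 : (H ⊓ K).relIndex K * K.index = (H ⊓ K).index :=
    Subgroup.relIndex_mul_index inf_le_right
  rw [Subgroup.inf_relIndex_right] at h1
  have hH : H.index ∣ H.relIndex K * K.index := h1 ▸ Subgroup.index_dvd_of_le inf_le_left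
  have hd : H.index ∣ H.relIndex K := Nat.Coprime.dvd_of_dvd_mul_right h hH
  apply le_antisymm
  · rw [← Subgroup.relIndex_top_right H]
    exact Subgroup.relIndex_le_of_le_right le_top (by
      rw [Subgroup.relIndex_top_right]; exact Subgroup.index_ne_zero_of_finite)
  · exact Nat.le_of_dvd (Nat.pos_of_ne_zero fun h0 => by
      have : Finite (G ⧸ (H ⊓ K)) := inferInstance
      apply (Subgroup.index_ne_zero_of_finite (H := H ⊓ K))
      rw [← h1, h0, zero_mul]) hd

/-- If `H.relIndex K = H.index` then `G = K H`. -/
theorem exists_mul_of_relIndex_eq [Finite G] (H K : Subgroup G)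
    (h : H.relIndex K = H.index) (g : G) : ∃ y ∈ K, ∃ x ∈ H, g = y * x := by
  let f : K ⧸ H.subgroupOf K → G ⧸ H :=
    Quotient.map' (fun k : K => (k : G)) (by
      intro a b hab
      rw [QuotientGroup.leftRel_apply] at hab ⊢
      simpa [Subgroup.mem_subgroupOf] using hab)
  have hinj : Function.Injective f := by
    intro a b
    induction a using Quotient.inductionOn'
    induction b using Quotient.inductionOn'
    intro hab
    have := Quotient.exact' hab
    rw [QuotientGroup.leftRel_apply] at this
    exact Quotient.sound' (by
      rw [QuotientGroup.leftRel_apply]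
      simpa [Subgroup.mem_subgroupOf] using this)
  have hbij : Function.Bijective f :=
    (Nat.bijective_iff_injective_and_card f).2 ⟨hinj, h⟩
  obtain ⟨q, hq⟩ := hbij.2 (QuotientGroup.mk g)
  induction q using Quotient.inductionOn' with
  | h k =>
    refine ⟨k, k.2, (k : G)⁻¹ * g, ?_, by group⟩
    have := Quotient.exact' hq
    rw [QuotientGroup.leftRel_apply] at this
    exact this

/-- Two subgroups of coprime index factorise the group. -/
theorem exists_mul_of_coprime_index [Finite G] (H K : Subgroup G)
    (h : H.index.Coprime K.index) (g : G) : ∃ x ∈ H, ∃ y ∈ K, g = x * y :=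
  exists_mul_of_relIndex_eq K H (relIndex_eq_index_of_coprime K H h.symm) g

end Cfsg.Agent.H24
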