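import Mathlib.GroupTheory.Solvable
import Mathlib.GroupTheory.Sylow
import Mathlib.GroupTheory.PGroup
import Mathlib.Tactic.Group

set_option autoImplicit false

namespace Cfsg.Agent.H24

variable {G : Type*} [Group G]

/-- A solvable minimal normal subgroup is elementary abelian. -/
theorem minimal_normal_elementary [Finite G] (N : Subgroup G) [N.Normal] [Group.IsSolvable N]
    (hN : N ≠ ⊥) (hmin : ∀ M : Subgroup G, M.Normal → M ≤ N → M = ⊥ ∨ M = N) :
    IsMulCommutative N ∧ ∃ p : ℕ, p.Prime ∧ ∀ x ∈ N, x ^ p = 1 := by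
  have : Nontrivial N := (Subgroup.nontrivial_iff_ne_bot N).2 hN
  have hlt : commutator N < ⊤ := Group.IsSolvable.commutator_lt_top_of_nontrivial N
  have hc : (⁅N, N⁆ : Subgroup G) = ⊥ := by
    refine (hmin ⁅N, N⁆ inferInstance (Subgroup.commutator_le_self N)).resolve_right fun h => ?_
    rw [← Subgroup.map_subtype_commutator] at h
    apply hlt.ne
    apply Subgroup.map_injective N.subtype_injective
    rw [h, ← MonoidHom.range_eq_map, Subgroup.range_subtype]
  have hle : N ≤ Subgroup.centralizer (N : Set G) := Subgroup.commutator_eq_bot_iff_le_centralizer.1 hc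
  have hcomm : ∀ a ∈ N, ∀ b ∈ N, a * b = b * a := fun a ha b hb =>
    Subgroup.mem_centralizer_iff.1 (hle hb) a ha
  refine ⟨Subgroup.le_centralizer_iff_isMulCommutative.1 hle, ?_⟩
  obtain ⟨p, hp, hdvd⟩ := Nat.exists_prime_and_dvd
    (Nat.ne_of_gt (Finite.one_lt_card (α := N)))
  have := Fact.mk hp
  obtain ⟨z, hz⟩ := exists_prime_orderOf_dvd_card' p hdvd
  refine ⟨p, hp, ?_⟩
  let M : Subgroup G :=
    { carrier := {x | x ∈ N ∧ x ^ p = 1}
      one_mem' := ⟨one_mem _, one_pow _⟩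
      mul_mem' := fun {a b} ha hb =>
        ⟨mul_mem ha.1 hb.1, by rw [Commute.mul_pow (hcomm a ha.1 b hb.1), ha.2, hb.2, one_mul]⟩
      inv_mem' := fun {a} ha => ⟨inv_mem ha.1, by rw [inv_pow, ha.2, inv_one]⟩ }
  have hMn : M.Normal :=
    ⟨fun a ha g => ⟨(inferInstance : N.Normal).conj_mem a ha.1 g, by rw [conj_pow, ha.2, mul_one, mul_inv_cancel]⟩⟩
  intro x hx
  have hMN : M = N := (hmin M hMn fun a ha => ha.1).resolve_left fun h => by
    have : (z : G) ∈ M := ⟨z.2, by rw [← Subgroup.coe_pow, ← hz, pow_orderOf_eq_one, Subgroup.coe_one]⟩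
    rw [h, Subgroup.mem_bot, OneMemClass.coe_eq_one] at this
    rw [this, orderOf_one] at hz
    exact hp.one_lt.ne hz
  exact (hMN.ge hx).2

/-- Existence of a minimal normal subgroup below a nontrivial normal subgroup. -/
theorem exists_minimal_normal [Finite G] (K : Subgroup G) (hK : K.Normal) (hKb : K ≠ ⊥) :
    ∃ N : Subgroup G, N ≤ K ∧ N.Normal ∧ N ≠ ⊥ ∧
      ∀ M : Subgroup G, M.Normal → M ≤ N → M = ⊥ ∨ M = N := by
  obtain ⟨N, hN⟩ := (Set.toFinite {N : Subgroup G | N ≤ K ∧ N.Normal ∧ N ≠ ⊥}).exists_minimal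
    ⟨K, le_rfl, hK, hKb⟩
  refine ⟨N, hN.1.1, hN.1.2.1, hN.1.2.2, fun M hM hMN => ?_⟩
  by_cases hMb : M = ⊥
  · exact Or.inl hMb
  · exact Or.inr (le_antisymm hMN (hN.2 ⟨hMN.trans hN.1.1, hM, hMb⟩ hMN))

end Cfsg.Agent.H24
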