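import Cfsg.Agent.S0031
import Cfsg.Agent.S0032
import Cfsg.Agent.S2800
import Cfsg.Agent.H24.Solv
import Mathlib.GroupTheory.FixedPointFree
import Mathlib.Tactic.Group

/-!
# Thompson: a fixed-point-free automorphism of prime order forces nilpotence
-/

set_option autoImplicit false

namespace Cfsg.Agent.H24.FPFAut

open Subgroup Function

universe u

variable {G : Type u} [Group G]

/-- `H` is invariant under `φ`. -/
def Inv (φ : G →* G) (H : Subgroup G) : Prop := ∀ x ∈ H, φ x ∈ H

theorem injective_of_iterate {φ : G →* G} {p : ℕ} (hp : p.Prime) (h : φ^[p] = id) :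
    Injective φ := by
  obtain ⟨k, rfl⟩ := Nat.exists_eq_succ_of_ne_zero hp.ne_zero
  intro a b hab
  have := congrArg φ^[k] hab
  rwa [← Function.iterate_succ_apply, ← Function.iterate_succ_apply, h] at this

theorem fpf_iterate {φ : G →* G} {p : ℕ} (hp : p.Prime) (h : φ^[p] = id)
    (hf : MonoidHom.FixedPointFree φ) {i : ℕ} (hi : ¬ p ∣ i) {g : G} (hg : φ^[i] g = g) : g = 1 := by
  apply hf
  have h1 : IsPeriodicPt φ p g := congrFun h g
  have h2 : IsPeriodicPt φ i g := hg
  have := h1.gcd h2
  rw [(hp.coprime_iff_not_dvd.2 hi).gcd_eq_one] at this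
  exact this

/-- Restriction to an invariant subgroup. -/
def res (φ : G →* G) {H : Subgroup G} (hH : Inv φ H) : H →* H :=
  (φ.comp H.subtype).codRestrict H fun x => hH x x.2

theorem res_iterate (φ : G →* G) {H : Subgroup G} (hH : Inv φ H) (n : ℕ) (x : H) :
    ((res φ hH)^[n] x : G) = φ^[n] x := by
  induction n generalizing x with
  | zero => rfl
  | succ n ih => rw [iterate_succ_apply, iterate_succ_apply, ih]; rfl

theorem res_fpf {φ : G →* G} (hf : MonoidHom.FixedPointFree φ) {H : Subgroup G} (hH : Inv φ H) :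
    MonoidHom.FixedPointFree (res φ hH) := fun _ hx =>
  Subtype.ext (hf _ (congrArg Subtype.val hx))

theorem res_period {φ : G →* G} {p : ℕ} (h : φ^[p] = id) {H : Subgroup G} (hH : Inv φ H) :
    (res φ hH)^[p] = id := by
  funext x
  exact Subtype.ext ((res_iterate φ hH p x).trans (congrFun h x))

theorem inv_of_characteristic {φ : G →* G} (hφ : Bijective φ) (H : Subgroup G) [hH : H.Characteristic] :
    Inv φ H := fun x hx => by
  have := characteristic_iff_map_eq.1 hH (MulEquiv.ofBijective φ hφ)
  rw [← this]; exact mem_map_of_mem _ hx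

theorem inv_map_subtype {φ : G →* G} {K : Subgroup G} (hK : Inv φ K) (hφ : Injective φ) [Finite G]
    (H : Subgroup K) [hH : H.Characteristic] : Inv φ (H.map K.subtype) := by
  rintro _ ⟨y, hy, rfl⟩
  have hinj : Injective (res φ hK) := fun a b h => Subtype.ext (hφ (congrArg Subtype.val h))
  exact ⟨res φ hK y, inv_of_characteristic ⟨hinj, Finite.injective_iff_surjective.1 hinj⟩ H y hy, rfl⟩

theorem inv_of_map_eq {φ : G →* G} {H : Subgroup G} (h : H.map φ = H) : Inv φ H := fun _ hx =>
  h ▸ mem_map_of_mem _ hx

theorem map_eq_of_inv [Finite G] {φ : G →* G} (hφ : Injective φ) {H : Subgroup G} (h : Inv φ H) :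
    H.map φ = H := by
  refine eq_of_le_of_card_ge ?_ (card_map_of_injective hφ).ge
  rintro _ ⟨x, hx, rfl⟩
  exact h x hx

theorem inv_normalizer [Finite G] {φ : G →* G} (hφ : Injective φ) {H : Subgroup G} (h : Inv φ H) :
    Inv φ (normalizer (H : Set G)) := by
  have hb : Bijective φ := ⟨hφ, Finite.injective_iff_surjective.1 hφ⟩
  apply inv_of_map_eq
  rw [map_normalizer_eq_of_bijective H hb, map_eq_of_inv hφ h]

theorem inv_centralizer [Finite G] {φ : G →* G} (hφ : Injective φ) {H : Subgroup G} (h : Inv φ H) :
    Inv φ (centralizer (H : Set G)) := by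
  intro x hx
  rw [mem_centralizer_iff]
  intro y hy
  rw [SetLike.mem_coe, ← map_eq_of_inv hφ h] at hy
  obtain ⟨z, hz, rfl⟩ := hy
  rw [← map_mul, ← map_mul, mem_centralizer_iff.1 hx z hz]

/-- The key computation: `Q` cannot act fixed-point-freely on an abelian group of coprime order
compatibly with a fixed-point-free automorphism of prime order. -/
theorem coprime_action_trivial [Finite G] {φ : G →* G} {p : ℕ} (hp : p.Prime) (hφp : φ^[p] = id)
    (hf : MonoidHom.FixedPointFree φ) {R Q : Subgroup G} [R.Normal] [IsMulCommutative R]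
    (hR : Inv φ R) (hQ : Inv φ Q) (hcop : (Nat.card R).Coprime (Nat.card Q))
    (hCQ : R ⊓ centralizer (Q : Set G) = ⊥) : R = ⊥ := by
  classical
  open scoped IsMulCommutative in
  rw [eq_bot_iff]
  intro v hv
  have := Fintype.ofFinite Q
  let c : G → (R →* R) := fun g => (MulAut.conjNormal (H := R) g).toMonoidHom
  let ψ : R →* R := res φ hR
  have hc : ∀ (g : G) (r : R), (c g r : G) = g * r * g⁻¹ := fun g r => rfl
  have hcmul : ∀ (g h : G) (r : R), c g (c h r) = c (g * h) r := fun g h r =>
    Subtype.ext (by simp [hc, mul_assoc])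
  -- the sum over `Q` is trivial
  have hN : ∀ r : R, ∏ u : Q, c (u : G) r = 1 := by
    intro r
    have hfix : ∀ w : Q, c (w : G) (∏ u : Q, c (u : G) r) = ∏ u : Q, c (u : G) r := by
      intro w
      rw [map_prod]
      exact Fintype.prod_equiv (Equiv.mulLeft w) _ _ fun u => by simp [hcmul]
    generalize (∏ u : Q, c (u : G) r) = s at hfix ⊢
    apply Subtype.ext
    rw [OneMemClass.coe_one, ← Subgroup.mem_bot, ← hCQ]
    refine ⟨s.2, mem_centralizer_iff.2 fun w hw => ?_⟩
    exact mul_inv_eq_iff_eq_mul.1 (congrArg Subtype.val (hfix ⟨w, hw⟩))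
  let T : ℕ → R := fun i => ∏ u : Q, c (u : G) (ψ^[i] (c ((u : G)⁻¹) ⟨v, hv⟩))
  have hsum : ∏ i ∈ Finset.range p, T i = 1 := by
    rw [Finset.prod_comm]
    refine Finset.prod_eq_one fun u _ => ?_
    rw [← map_prod]
    have h1 := (res_fpf hf hR).prod_pow_eq_one (res_period hφp hR) (c ((u : G)⁻¹) ⟨v, hv⟩)
    rw [show ∏ i ∈ Finset.range p, ψ^[i] (c ((u : G)⁻¹) ⟨v, hv⟩) =
      ((List.range p).map fun k => ψ^[k] (c ((u : G)⁻¹) ⟨v, hv⟩)).prod from rfl]
    erw [h1]; rw [map_one]
  have hTi : ∀ i, ¬ p ∣ i → T i = 1 := by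
    intro i hi
    let f : Q → Q := fun u => u * ((res φ hQ)^[i] u)⁻¹
    have hfb : Bijective f := by
      refine ⟨fun a b hab => ?_, ?_⟩
      · apply inv_mul_eq_one.1
        refine fpf_iterate hp (res_period hφp hQ) (res_fpf hf hQ) hi (g := a⁻¹ * b) ?_
        rw [iterate_map_mul, iterate_map_inv]
        have hab' : a * ((res φ hQ)^[i] a)⁻¹ = b * ((res φ hQ)^[i] b)⁻¹ := hab
        calc ((res φ hQ)^[i] a)⁻¹ * (res φ hQ)^[i] b
            = a⁻¹ * (a * ((res φ hQ)^[i] a)⁻¹) * (res φ hQ)^[i] b := by group
          _ = a⁻¹ * b := by rw [hab']; group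
      · refine Finite.injective_iff_surjective.1 fun a b hab => ?_
        apply inv_mul_eq_one.1
        refine fpf_iterate hp (res_period hφp hQ) (res_fpf hf hQ) hi (g := a⁻¹ * b) ?_
        rw [iterate_map_mul, iterate_map_inv]
        have hab' : a * ((res φ hQ)^[i] a)⁻¹ = b * ((res φ hQ)^[i] b)⁻¹ := hab
        calc ((res φ hQ)^[i] a)⁻¹ * (res φ hQ)^[i] b
            = a⁻¹ * (a * ((res φ hQ)^[i] a)⁻¹) * (res φ hQ)^[i] b := by group
          _ = a⁻¹ * b := by rw [hab']; group
    rw [← hN (ψ^[i] ⟨v, hv⟩)]
    refine Fintype.prod_bijective f hfb _ _ fun u => ?_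
    apply Subtype.ext
    simp only [hc, f, coe_mul, InvMemClass.coe_inv, res_iterate, ψ]
    rw [inv_inv, iterate_map_mul, iterate_map_mul, iterate_map_inv]
    group
  rw [← Finset.mul_prod_erase _ T (Finset.mem_range.2 hp.pos)] at hsum
  rw [Finset.prod_eq_one (fun i hi => hTi i fun hd => by
    obtain ⟨h0, hlt⟩ := Finset.mem_erase.1 hi
    exact h0 (Nat.eq_zero_of_dvd_of_lt hd (Finset.mem_range.1 hlt))), mul_one] at hsum
  have h0 : ∏ u : Q, c (u : G) (c ((u : G)⁻¹) ⟨v, hv⟩) = 1 := hsum
  simp only [hcmul, mul_inv_cancel] at h0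
  have h1 : (⟨v, hv⟩ : R) ^ Nat.card Q = 1 := by
    rw [← h0, Nat.card_eq_fintype_card, ← Finset.card_univ, ← Finset.prod_const]
    exact Finset.prod_congr rfl fun u _ => Subtype.ext (by simp [hc])
  have h2 : (powCoprime hcop) ⟨v, hv⟩ = (powCoprime hcop) 1 := by
    rw [powCoprime_apply, powCoprime_apply, h1, one_pow]
  exact mem_bot.2 (congrArg Subtype.val ((powCoprime hcop).injective h2))

theorem main : ∀ (n : ℕ) (G : Type u) [Group G] [Finite G], Nat.card G = n → ∀ φ : G →* G,
    MonoidHom.FixedPointFree φ → ∀ p : ℕ, p.Prime → φ^[p] = id → Group.IsNilpotent G := by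
  intro n
  induction n using Nat.strong_induction_on with
  | _ n ih =>
    intro G _ _ hn φ hf p hp hφp
    have hinj : Injective φ := injective_of_iterate hp hφp
    have hbij : Bijective φ := ⟨hinj, Finite.injective_iff_surjective.1 hinj⟩
    let e : G ≃* G := MulEquiv.ofBijective φ hbij
    have hsub : ∀ K : Subgroup G, K ≠ ⊤ → Inv φ K → Group.IsNilpotent K := fun K hK hKi =>
      ih _ (hn ▸ lt_of_le_of_ne (card_le_card_group K) fun h => hK (eq_top_of_card_eq _ h)) K rfl
        _ (res_fpf hf hKi) p hp (res_period hφp hKi)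
    have hquot : ∀ N : Subgroup G, ∀ _ : N.Normal, N ≠ ⊥ → Inv φ N → Group.IsNilpotent (G ⧸ N) := by
      intro N hN hNb hNi
      refine ih _ ?_ (G ⧸ N) rfl (QuotientGroup.map N N φ hNi) ?_ p hp ?_
      · have := (nontrivial_iff_ne_bot N).2 hNb
        rw [← hn, card_eq_card_quotient_mul_card_subgroup N]
        exact lt_mul_of_one_lt_right Nat.card_pos Finite.one_lt_card
      · intro x hx
        induction x using QuotientGroup.induction_on with | H x => ?_
        rw [QuotientGroup.eq_one_iff]
        exact Cfsg.Agent.S0032.result e hf N hNi x (QuotientGroup.eq.1 hx)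
      · have : ∀ (k : ℕ) (x : G), (QuotientGroup.map N N φ hNi)^[k] (x : G ⧸ N) = ((φ^[k] x : G) : G ⧸ N) := by
          intro k
          induction k with
          | zero => intro x; rfl
          | succ k ih => intro x; rw [iterate_succ_apply, iterate_succ_apply, ← ih (φ x)]; rfl
        funext x
        induction x using QuotientGroup.induction_on with | H x => ?_
        rw [this, hφp]; rfl
    have hsyl : ∀ q : ℕ, ∀ _ : Fact q.Prime, ∃ S : Sylow q G, Inv φ (S : Subgroup G) := fun q _ => by
      obtain ⟨S, hS⟩ := Cfsg.Agent.S0031.result e hf q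
      exact ⟨S, inv_of_map_eq hS⟩
    -- the group is solvable
    have hsolv : Group.IsSolvable G := by
      by_cases h2 : IsPGroup 2 G
      · have : Fact (Nat.Prime 2) := ⟨Nat.prime_two⟩
        have := h2.isNilpotent
        infer_instance
      obtain ⟨q, hq, hqd, hq2⟩ : ∃ q, q.Prime ∧ q ∣ Nat.card G ∧ q ≠ 2 := by
        by_contra h
        push Not at h
        apply h2
        exact IsPGroup.of_card (n := (Nat.card G).primeFactorsList.length)
          (Nat.eq_prime_pow_of_unique_prime_dvd Nat.card_pos.ne' fun hd hdd => h _ hd hdd)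
      have : Fact q.Prime := ⟨hq⟩
      obtain ⟨S, hS⟩ := hsyl q inferInstance
      have hS1 : (S : Subgroup G) ≠ ⊥ := S.ne_bot_of_dvd_card hqd
      let Z : Subgroup G := (S : Subgroup G) ⊓ centralizer ((S : Subgroup G) : Set G)
      let J : Subgroup G := thompsonSubgroupAOf (S : Subgroup G)
      have hJi : Inv φ J := by
        apply inv_of_map_eq
        rw [← Cfsg.Agent.H59.thompsonAOf_map φ _ hinj.injOn, map_eq_of_inv hinj hS]
      have hZi : Inv φ Z := fun x hx => ⟨hS x hx.1, inv_centralizer hinj hS x hx.2⟩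
      by_cases hC : centralizer (Z : Set G) = ⊤
      · have hZc : Z ≤ center G := centralizer_eq_top_iff_subset.1 hC
        have hcb : center G ≠ ⊥ := by
          have := (nontrivial_iff_ne_bot (S : Subgroup G)).2 hS1
          have := S.2.center_nontrivial
          obtain ⟨z, hz⟩ := exists_ne (1 : center (S : Subgroup G))
          intro hb
          apply hz
          have hzZ : ((z : (S : Subgroup G)) : G) ∈ Z :=
            ⟨(z : (S : Subgroup G)).2, mem_centralizer_iff.2 fun y hy =>
              congrArg Subtype.val (mem_center_iff.1 z.2 ⟨y, hy⟩)⟩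
          exact Subtype.ext (Subtype.ext (mem_bot.1 (hb ▸ hZc hzZ)))
        have hnil := hquot (center G) inferInstance hcb (inv_of_characteristic hbij _)
        have := Group.of_quotient_center_nilpotent hnil
        infer_instance
      by_cases hN : normalizer (J : Set G) = ⊤
      · have := normalizer_eq_top_iff.1 hN
        have hnil := hquot J this (Cfsg.Agent.H59.thompsonAOf_ne_bot hS1) hJi
        have hJp : IsPGroup q J := S.2.to_le (Cfsg.Agent.H59.thompsonAOf_le _)
        have := hJp.isNilpotent
        exact Group.isSolvable_of_ker_le_range J.subtype (QuotientGroup.mk' J) (by simp)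
      have hCn := hsub _ hC (inv_centralizer hinj hZi)
      have hNn := hsub _ hN (inv_normalizer hinj hJi)
      have hcompl := Cfsg.Agent.S2800.result S (Or.inl hq2)
        Cfsg.Agent.Fusion.hasNormalPComplement_of_isNilpotent
        Cfsg.Agent.Fusion.hasNormalPComplement_of_isNilpotent
      have hc := Cfsg.Agent.Fusion.isComplement'_pResidual hcompl S
      have hOn : Group.IsNilpotent (pResidual q G) := by
        refine hsub _ (fun h => hS1 ?_) (inv_of_characteristic hbij _)
        rw [h, isComplement'_top_left] at hc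
        exact hc
      have := (Cfsg.Agent.Fusion.isPGroup_quotient_pResidual (p := q) (G := G)).isNilpotent
      exact Group.isSolvable_of_ker_le_range (pResidual q G).subtype (QuotientGroup.mk' (pResidual q G)) (by simp)
    by_contra hnot
    have : Nontrivial G := by
      by_contra h
      rw [not_nontrivial_iff_subsingleton] at h
      exact hnot inferInstance
    -- a minimal invariant normal subgroup
    obtain ⟨R, hR⟩ := (Set.toFinite {R : Subgroup G | R.Normal ∧ R ≠ ⊥ ∧ Inv φ R}).exists_minimal
      ⟨⊤, inferInstance, top_ne_bot, fun _ _ => mem_top _⟩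
    obtain ⟨hRn, hRb, hRi⟩ := hR.1
    have hRmin : ∀ W : Subgroup G, W.Normal → W ≤ R → Inv φ W → W = ⊥ ∨ W = R := by
      intro W hW hWR hWi
      by_cases hWb : W = ⊥
      · exact Or.inl hWb
      · exact Or.inr (le_antisymm hWR (hR.2 ⟨hW, hWb, hWi⟩ hWR))
    have : Nontrivial R := (nontrivial_iff_ne_bot R).2 hRb
    have hRab : IsMulCommutative R := by
      have hlt : commutator R < ⊤ := Group.IsSolvable.commutator_lt_top_of_nontrivial R
      rcases hRmin _ inferInstance (map_subtype_le _) (inv_map_subtype hRi hinj (commutator R)) with h | h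
      · rw [map_subtype_commutator] at h
        exact le_centralizer_iff_isMulCommutative.1 (commutator_eq_bot_iff_le_centralizer.1 h)
      · exfalso
        apply hlt.ne
        apply Subgroup.map_injective R.subtype_injective
        rw [h, ← MonoidHom.range_eq_map, range_subtype]
    obtain ⟨r, hr, hrd⟩ := Nat.exists_prime_and_dvd (Nat.ne_of_gt (Finite.one_lt_card (α := R)))
    have : Fact r.Prime := ⟨hr⟩
    have hRp : IsPGroup r R := by
      obtain ⟨T⟩ : Nonempty (Sylow r R) := inferInstance
      have hTn : (T : Subgroup R).Normal := normal_of_comm (T : Subgroup R)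
      have hTc := Sylow.characteristic_of_normal T hTn
      rcases hRmin _ inferInstance (map_subtype_le _) (inv_map_subtype hRi hinj (T : Subgroup R)) with h | h
      · exact absurd ((map_eq_bot_iff_of_injective _ R.subtype_injective).1 h) (T.ne_bot_of_dvd_card hrd)
      · exact h ▸ T.2.map R.subtype
    have hQnil := hquot R hRn hRb hRi
    -- every Sylow subgroup is normal
    apply hnot
    apply ((Group.isNilpotent_of_finite_tfae (G := G)).out 0 3).2
    intro s hs S'
    suffices ∃ S : Sylow s G, (S : Subgroup G).Normal by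
      obtain ⟨S, hS⟩ := this
      obtain ⟨x, rfl⟩ := MulAction.exists_smul_eq G S S'
      rw [Sylow.smul_eq_of_normal]; exact hS
    obtain ⟨S, hSi⟩ := hsyl s hs
    refine ⟨S, ?_⟩
    let K : Subgroup G := ((S : Subgroup G).map (QuotientGroup.mk' R)).comap (QuotientGroup.mk' R)
    have hKe : K = (S : Subgroup G) ⊔ R := by simp [K, comap_map_eq, QuotientGroup.ker_mk']
    have hKn : K.Normal := by
      have h : ((S.mapSurjective (QuotientGroup.mk'_surjective R) : Sylow s (G ⧸ R)) : Subgroup (G ⧸ R)).Normal :=
        inferInstance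
      rw [Sylow.coe_mapSurjective] at h
      exact h.comap _
    rcases eq_or_ne s r with rfl | hsr
    · rwa [hKe, sup_eq_left.2 (hRp.le_sylow_of_normal S)] at hKn
    have hSK : (S : Subgroup G) ≤ K := hKe ▸ le_sup_left
    have hKi : Inv φ K := by
      apply inv_of_map_eq
      rw [hKe, Subgroup.map_sup, map_eq_of_inv hinj hSi, map_eq_of_inv hinj hRi]
    by_cases hK : K = ⊤
    · have hRW : Inv φ (R ⊓ centralizer ((S : Subgroup G) : Set G)) := fun x hx =>
        ⟨hRi x hx.1, inv_centralizer hinj hSi x hx.2⟩
      have hWn : (R ⊓ centralizer ((S : Subgroup G) : Set G)).Normal := by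
        rw [← normalizer_eq_top_iff, eq_top_iff, ← hK, hKe, sup_le_iff]
        refine ⟨fun m hm => ?_, fun m hm => ?_⟩
        · rw [mem_normalizer_iff]
          intro x
          constructor
          · intro hx
            have he : m * x * m⁻¹ = x := mul_inv_eq_iff_eq_mul.2 (mem_centralizer_iff.1 hx.2 m hm)
            rwa [he]
          · intro hx
            have h2 := mem_centralizer_iff.1 hx.2 m hm
            have he : m * x * m⁻¹ = x := by
              have : m * (m * x * m⁻¹) * m⁻¹ = m * x * m⁻¹ := mul_inv_eq_iff_eq_mul.2 h2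
              have := congrArg (fun t => m⁻¹ * t * m) this
              simpa [mul_assoc] using this
            rwa [he] at hx
        · rw [mem_normalizer_iff]
          intro x
          constructor
          · intro hx
            rwa [← mem_centralizer_iff.1 (le_centralizer R hm) x hx.1, mul_inv_cancel_right]
          · intro hx
            have h1 : x ∈ R := by simpa [mul_assoc] using hRn.conj_mem _ hx.1 m⁻¹
            rwa [← mem_centralizer_iff.1 (le_centralizer R hm) x h1, mul_inv_cancel_right] at hx
      rcases hRmin _ hWn inf_le_left hRW with h | h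
      · exfalso
        refine hRb (coprime_action_trivial hp hφp hf hRi hSi ?_ h)
        exact IsPGroup.coprime_card_of_ne r s hsr.symm _ _ hRp S.2
      · rw [← normalizer_eq_top_iff, eq_top_iff, ← hK, hKe, sup_le_iff]
        exact ⟨le_normalizer, ((h.ge).trans inf_le_right).trans (centralizer_le_normalizer _)⟩
    · have hKnil := hsub K hK hKi
      have hPn : ((S.subtype hSK : Sylow s K) : Subgroup K).Normal := inferInstance
      have hPc := Sylow.characteristic_of_normal (S.subtype hSK) hPn
      have h : ((((S.subtype hSK : Sylow s K)) : Subgroup K).map K.subtype).Normal := inferInstance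
      rwa [Sylow.coe_subtype, map_subgroupOf_eq_of_le hSK] at h

end Cfsg.Agent.H24.FPFAut
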