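import Cfsg.Agent.H24.KleinFourBlock
import Cfsg.Agent.S0895

/-!
# The order formulas for a principal 2-block with a Sylow 2-subgroup of order four
-/

set_option autoImplicit false
set_option linter.style.haveILetI false

open scoped ComplexConjugate

namespace Cfsg.Agent.H24.KleinBlock

open BlockBasic CharBasic

universe u

variable {G : Type u} [Group G]

/-- A character with value `±1` at an involution has odd degree. -/
theorem odd_degree [Fintype G] (χ : IrrCharacter G) {J : G} (hJ : orderOf J = 2) {e : ℤ}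
    (he : e = 1 ∨ e = -1) (hval : (χ : G → ℂ) J = e) : Odd (charDegree (χ : G → ℂ)) := by
  classical
  haveI := Fintype.ofFinite (Subgroup.zpowers J)
  obtain ⟨m, hm⟩ := H83.sum_subgroup_eq (IsIrr.isCharacter χ.2) (Subgroup.zpowers J)
  rw [Nat.card_zpowers, hJ] at hm
  have hJ1 : J ≠ 1 := fun e => by rw [e, orderOf_one] at hJ; omega
  have hmem : ∀ x : G, x ∈ ({1, J} : Finset G) ↔ x ∈ Subgroup.zpowers J := by
    intro x
    rw [mem_zpowers_iff_mem_range_orderOf, hJ]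
    simp [Finset.range_add_one, or_comm, eq_comm]
  rw [← Finset.sum_subtype ({1, J} : Finset G) hmem (fun x => (χ : G → ℂ) x),
    Finset.sum_pair hJ1.symm, hval, apply_one_eq_charDegree] at hm
  have hz : (charDegree (χ : G → ℂ) : ℤ) + e = 2 * (m : ℤ) := by exact_mod_cast hm
  rw [Nat.odd_iff]
  rcases he with rfl | rfl <;> omega

/-- The formulas in integers. -/
theorem klein_int [Fintype G] {M : Ideal AlgInt} (hM : IsPModular 2 M) (g₀ : ℕ) (hg₀ : Odd g₀)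
    (hG : Nat.card G = 4 * g₀) (hnc : ¬ ∃ N : Subgroup G, N.Normal ∧ Nat.card N = g₀)
    (P : Sylow 2 G) (J : G) (hJ : J ∈ (P : Subgroup G)) (hJ2 : orderOf J = 2)
    (χ₁ χ₂ χ₃ : IrrCharacter G) (ε₁ ε₂ ε₃ : ℤ)
    (hB : principalBlock M G = {χ : IrrCharacter G | (χ : G → ℂ) = (fun _ => 1) ∨ χ = χ₁ ∨ χ = χ₂ ∨ χ = χ₃})
    (hdist : (χ₁ : G → ℂ) ≠ (fun _ => 1) ∧ (χ₂ : G → ℂ) ≠ (fun _ => 1) ∧ (χ₃ : G → ℂ) ≠ (fun _ => 1) ∧
      χ₁ ≠ χ₂ ∧ χ₁ ≠ χ₃ ∧ χ₂ ≠ χ₃)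
    (hε : (ε₁ = 1 ∨ ε₁ = -1) ∧ (ε₂ = 1 ∨ ε₂ = -1) ∧ (ε₃ = 1 ∨ ε₃ = -1))
    (hval : (χ₁ : G → ℂ) J = ε₁ ∧ (χ₂ : G → ℂ) J = ε₂ ∧ (χ₃ : G → ℂ) J = ε₃) :
    ∃ N : ℕ, 0 < N ∧ Nat.card (Subgroup.centralizer ({J} : Set G)) =
        N * Nat.card (Subgroup.centralizer ((P : Subgroup G) : Set G)) ∧
      1 + ε₁ * (charDegree (χ₁ : G → ℂ) : ℤ) + ε₂ * charDegree (χ₂ : G → ℂ) + ε₃ * charDegree (χ₃ : G → ℂ) = 0 ∧
      ((Subgroup.centralizer ({J} : Set G)).index : ℤ) * (((charDegree (χ₁ : G → ℂ) : ℤ) + ε₁) *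
          ((charDegree (χ₂ : G → ℂ) : ℤ) + ε₂) * ((charDegree (χ₃ : G → ℂ) : ℤ) + ε₃)) =
        8 * (N : ℤ) ^ 2 * ((charDegree (χ₁ : G → ℂ) : ℤ) * charDegree (χ₂ : G → ℂ) * charDegree (χ₃ : G → ℂ)) := by
  obtain ⟨N, hN, hrel, hcount, -⟩ := klein_formulas hM g₀ hg₀ hG hnc P J hJ hJ2 χ₁ χ₂ χ₃ ε₁ ε₂ ε₃ hB hdist hε hval
  have h1 := charDegree_pos χ₁
  have h2 := charDegree_pos χ₂
  have h3 := charDegree_pos χ₃
  simp only [apply_one_eq_charDegree] at hrel hcount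
  refine ⟨N, Nat.pos_of_ne_zero fun e => ?_, hN, by exact_mod_cast hrel, ?_⟩
  · rw [e, zero_mul] at hN
    exact Nat.card_pos.ne' hN
  have key : ((Subgroup.centralizer ({J} : Set G)).index : ℂ) * (((charDegree (χ₁ : G → ℂ) : ℂ) + ε₁) *
          ((charDegree (χ₂ : G → ℂ) : ℂ) + ε₂) * ((charDegree (χ₃ : G → ℂ) : ℂ) + ε₃)) =
        8 * (N : ℂ) ^ 2 * ((charDegree (χ₁ : G → ℂ) : ℂ) * charDegree (χ₂ : G → ℂ) * charDegree (χ₃ : G → ℂ)) := by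
    have hx1 : (charDegree (χ₁ : G → ℂ) : ℂ) ≠ 0 := Nat.cast_ne_zero.2 h1.ne'
    have hx2 : (charDegree (χ₂ : G → ℂ) : ℂ) ≠ 0 := Nat.cast_ne_zero.2 h2.ne'
    have hx3 : (charDegree (χ₃ : G → ℂ) : ℂ) ≠ 0 := Nat.cast_ne_zero.2 h3.ne'
    have hs : ∀ e : ℤ, e = 1 ∨ e = -1 → (e : ℂ) ^ 2 = 1 := by rintro e (rfl | rfl) <;> simp
    have s1 := hs ε₁ hε.1
    have s2 := hs ε₂ hε.2.1
    have s3 := hs ε₃ hε.2.2
    rw [hcount]
    generalize (charDegree (χ₁ : G → ℂ) : ℂ) = x at *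
    generalize (charDegree (χ₂ : G → ℂ) : ℂ) = y at *
    generalize (charDegree (χ₃ : G → ℂ) : ℂ) = z at *
    generalize ((Subgroup.centralizer ({J} : Set G)).index : ℂ) = i at *
    field_simp
    linear_combination (i * (ε₁ : ℂ) * ε₂ * ε₃) * hrel - (i * ε₂ * ε₃ * x) * s1 - (i * ε₁ * ε₃ * y) * s2 -
      (i * ε₁ * ε₂ * z) * s3
  exact_mod_cast key

/-- The additional facts when the product of the three signs is `-1` and the third sign is `-1`. -/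
theorem klein_minus [Fintype G] {M : Ideal AlgInt} (hM : IsPModular 2 M) (g₀ : ℕ) (hg₀ : Odd g₀)
    (hG : Nat.card G = 4 * g₀) (hnc : ¬ ∃ N : Subgroup G, N.Normal ∧ Nat.card N = g₀)
    (P : Sylow 2 G) (J : G) (hJ : J ∈ (P : Subgroup G)) (hJ2 : orderOf J = 2)
    (χ₁ χ₂ χ₃ : IrrCharacter G) (ε₁ ε₂ ε₃ : ℤ)
    (hB : principalBlock M G = {χ : IrrCharacter G | (χ : G → ℂ) = (fun _ => 1) ∨ χ = χ₁ ∨ χ = χ₂ ∨ χ = χ₃})
    (hdist : (χ₁ : G → ℂ) ≠ (fun _ => 1) ∧ (χ₂ : G → ℂ) ≠ (fun _ => 1) ∧ (χ₃ : G → ℂ) ≠ (fun _ => 1) ∧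
      χ₁ ≠ χ₂ ∧ χ₁ ≠ χ₃ ∧ χ₂ ≠ χ₃)
    (hε : (ε₁ = 1 ∨ ε₁ = -1) ∧ (ε₂ = 1 ∨ ε₂ = -1) ∧ (ε₃ = 1 ∨ ε₃ = -1))
    (hval : (χ₁ : G → ℂ) J = ε₁ ∧ (χ₂ : G → ℂ) J = ε₂ ∧ (χ₃ : G → ℂ) J = ε₃)
    (hprod : ε₁ * ε₂ * ε₃ = -1) (hε₃ : ε₃ = -1) :
    ∃ N x : ℕ, 0 < x ∧ Nat.card (Subgroup.centralizer ({J} : Set G)) =
        N * Nat.card (Subgroup.centralizer ((P : Subgroup G) : Set G)) ∧
      charDegree (χ₃ : G → ℂ) = 2 * x + 1 ∧
      (Subgroup.centralizer ({J} : Set G)).index * (x + 1) ^ 2 = 4 * N ^ 2 * (x * (2 * x + 1)) ∧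
      x + 1 ∣ 2 * N := by
  classical
  obtain ⟨N, hN0, hN, hrel, hkey⟩ := klein_int hM g₀ hg₀ hG hnc P J hJ hJ2 χ₁ χ₂ χ₃ ε₁ ε₂ ε₃ hB hdist hε hval
  obtain ⟨N', hN', -, -, hFS⟩ := klein_formulas hM g₀ hg₀ hG hnc P J hJ hJ2 χ₁ χ₂ χ₃ ε₁ ε₂ ε₃ hB hdist hε hval
  subst hε₃
  have h1 := charDegree_pos χ₁
  have h2 := charDegree_pos χ₂
  have h3 := charDegree_pos χ₃
  obtain ⟨rfl, rfl⟩ : ε₁ = 1 ∧ ε₂ = 1 := by
    rcases hε.1 with rfl | rfl <;> rcases hε.2.1 with rfl | rfl <;> first | exact ⟨rfl, rfl⟩ | omega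
  have hodd₁ := odd_degree χ₁ hJ2 (Or.inl rfl) hval.1
  have hodd₂ := odd_degree χ₂ hJ2 (Or.inl rfl) hval.2.1
  have hodd₃ := odd_degree χ₃ hJ2 (Or.inr rfl) hval.2.2
  have htriv : (trivialIrr : IrrCharacter G) ∈ principalBlock M G := sameBlock_refl hM _
  have hreal0 : H80.conjIrr (trivialIrr : IrrCharacter G) = trivialIrr :=
    Subtype.ext (funext fun g => by simp [H80.conjIrr_apply, trivialIrr])
  have hmem : ∀ χ : IrrCharacter G, χ = χ₁ ∨ χ = χ₂ ∨ χ = χ₃ →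
      H80.conjIrr χ = χ₁ ∨ H80.conjIrr χ = χ₂ ∨ H80.conjIrr χ = χ₃ := by
    intro χ hχ
    have hin : χ ∈ principalBlock M G := by rw [hB]; exact Or.inr hχ
    have h : H80.conjIrr χ ∈ principalBlock M G := H80.conjIrr_mem_blockOf hreal0 hin
    rw [hB] at h
    refine Or.resolve_left h fun e => ?_
    have he : H80.conjIrr χ = trivialIrr := Subtype.ext e
    have : χ = trivialIrr := by rw [← H80.conjIrr_conjIrr χ, he, hreal0]
    rcases hχ with rfl | rfl | rfl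
    · exact hdist.1 (by rw [this]; rfl)
    · exact hdist.2.1 (by rw [this]; rfl)
    · exact hdist.2.2.1 (by rw [this]; rfl)
  have hvalc : ∀ (χ : IrrCharacter G) (e : ℤ), (χ : G → ℂ) J = e → (H80.conjIrr χ : G → ℂ) J = e :=
    fun χ e h => by rw [H80.conjIrr_apply, h, map_intCast]
  have h3real : H80.conjIrr χ₃ = χ₃ := by
    have hv := hvalc χ₃ _ hval.2.2
    rcases hmem χ₃ (Or.inr (Or.inr rfl)) with h | h | h
    · rw [h, hval.1] at hv; norm_num at hv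
    · rw [h, hval.2.1] at hv; norm_num at hv
    · exact h
  have hx : charDegree (χ₁ : G → ℂ) = charDegree (χ₂ : G → ℂ) := by
    rcases hmem χ₁ (Or.inl rfl) with h | h | h
    · have h2real : H80.conjIrr χ₂ = χ₂ := by
        rcases hmem χ₂ (Or.inr (Or.inl rfl)) with h' | h' | h'
        · exact absurd (by rw [← H80.conjIrr_conjIrr χ₂, h', h] : χ₂ = χ₁).symm hdist.2.2.2.1
        · exact h'
        · exact absurd (by rw [← H80.conjIrr_conjIrr χ₂, h', h3real] : χ₂ = χ₃) hdist.2.2.2.2.2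
      have hnu : ∀ χ : IrrCharacter G, H80.conjIrr χ = χ → Odd (charDegree (χ : G → ℂ)) →
          (Nat.card G : ℂ)⁻¹ * ∑ s : G, (χ : G → ℂ) (s * s) = 1 := fun χ hc ho =>
        S0895.result (χ : G → ℂ) χ.2 (fun g => Complex.conj_eq_iff_im.1
          (by rw [← H80.conjIrr_apply, hc])) _ (apply_one_eq_charDegree χ) ho
      rw [hnu χ₁ h hodd₁, hnu χ₂ h2real hodd₂, hnu χ₃ h3real hodd₃, map_one] at hFS
      norm_num at hFS
    · have he : ((charDegree (χ₁ : G → ℂ) : ℂ)) = charDegree (χ₂ : G → ℂ) := by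
        rw [← apply_one_eq_charDegree, ← apply_one_eq_charDegree, ← h, H80.conjIrr_apply,
          apply_one_eq_charDegree, Complex.conj_natCast]
      exact_mod_cast he
    · have hv := hvalc χ₁ _ hval.1
      rw [h, hval.2.2] at hv; norm_num at hv
  set x := charDegree (χ₁ : G → ℂ) with hxdef
  rw [← hx] at hrel hkey
  have hq : charDegree (χ₃ : G → ℂ) = 2 * x + 1 := by omega
  refine ⟨N, x, h1, hN, hq, ?_, ?_⟩
  · rw [hq] at hkey
    push_cast at hkey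
    have hx0 : (x : ℤ) ≠ 0 := by exact_mod_cast h1.ne'
    have hk' : ((Subgroup.centralizer ({J} : Set G)).index : ℤ) * ((x : ℤ) + 1) ^ 2 =
        4 * (N : ℤ) ^ 2 * ((x : ℤ) * (2 * x + 1)) := by
      apply mul_left_cancel₀ (mul_ne_zero (two_ne_zero' ℤ) hx0)
      linear_combination hkey
    exact_mod_cast hk'
  · set idx := (Subgroup.centralizer ({J} : Set G)).index with hidx
    have hd : ∀ (χ : IrrCharacter G) (e : ℤ), (e = 1 ∨ e = -1) → (χ : G → ℂ) J = e →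
        charDegree (χ : G → ℂ) ∣ idx := by
      intro χ e he hv
      have hi := H83.omega_class_isIntegral χ.2 J
      rw [hv, apply_one_eq_charDegree] at hi
      have hd0 : (charDegree (χ : G → ℂ) : ℂ) ≠ 0 := Nat.cast_ne_zero.2 (charDegree_pos χ).ne'
      have h := H83.int_dvd_of_isIntegral hi (n := (charDegree (χ : G → ℂ) : ℤ)) (m := idx * e)
        (by exact_mod_cast (charDegree_pos χ).ne') (by rw [hidx]; push_cast; field_simp)
      rcases he with rfl | rfl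
      · rw [mul_one] at h; exact Int.natCast_dvd_natCast.1 h
      · rw [mul_neg, mul_one, dvd_neg] at h; exact Int.natCast_dvd_natCast.1 h
    have hdx : x ∣ idx := hd χ₁ 1 (Or.inl rfl) hval.1
    have hdq : 2 * x + 1 ∣ idx := hq ▸ hd χ₃ (-1) (Or.inr rfl) hval.2.2
    have hco : x.Coprime (2 * x + 1) := Nat.coprime_of_dvd fun k hk h1' h2' =>
      hk.not_dvd_one ((Nat.dvd_add_right (h1'.mul_left 2)).1 h2')
    obtain ⟨k, hk⟩ := hco.mul_dvd_of_dvd_of_dvd hdx hdq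
    have hkey' : idx * (x + 1) ^ 2 = 4 * N ^ 2 * (x * (2 * x + 1)) := by
      rw [hq] at hkey
      have hx0 : (x : ℤ) ≠ 0 := by exact_mod_cast h1.ne'
      have hk' : (idx : ℤ) * ((x : ℤ) + 1) ^ 2 = 4 * (N : ℤ) ^ 2 * ((x : ℤ) * (2 * x + 1)) := by
        apply mul_left_cancel₀ (mul_ne_zero (two_ne_zero' ℤ) hx0)
        push_cast at hkey
        linear_combination hkey
      exact_mod_cast hk'
    rw [← Nat.pow_dvd_pow_iff two_ne_zero]
    refine ⟨k, ?_⟩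
    have hpos : 0 < x * (2 * x + 1) := Nat.mul_pos h1 (by omega)
    apply Nat.eq_of_mul_eq_mul_left hpos
    rw [hk] at hkey'
    linarith [hkey']

end Cfsg.Agent.H24.KleinBlock
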