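import Cfsg.Agent.H24.NormalPSupport
import Cfsg.Agent.BlockBasic.InvariantBlock
import Cfsg.Agent.BlockBasic.Orth
import Cfsg.Agent.H35.Consequences
import Cfsg.Agent.CharInduce.Ops

/-!
# Blocks of the quotient by a normal `p`-subgroup
-/

set_option autoImplicit false

open scoped ComplexConjugate

namespace Cfsg.Agent.H24.QuotientDefect

open BlockBasic CharBasic MonoidAlgebra

universe u

variable {G : Type u} [Group G] {p : ℕ} [hp : Fact p.Prime] {M : Ideal AlgInt}

/-- Inflation of an irreducible character of a quotient. -/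
noncomputable def infl [Finite G] (N : Subgroup G) [N.Normal] (ξ : IrrCharacter (G ⧸ N)) :
    IrrCharacter G :=
  ⟨(ξ : G ⧸ N → ℂ) ∘ QuotientGroup.mk,
    CharInduce.IsIrr.comp ξ.2 (QuotientGroup.mk' N) (QuotientGroup.mk'_surjective N)⟩

theorem infl_injective [Finite G] (N : Subgroup G) [N.Normal] :
    Function.Injective (infl N) := by
  intro a b h
  apply Subtype.ext
  funext q
  induction q using QuotientGroup.induction_on with
  | H g => exact congrFun (congrArg Subtype.val h) g

omit hp in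
theorem sameBlock_infl [Finite G] (hM : IsPModular p M) (N : Subgroup G) [N.Normal]
    {ξ η : IrrCharacter (G ⧸ N)} (h : SameBlock M (ξ : G ⧸ N → ℂ) (η : G ⧸ N → ℂ)) :
    SameBlock M (infl N ξ : G → ℂ) (infl N η : G → ℂ) := by
  intro g
  set π := QuotientGroup.mk' N
  obtain ⟨m, hm⟩ : (Subgroup.centralizer ({π g} : Set (G ⧸ N))).index ∣
      (Subgroup.centralizer ({g} : Set G)).index := by
    rw [← Subgroup.index_comap_of_surjective _ (QuotientGroup.mk'_surjective N)]
    refine Subgroup.index_dvd_of_le fun y hy => ?_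
    rw [Subgroup.mem_comap, Subgroup.mem_centralizer_singleton_iff, ← map_mul, ← map_mul,
      Subgroup.mem_centralizer_singleton_iff.1 hy]
  have he : ∀ ζ : IrrCharacter (G ⧸ N), centralChar (infl N ζ : G → ℂ) g =
      (m : ℂ) * centralChar (ζ : G ⧸ N → ℂ) (π g) := by
    intro ζ
    show ((Subgroup.centralizer ({g} : Set G)).index : ℂ) * (ζ : G ⧸ N → ℂ) (π g) /
      (ζ : G ⧸ N → ℂ) ((1 : G) : G ⧸ N) = _
    rw [centralChar, hm]
    push_cast
    ring_nf
    rfl
  rw [he, he, ← mul_sub]
  exact memLocalIdeal_mul hM (natCast_mem (locRing hM) m) (h (π g))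

omit hp in
/-- Summing a character over a coset of a normal subgroup. -/
theorem sum_coset [Fintype G] (N : Subgroup G) [N.Normal] [DecidablePred (· ∈ N)]
    (χ : IrrCharacter G) :
    (∀ x, ∑ n with n ∈ N, (χ : G → ℂ) (n * x) = 0) ∨ (∀ n ∈ N, (χ : G → ℂ) n = (χ : G → ℂ) 1) := by
  classical
  set z : MonoidAlgebra ℂ G := ofFun fun g => if g ∈ N then (1 : ℂ) else 0
  have hzc : IsCentralElt z := isCentralElt_ofFun fun g c => by
    by_cases hg : g ∈ N
    · simp [hg, (inferInstance : N.Normal).conj_mem g hg c]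
    · have : ¬ c * g * c⁻¹ ∈ N := fun h => hg (by
        simpa [mul_assoc] using (inferInstance : N.Normal).conj_mem _ h c⁻¹)
      simp [hg, this]
  have hval : ∀ x : G, chiLin (χ : G → ℂ) (z * single x (1 : ℂ)) =
      ∑ n with n ∈ N, (χ : G → ℂ) (n * x) := by
    intro x
    simp only [chiLin, Finset.sum_filter]
    refine Fintype.sum_equiv (Equiv.mulRight x⁻¹) _ _ fun g => ?_
    simp only [Equiv.coe_mulRight, inv_mul_cancel_right, coeff_mul_single_apply, z, coeff_ofFun]
    split_ifs <;> simp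
  by_cases hω : omega (χ : G → ℂ) z = 0
  · left
    intro x
    rw [← hval, chiLin_central_mul χ.2 hzc, hω, zero_mul]
  · right
    intro n hn
    have h1 : ∑ m with m ∈ N, (χ : G → ℂ) (m * n) = ∑ m with m ∈ N, (χ : G → ℂ) (m * 1) := by
      simp only [Finset.sum_filter]
      refine Fintype.sum_equiv (Equiv.mulRight n) _ _ fun m => ?_
      simp [Subgroup.mul_mem_cancel_right N hn]
    rw [← hval, ← hval, chiLin_central_mul χ.2 hzc, chiLin_central_mul χ.2 hzc, chiLin_single,
      chiLin_single, one_mul, one_mul] at h1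
    exact mul_left_cancel₀ hω h1

/-- Regular elements centralising `N` have centralisers mapping onto those of their images. -/
theorem comap_centralizer [Finite G] (N : Subgroup G) [N.Normal] (hN : IsPGroup p N) {g : G}
    (hg : ¬ p ∣ orderOf g) (hgN : g ∈ Subgroup.centralizer (N : Set G)) :
    (Subgroup.centralizer ({QuotientGroup.mk' N g} : Set (G ⧸ N))).comap (QuotientGroup.mk' N) =
      Subgroup.centralizer ({g} : Set G) := by
  refine le_antisymm (fun h hh => ?_) (fun h hh => ?_)
  · rw [Subgroup.mem_comap, Subgroup.mem_centralizer_singleton_iff, ← map_mul, ← map_mul] at hh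
    rw [Subgroup.mem_centralizer_singleton_iff]
    set n := g⁻¹ * (h * g * h⁻¹) with hn
    have hnN : n ∈ N := by
      rw [← QuotientGroup.eq_one_iff, ← QuotientGroup.mk'_apply, hn]
      simp only [map_mul, map_inv]
      rw [← map_mul, hh, map_mul]; group
    have hc : Commute n g := Subgroup.mem_centralizer_iff.1 hgN n hnN
    have hk : ∃ k, orderOf n = p ^ k := by
      obtain ⟨k, hk⟩ := IsPGroup.iff_orderOf.1 hN ⟨n, hnN⟩
      exact ⟨k, by rw [← hk, Subgroup.orderOf_mk]⟩
    have h1 : pPart (p := p) (n * g) = n := pPart_mul_of hc hk hg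
    have h2 : n * g = h * g * h⁻¹ := by rw [hc.eq, hn, mul_inv_cancel_left]
    rw [h2, (pPart_eq_one_iff _).2 (by
      rw [show orderOf (h * g * h⁻¹) = orderOf g from MulEquiv.orderOf_eq (MulAut.conj h) g]
      exact hg)] at h1
    rw [← h1, one_mul] at h2
    conv_rhs => rw [h2]
    group
  · rw [Subgroup.mem_comap, Subgroup.mem_centralizer_singleton_iff, ← map_mul, ← map_mul,
      Subgroup.mem_centralizer_singleton_iff.1 hh]

/-- Every block contains a block of the quotient whose defect groups are the images. -/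
theorem exists_contained [Finite G] (hM : IsPModular p M) (N : Subgroup G) [N.Normal]
    (hN : IsPGroup p N) {B : Set (IrrCharacter G)} (hB : IsPBlock M B) :
    ∃ Bbar : Set (IrrCharacter (G ⧸ N)), IsPBlock M Bbar ∧ (∀ χ ∈ Bbar, infl N χ ∈ B) ∧
      ∀ Dbar : Subgroup (G ⧸ N), IsDefectGroup p M Bbar Dbar ↔
        ∃ P : Subgroup G, IsDefectGroup p M B P ∧ Dbar = P.map (QuotientGroup.mk' N) := by
  classical
  cases nonempty_fintype G
  haveI := Fintype.ofFinite (G ⧸ N)
  obtain ⟨g, hg⟩ := exists_isDefectClass (p := p) hM hB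
  have hreg := H35.not_dvd_orderOf_of_isDefectClass hM hB hg
  have hgN : g ∈ Subgroup.centralizer (N : Set G) := by_contra fun h =>
    hg.2.1 (by rw [NormalPSupport.blockCoeff_eq_zero hM N hN hB h]; exact memLocalIdeal_zero hM)
  set A : Set (IrrCharacter (G ⧸ N)) := {ξ | infl N ξ ∈ B}
  have hA : ∀ ξ ∈ A, blockOf M (ξ : G ⧸ N → ℂ) ⊆ A := by
    intro ξ hξ η hη
    show infl N η ∈ B
    rw [isPBlock_eq_blockOf hM hB hξ]
    exact sameBlock_infl hM N hη
  -- summing the idempotent over the coset of a regular element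
  have hcoefA : blockCoeff A (g : G ⧸ N) = blockCoeff B g := by
    have hsum : ∑ n with n ∈ N, blockCoeff B (n * g) = blockCoeff B g := by
      rw [Finset.sum_eq_single 1 (fun n hn hne => ?_) (fun h => absurd (by simp [N.one_mem]) h),
        one_mul]
      have hnN := (Finset.mem_filter.1 hn).2
      refine blockCoeff_eq_zero_of_singular hM hB ?_
      have hc : Commute n g := Subgroup.mem_centralizer_iff.1 hgN n hnN
      obtain ⟨k, hk⟩ := IsPGroup.iff_orderOf.1 hN ⟨n, hnN⟩
      rw [Subgroup.orderOf_mk] at hk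
      rcases k with _ | k
      · exact absurd (orderOf_eq_one_iff.1 (by simpa using hk)) hne
      rw [hc.orderOf_mul_eq_mul_orderOf_of_coprime, hk]
      · exact dvd_mul_of_dvd_left (dvd_pow_self p k.succ_ne_zero) _
      · rw [hk]
        exact (hp.out.coprime_iff_not_dvd.2 hreg).pow_left _
    rw [← hsum]
    simp only [blockCoeff, finsum_mem_eq_sum_ite, ← Finset.mul_sum]
    rw [Finset.sum_comm]
    have hdefl : ∀ χ : IrrCharacter G, (∀ n ∈ N, (χ : G → ℂ) n = (χ : G → ℂ) 1) →
        ∃ ξ, infl N ξ = χ := by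
      intro χ h
      obtain ⟨ψ, -, hψ, hirr⟩ := CharInduce.IsChar.exists_deflate (IsIrr.isCharacter χ.2) N h
      exact ⟨⟨ψ, hirr χ.2⟩, Subtype.ext (funext fun x => (hψ x).symm)⟩
    rw [← Finset.sum_subset (Finset.subset_univ (Finset.univ.image (infl N))) (fun χ _ hχ => by
      rcases sum_coset N χ with h | h
      · by_cases hχB : χ ∈ B
        · simp only [if_pos hχB]
          rw [← Finset.mul_sum, ← map_sum, h, map_zero, mul_zero]
        · simp [if_neg hχB]
      · obtain ⟨ξ, rfl⟩ := hdefl χ h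
        exact absurd (Finset.mem_image_of_mem _ (Finset.mem_univ ξ)) hχ),
      Finset.sum_image (fun a _ b _ h => infl_injective N h)]
    have hterm : ∀ ξ : IrrCharacter (G ⧸ N), (∑ n with n ∈ N, if infl N ξ ∈ B then
        (infl N ξ : G → ℂ) 1 * conj ((infl N ξ : G → ℂ) (n * g)) else 0) =
        (Nat.card N : ℂ) * if ξ ∈ A then
          (ξ : G ⧸ N → ℂ) 1 * conj ((ξ : G ⧸ N → ℂ) (g : G ⧸ N)) else 0 := by
      intro ξ
      rw [Finset.sum_congr rfl (g := fun _ => if ξ ∈ A then
        (ξ : G ⧸ N → ℂ) 1 * conj ((ξ : G ⧸ N → ℂ) (g : G ⧸ N)) else 0) fun n hn => ?_]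
      · rw [Finset.sum_const, nsmul_eq_mul, ← Fintype.card_subtype, ← Nat.card_eq_fintype_card]
      · show (if infl N ξ ∈ B then (ξ : G ⧸ N → ℂ) ((1 : G) : G ⧸ N) *
          conj ((ξ : G ⧸ N → ℂ) ((n * g : G) : G ⧸ N)) else 0) = _
        rw [QuotientGroup.mk_mul, (QuotientGroup.eq_one_iff n).2 (Finset.mem_filter.1 hn).2, one_mul]
        rfl
    simp only [hterm, ← Finset.mul_sum]
    rw [Subgroup.card_eq_card_quotient_mul_card_subgroup N, Nat.cast_mul, mul_inv, mul_assoc,
      ← mul_assoc ((Nat.card N : ℂ))⁻¹, inv_mul_cancel₀ (Nat.cast_ne_zero.2 Nat.card_pos.ne'), one_mul]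
  obtain ⟨ξ, hξ, hunit⟩ := exists_blockCoeff_ne_of_union hM hA (x := (g : G ⧸ N))
    (by rw [hcoefA]; exact hg.2.1)
  set Bbar := blockOf M (ξ : G ⧸ N → ℂ)
  have hBbar : IsPBlock M Bbar := isPBlock_blockOf M ξ
  have hsub : ∀ η ∈ Bbar, infl N η ∈ B := hA ξ hξ
  have hcomap := comap_centralizer N hN hreg hgN
  have hdef : IsDefectClass M Bbar (g : G ⧸ N) := by
    refine ⟨memLocalRing_blockCoeff hM hBbar _, hunit, fun η hη h => hg.2.2 _ (hsub η hη) ?_⟩
    have hidx := Subgroup.index_comap_of_surjective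
      (Subgroup.centralizer ({QuotientGroup.mk' N g} : Set (G ⧸ N))) (QuotientGroup.mk'_surjective N)
    rw [hcomap] at hidx
    show MemLocalIdeal M (((Subgroup.centralizer ({g} : Set G)).index : ℂ) *
      (η : G ⧸ N → ℂ) (g : G ⧸ N) / (η : G ⧸ N → ℂ) ((1 : G) : G ⧸ N))
    rw [hidx]
    exact h
  obtain ⟨S⟩ : Nonempty (Sylow p (Subgroup.centralizer ({g} : Set G))) := inferInstance
  set P₀ := H35.sylImage S
  have hP₀ : IsDefectGroup p M B P₀ := ⟨g, hg, S, rfl⟩
  -- the image is a defect group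
  have himg : IsDefectGroup p M Bbar (P₀.map (QuotientGroup.mk' N)) := by
    set Cb := Subgroup.centralizer ({QuotientGroup.mk' N g} : Set (G ⧸ N))
    have hle : P₀.map (QuotientGroup.mk' N) ≤ Cb :=
      Subgroup.map_le_iff_le_comap.2 ((H35.sylImage_le S).trans hcomap.ge)
    have hindex : ¬ p ∣ (P₀.map (QuotientGroup.mk' N)).relIndex Cb := by
      rw [show Cb = (Subgroup.centralizer ({g} : Set G)).map (QuotientGroup.mk' N) by
        rw [← hcomap, Subgroup.map_comap_eq_self_of_surjective (QuotientGroup.mk'_surjective N)],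
        Subgroup.relIndex_map_map, show Subgroup.centralizer ({g} : Set G) ⊔ (QuotientGroup.mk' N).ker =
          Subgroup.centralizer ({g} : Set G) from sup_eq_left.2 (by
            rw [← hcomap]; exact MonoidHom.ker_le_comap _ _)]
      intro h
      have h2 := h.trans (Subgroup.relIndex_dvd_of_le_left _ (le_sup_left (a := P₀)))
      have h3 : P₀.subgroupOf (Subgroup.centralizer ({g} : Set G)) = (S : Subgroup _) :=
        Subgroup.comap_map_eq_self_of_injective (Subgroup.subtype_injective _) _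
      rw [Subgroup.relIndex, h3] at h2
      exact S.not_dvd_index h2
    refine ⟨(g : G ⧸ N), hdef, (((H35.sylImage_isPGroup S).map (QuotientGroup.mk' N)).of_equiv
      (Subgroup.subgroupOfEquivOfLe hle).symm).toSylow hindex, ?_⟩
    show _ = ((P₀.map (QuotientGroup.mk' N)).subgroupOf Cb).map Cb.subtype
    rw [Subgroup.subgroupOf_map_subtype, inf_eq_left.2 hle]
  have hmap : ∀ (c : G) (D : Subgroup G),
      (D.map (MulAut.conj c).toMonoidHom).map (QuotientGroup.mk' N) =
        (D.map (QuotientGroup.mk' N)).map (MulAut.conj (c : G ⧸ N)).toMonoidHom := by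
    intro c D
    rw [Subgroup.map_map, Subgroup.map_map]
    congr 1
  refine ⟨Bbar, hBbar, hsub, fun Dbar => ⟨fun hD => ?_, ?_⟩⟩
  · obtain ⟨c, hc⟩ := H35.defectGroup_le_conj hM hBbar himg hD
    obtain ⟨c, rfl⟩ := QuotientGroup.mk'_surjective N c
    refine ⟨P₀.map (MulAut.conj c).toMonoidHom, H35.isDefectGroup_conj hP₀ c, ?_⟩
    rw [hmap]
    refine Subgroup.eq_of_le_of_card_ge hc (le_of_eq ?_)
    rw [Subgroup.card_map_of_injective (MulAut.conj _).injective, H35.card_defectGroup hM hBbar himg,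
      H35.card_defectGroup hM hBbar hD]
  · rintro ⟨P, hP, rfl⟩
    obtain ⟨c, hc⟩ := H35.defectGroup_le_conj hM hB hP₀ hP
    rw [Subgroup.eq_of_le_of_card_ge hc (le_of_eq (by
      rw [Subgroup.card_map_of_injective (MulAut.conj c).injective, H35.card_defectGroup hM hB hP₀,
        H35.card_defectGroup hM hB hP])), hmap]
    exact H35.isDefectGroup_conj himg _

end Cfsg.Agent.H24.QuotientDefect
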