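import Cfsg.Agent.CharBasic.Indicator
import Cfsg.Agent.CharInduce.Ops
import Cfsg.Agent.BlockBasic.Basic

/-!
# Frobenius–Schur indicator: possible values and the square root count
-/

set_option autoImplicit false

open Matrix
open scoped ComplexConjugate

namespace Cfsg.Agent.H24.FS

open Cfsg.Agent.CharBasic

variable {G : Type*} [Group G] [Fintype G]

/-- The Frobenius–Schur indicator. -/
noncomputable def ind (χ : G → ℂ) : ℂ := (Nat.card G : ℂ)⁻¹ * ∑ s : G, χ (s * s)

/-- An irreducible character with a nonzero invariant form is real. -/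
theorem real_of_invariant {n : ℕ} (ρ : Representation ℂ G (Fin n → ℂ)) [ρ.IsIrreducible]
    {B : Matrix (Fin n) (Fin n) ℂ} (hB0 : B ≠ 0)
    (hB : ∀ t : G, (repMat ρ t)ᵀ * B * repMat ρ t = B) (g : G) : (ρ.character g).im = 0 := by
  have hu : IsUnit B.det := isUnit_iff_ne_zero.2 (det_ne_zero_of_invariant ρ hB hB0)
  have h4 : B * repMat ρ g = (repMat ρ g⁻¹)ᵀ * B := by
    conv_rhs => rw [← hB g]
    rw [← Matrix.mul_assoc, ← Matrix.mul_assoc, ← transpose_mul, ← repMat_mul, mul_inv_cancel,
      repMat_one, transpose_one, Matrix.one_mul]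
  have h5 : repMat ρ g = B⁻¹ * ((repMat ρ g⁻¹)ᵀ * B) := by
    rw [← h4, ← Matrix.mul_assoc, Matrix.nonsing_inv_mul _ hu, Matrix.one_mul]
  have h6 : ρ.character g = ρ.character g⁻¹ := by
    rw [character_eq_trace_repMat, character_eq_trace_repMat, h5, Matrix.trace_mul_comm,
      Matrix.mul_assoc, Matrix.mul_nonsing_inv _ hu, Matrix.mul_one, Matrix.trace_transpose]
  rw [CharBasic.IsChar.inv_apply (CharBasic.isCharacter_character ρ) g] at h6
  exact Complex.conj_eq_iff_im.1 h6.symm

/-- The indicator of a non-real irreducible character is `0`. -/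
theorem ind_eq_zero {χ : G → ℂ} (hχ : Cfsg.IsIrrCharacter G χ) (hreal : ¬ ∀ g, (χ g).im = 0) :
    ind χ = 0 := by
  obtain ⟨n, ρ, hρ, rfl⟩ := hχ
  have h0 : formAverage ρ = 0 := LinearMap.ext fun X => by
    by_contra hne
    exact hreal (real_of_invariant ρ hne (formAverage_invariant ρ X))
  rw [ind, ← trace_transpose_formAverage, h0, LinearMap.comp_zero, map_zero]

/-- The indicator of a real irreducible character is `±1`. -/
theorem ind_eq_one_or {χ : G → ℂ} (hχ : Cfsg.IsIrrCharacter G χ) (hreal : ∀ g, (χ g).im = 0) :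
    ind χ = 1 ∨ ind χ = -1 := by
  obtain ⟨n, ρ, hρ, rfl⟩ := hχ
  obtain ⟨B, hB0, hB⟩ := exists_invariant_of_real ρ hreal
  have hT := transpose_eq_indicator_smul ρ hB
  rw [ind]
  set ν := (Nat.card G : ℂ)⁻¹ * ∑ s : G, ρ.character (s * s)
  have h := congrArg Matrix.transpose hT
  rw [Matrix.transpose_transpose, Matrix.transpose_smul, hT, smul_smul] at h
  obtain ⟨i, j, hij⟩ : ∃ i j, B i j ≠ 0 := by
    by_contra hc
    push Not at hc
    exact hB0 (Matrix.ext hc)
  have h' := congrFun (congrFun h i) j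
  simp only [Matrix.smul_apply, smul_eq_mul] at h'
  exact mul_self_eq_one_iff.1 ((mul_eq_right₀ hij).1 h'.symm)

theorem norm_ind_le {χ : G → ℂ} (hχ : Cfsg.IsIrrCharacter G χ) : ‖ind χ‖ ≤ 1 := by
  by_cases h : ∀ g, (χ g).im = 0
  · rcases ind_eq_one_or hχ h with e | e <;> simp [e]
  · simp [ind_eq_zero hχ h]

end Cfsg.Agent.H24.FS

namespace Cfsg.Agent.H24.FS

open Cfsg.Agent.CharBasic

universe u

variable {G : Type u} [Group G] [Fintype G]

open scoped Classical in
/-- The number of square roots. -/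
theorem card_sqrt (g : G) :
    (Nat.card {s : G // s * s = g} : ℂ) =
      ∑ χ : Cfsg.IrrCharacter G, conj (ind (χ : G → ℂ)) * (χ : G → ℂ) g := by
  let f : G → ℂ := fun g => ∑ s : G, if s * s = g then 1 else 0
  have hf : Cfsg.IsClassFunction G f := by
    intro g x
    refine Fintype.sum_equiv (MulAut.conj x⁻¹).toEquiv _ _ fun s => ?_
    simp only [MulEquiv.toEquiv_eq_coe, EquivLike.coe_coe, MulAut.conj_apply, inv_inv]
    congr 1
    refine propext ⟨fun h => ?_, fun h => ?_⟩
    · rw [show x⁻¹ * s * x * (x⁻¹ * s * x) = x⁻¹ * (s * s) * x by group, h]; group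
    · rw [show s * s = x * (x⁻¹ * s * x * (x⁻¹ * s * x)) * x⁻¹ by group, h]
  have hfg : f g = (Nat.card {s : G // s * s = g} : ℂ) := by
    rw [Nat.card_eq_fintype_card, Fintype.card_subtype]
    simp [f, Finset.sum_boole]
  rw [← hfg, classFunction_expansion hf]
  simp only [Finset.sum_apply, Pi.smul_apply, smul_eq_mul]
  refine Finset.sum_congr rfl fun χ _ => ?_
  congr 1
  simp only [classInner_def, f, Finset.sum_mul, ite_mul, one_mul, zero_mul, ind]
  rw [Finset.sum_comm]
  simp

end Cfsg.Agent.H24.FS
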