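import Cfsg.Agent.BlockBasic.InvariantBlock
import Cfsg.Agent.BlockBasic.Covering
import Cfsg.Agent.H84.InvariantAbove
import Cfsg.Agent.H87.DefectHeight
import Cfsg.Agent.H83.RegInner
import Cfsg.Agent.H35.Consequences
import Cfsg.Prelude.Def_BlockLocal
import Cfsg.Prelude.Def_BlockRank

/-!
# Blocks with abelian defect group over a stable block of a normal subgroup of `p`-power index
-/

set_option autoImplicit false
set_option linter.style.haveILetI false

open scoped ComplexConjugate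

namespace Cfsg.Agent.H24.AbelianCover

open BlockBasic CharBasic

universe u

variable {G : Type u} [Group G] [Fintype G] {p : ℕ} [hp : Fact p.Prime] {M : Ideal AlgInt}
  {B : Set (IrrCharacter G)} {P : Subgroup G}

/-- With abelian defect group, no member of `B` vanishes on the sections of `P` at a defect
class. -/
theorem exists_apply_ne_zero (hM : IsPModular p M) (hB : IsPBlock M B)
    (hP : IsDefectGroup p M B P) (hab : ∀ x ∈ P, ∀ y ∈ P, x * y = y * x) :
    ∃ g : G, ¬ p ∣ orderOf g ∧ ∀ χ ∈ B, ∀ u ∈ P, (χ : G → ℂ) (u * g) ≠ 0 := by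
  classical
  obtain ⟨g, hg, S, hS⟩ := id hP
  have hreg : ¬ p ∣ orderOf g := fun h => hg.2.1 (by
    rw [blockCoeff_eq_zero_of_singular hM hB h]; exact memLocalIdeal_zero hM)
  have hPg : P ≤ Subgroup.centralizer ({g} : Set G) := hS ▸ H35.sylImage_le S
  refine ⟨g, hreg, fun χ hχ u hu hzero => ?_⟩
  obtain ⟨θ, hθ, hθ0⟩ := H83.exists_height_zero hM hB
  have hug : Commute u g := Subgroup.mem_centralizer_singleton_iff.mp (hPg hu)
  have hup : ∃ k, orderOf u = p ^ k := by
    have hPp : IsPGroup p P := by rw [hS]; exact H35.sylImage_isPGroup S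
    obtain ⟨k, hk⟩ := IsPGroup.iff_orderOf.mp hPp ⟨u, hu⟩
    exact ⟨k, by rw [← hk, Subgroup.orderOf_mk]⟩
  have hunit : ¬ MemLocalIdeal M ((θ : G → ℂ) (u * g)) := fun h => by
    have h1 := memLocalIdeal_sub hM h
      (H35.char_mul_congr hM (IsIrr.isCharacter θ.2) hug hup hreg)
    rw [sub_sub_cancel] at h1
    exact H87.not_memLocalIdeal_of_height_zero hM hB hg hθ hθ0 h1
  -- the class of `u * g` has `p`-part at most the minimal degree
  have hPug : P ≤ Subgroup.centralizer ({u * g} : Set G) := fun y hy => by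
    rw [Subgroup.mem_centralizer_singleton_iff]
    exact ((show Commute y u from hab y hy u hu).mul_right
      (Subgroup.mem_centralizer_singleton_iff.mp (hPg hy))).eq
  set N := (Subgroup.centralizer ({u * g} : Set G)).index with hN
  have hN0 : N ≠ 0 := Subgroup.index_ne_zero_of_finite
  have hj : N.factorization p ≤ (charDegree (θ : G → ℂ)).factorization p := by
    rw [H83.factorization_eq hM hθ, hθ0, add_zero]
    have h1 := congrArg (fun n : ℕ => n.factorization p)
      (Subgroup.card_mul_index (Subgroup.centralizer ({u * g} : Set G)))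
    simp only [← hN] at h1
    rw [Nat.factorization_mul Nat.card_pos.ne' hN0, Finsupp.add_apply,
      ← H83.defect_add_minExp hM hB] at h1
    have h2 : blockDefect p B ≤
        (Nat.card (Subgroup.centralizer ({u * g} : Set G))).factorization p := by
      rw [← hp.out.pow_dvd_iff_le_factorization Nat.card_pos.ne',
        ← H35.card_defectGroup hM hB hP]
      exact Subgroup.card_dvd_of_le hPug
    omega
  -- the central character of `θ` there is a unit
  have hω : ¬ MemLocalIdeal M (centralChar (θ : G → ℂ) (u * g)) := by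
    intro h
    apply hunit
    rw [centralChar, ← hN, apply_one_eq_charDegree] at h
    have hd0 : (charDegree (θ : G → ℂ) : ℂ) ≠ 0 := Nat.cast_ne_zero.2 (charDegree_pos θ).ne'
    set d := charDegree (θ : G → ℂ) with hd
    set v := N / p ^ N.factorization p with hv
    have hvp : ¬ p ∣ v := Nat.not_dvd_ordCompl hp.out hN0
    obtain ⟨c, hc⟩ := (Nat.pow_dvd_pow p hj).trans (Nat.ordProj_dvd d p)
    have h1 := memLocalIdeal_mul hM
      (memLocalRing_mul hM (memLocalRing_natCast hM c) (memLocalRing_natCast_inv hM hvp)) h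
    convert h1 using 1
    have hsplit : (N : ℂ) = ((p ^ N.factorization p : ℕ) : ℂ) * (v : ℂ) := by
      rw [← Nat.cast_mul, hv, Nat.ordProj_mul_ordCompl_eq_self]
    have hcs : (d : ℂ) = ((p ^ N.factorization p : ℕ) : ℂ) * (c : ℂ) := by
      rw [← Nat.cast_mul, ← hc]
    have hv0 : (v : ℂ) ≠ 0 := Nat.cast_ne_zero.2 fun h0 => hvp (h0 ▸ dvd_zero p)
    have hc0 : (c : ℂ) ≠ 0 := Nat.cast_ne_zero.2 fun h0 => by
      rw [h0, mul_zero] at hc
      exact (charDegree_pos θ).ne' (by rw [← hd]; exact hc)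
    have hp0 : ((p ^ N.factorization p : ℕ) : ℂ) ≠ 0 :=
      Nat.cast_ne_zero.2 (pow_ne_zero _ hp.out.ne_zero)
    rw [hsplit, hcs]
    field_simp
  apply hω
  have h := isPBlock_sameBlock hM hB hθ hχ (u * g)
  rwa [centralChar, centralChar, hzero, mul_zero, zero_div, sub_zero, ← centralChar] at h

variable {N : Subgroup G} [hN : N.Normal] [Fintype N] {b : Set (IrrCharacter N)}

/-- Linear characters of `G / N` act freely on `B`. -/
theorem hom_eq_one (hM : IsPModular p M) (hidx : ∃ k : ℕ, N.index = p ^ k) (hB : IsPBlock M B)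
    (hP : IsDefectGroup p M B P) (hab : ∀ x ∈ P, ∀ y ∈ P, x * y = y * x) (htop : N ⊔ P = ⊤)
    {χ : IrrCharacter G} (hχ : χ ∈ B) (l : G →* ℂˣ) (hl : ∀ n ∈ N, l n = 1)
    (hfix : ∀ g, (l g : ℂ) * (χ : G → ℂ) g = (χ : G → ℂ) g) : l = 1 := by
  obtain ⟨g, hreg, hne⟩ := exists_apply_ne_zero hM hB hP hab
  have hP1 : P ≤ l.ker := fun u hu => by
    have h := (mul_eq_right₀ (hne χ hχ u hu)).mp (hfix (u * g))
    rw [map_mul, hl g (mem_of_regular hidx hreg), mul_one] at h
    exact MonoidHom.mem_ker.mpr (Units.ext h)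
  refine MonoidHom.ext fun x => ?_
  have hle : (⊤ : Subgroup G) ≤ l.ker := htop ▸ sup_le (fun n hn => hl n hn) hP1
  exact MonoidHom.mem_ker.mp (hle (Subgroup.mem_top x))

omit [Fintype G] hp in
theorem commutator_mem (hab : ∀ x ∈ P, ∀ y ∈ P, x * y = y * x) (htop : N ⊔ P = ⊤) (a b : G) :
    (b * a)⁻¹ * (a * b) ∈ N := by
  have hx : ∀ x : G, ∃ u ∈ P, (x : G ⧸ N) = (u : G ⧸ N) := fun x => by
    obtain ⟨n, hn, u, hu, rfl⟩ := Subgroup.mem_sup_of_normal_left.mp (htop.symm ▸ Subgroup.mem_top x :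
      x ∈ N ⊔ P)
    refine ⟨u, hu, ?_⟩
    rw [QuotientGroup.mk_mul, (QuotientGroup.eq_one_iff n).mpr hn, one_mul]
  obtain ⟨u, hu, hau⟩ := hx a
  obtain ⟨v, hv, hbv⟩ := hx b
  rw [← QuotientGroup.eq, QuotientGroup.mk_mul, QuotientGroup.mk_mul, hau, hbv,
    ← QuotientGroup.mk_mul, ← QuotientGroup.mk_mul, hab u hu v hv]

omit [Fintype G] hp in
theorem commutator_quotient (hab : ∀ x ∈ P, ∀ y ∈ P, x * y = y * x) (htop : N ⊔ P = ⊤) :
    commutator (G ⧸ N) = ⊥ := by
  rw [eq_bot_iff, commutator, Subgroup.commutator_le]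
  intro a _ b _
  obtain ⟨x, rfl⟩ := QuotientGroup.mk'_surjective N a
  obtain ⟨y, rfl⟩ := QuotientGroup.mk'_surjective N b
  rw [Subgroup.mem_bot, commutatorElement_eq_one_iff_mul_comm, ← map_mul, ← map_mul]
  exact ((QuotientGroup.eq (s := N)).2 (commutator_mem hab htop x y)).symm

/-- Members of `B` restrict irreducibly. -/
theorem norm_res_eq_one (hM : IsPModular p M) (hidx : ∃ k : ℕ, N.index = p ^ k) (hB : IsPBlock M B)
    (hP : IsDefectGroup p M B P) (hab : ∀ x ∈ P, ∀ y ∈ P, x * y = y * x) (htop : N ⊔ P = ⊤)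
    {χ : IrrCharacter G} (hχ : χ ∈ B) :
    classInner (fun n : N => (χ : G → ℂ) n) (fun n : N => (χ : G → ℂ) n) = 1 := by
  classical
  haveI : Finite (G ⧸ N →* ℂˣ) := H84.finite_hom
  haveI : Fintype (G ⧸ N →* ℂˣ) := Fintype.ofFinite _
  let π := QuotientGroup.mk' N
  have hsum : ∀ g : G, ∑ L : G ⧸ N →* ℂˣ, (L (π g) : ℂ) =
      if g ∈ N then (N.index : ℂ) else 0 := by
    intro g
    rw [H84.sum_hom_apply]
    have e : π g ∈ commutator (G ⧸ N) ↔ g ∈ N := by
      rw [commutator_quotient hab htop, Subgroup.mem_bot]; exact QuotientGroup.eq_one_iff g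
    simp only [e]
    rw [commutator_quotient hab htop, Subgroup.index_bot, Subgroup.index_eq_card]
  have hone : ∑ L : G ⧸ N →* ℂˣ,
      classInner (fun g => (L (π g) : ℂ) * (χ : G → ℂ) g) (χ : G → ℂ) = 1 := by
    rw [Finset.sum_eq_single 1]
    · simpa using classInner_irr_self χ.2
    · intro L _ hL
      refine classInner_irr_of_ne (CharInduce.isIrr_hom_mul χ.2 (L.comp π)) χ.2 fun e => hL ?_
      have hLn : ∀ n ∈ N, (L.comp π) n = 1 := fun n hn => by
        rw [MonoidHom.comp_apply, show π n = 1 from (QuotientGroup.eq_one_iff n).2 hn, map_one]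
      have := hom_eq_one hM hidx hB hP hab htop hχ (L.comp π) hLn (fun g => congrFun e g)
      refine MonoidHom.ext fun q => ?_
      obtain ⟨x, rfl⟩ := QuotientGroup.mk'_surjective N q
      exact DFunLike.congr_fun this x
    · exact fun h => absurd (Finset.mem_univ _) h
  simp only [classInner_def, ← Finset.mul_sum] at hone
  rw [Finset.sum_comm] at hone
  have h3 : ∀ g : G, ∑ L : G ⧸ N →* ℂˣ, (L (π g) : ℂ) * (χ : G → ℂ) g * conj ((χ : G → ℂ) g) =
      if g ∈ N then (N.index : ℂ) * ((χ : G → ℂ) g * conj ((χ : G → ℂ) g)) else 0 := fun g => by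
    rw [← Finset.sum_mul, ← Finset.sum_mul, hsum]
    split_ifs <;> ring
  simp only [h3] at hone
  rw [Finset.sum_ite, Finset.sum_const_zero, add_zero, ← Finset.mul_sum,
    ← Subgroup.card_mul_index N, Nat.cast_mul, mul_inv, ← mul_assoc,
    mul_assoc _ ((N.index : ℂ))⁻¹, inv_mul_cancel₀
      (Nat.cast_ne_zero.mpr Subgroup.index_ne_zero_of_finite), mul_one] at hone
  rw [classInner_def]
  refine Eq.trans ?_ hone
  congr 1
  exact (Finset.sum_subtype (p := fun g => g ∈ N) _ (by simp)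
    (fun g : G => (χ : G → ℂ) g * conj ((χ : G → ℂ) g))).symm

/-- The main statement. -/
theorem cover_data (hM : IsPModular p M) (hidx : ∃ k : ℕ, N.index = p ^ k) (hb : IsPBlock M b)
    (hstab : ∀ g : G, StabilizesBlock N b g) (hB : IsPBlock M B)
    (hcov : ∃ χ ∈ B, ∃ θ ∈ b, classInner (fun n : N => (χ : G → ℂ) n) (θ : N → ℂ) ≠ 0)
    (hP : IsDefectGroup p M B P) (hab : ∀ x ∈ P, ∀ y ∈ P, x * y = y * x) :
    N ⊔ P = ⊤ ∧ IsDefectGroup p M b ((P ⊓ N).subgroupOf N) ∧
      (∀ χ ∈ B, ∃ θ ∈ b, ∀ n : N, (χ : G → ℂ) n = (θ : N → ℂ) n) ∧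
      (∀ θ ∈ b, Nat.card {χ : IrrCharacter G // χ ∈ B ∧ ∀ n : N, (χ : G → ℂ) n = (θ : N → ℂ) n}
        = N.index) ∧
      Nat.card B = N.index * Nat.card b ∧ blockRank p B = blockRank p b := by
  classical
  have hinv : ∀ g : G, ∀ η ∈ b, H80.conjTwist N η g ∈ b := by
    intro g η hη
    obtain ⟨η', hη', hconj⟩ := (hstab g⁻¹).2 η hη
    have : η' = H80.conjTwist N η g := by
      apply Subtype.ext
      funext k
      rw [H80.conjTwist_apply]
      exact hconj ⟨g * k * g⁻¹, hN.conj_mem k k.2 g⟩ k (by simp [mul_assoc])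
    exact this ▸ hη'
  obtain ⟨hpi, hdef, -⟩ := covering_max_defect hM hb hinv hB hcov
    (fun B'' hB'' h => by rw [covering_block_unique hM hidx hb hB'' hB h hcov]) hP
  have htop : N ⊔ P = ⊤ := by
    obtain ⟨k, hk⟩ := hidx
    obtain ⟨j, -, hj⟩ := (Nat.dvd_prime_pow hp.out).1
      (hk ▸ Subgroup.index_dvd_of_le (le_sup_right : N ≤ P ⊔ N))
    rw [sup_comm, ← Subgroup.index_eq_one]
    rcases j with _ | j
    · simpa using hj
    · exact absurd (hj ▸ dvd_pow_self p (Nat.succ_ne_zero j)) hpi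
  have hres : ∀ χ ∈ B, ∃ θ ∈ b, ∀ n : N, (χ : G → ℂ) n = (θ : N → ℂ) n := by
    intro χ hχ
    have hirr : IsIrrCharacter N (fun n : N => (χ : G → ℂ) n) := CharInduce.isIrr_of_norm_one
      (CharInduce.IsChar.res (IsIrr.isCharacter χ.2) N) (norm_res_eq_one hM hidx hB hP hab htop hχ)
    refine ⟨⟨_, hirr⟩, ?_, fun n => rfl⟩
    obtain ⟨χ₁, hχ₁, θ₁, hθ₁, hne⟩ := hcov
    obtain ⟨d, hd⟩ := mem_twistOrbit hM hB hχ₁ hχ hne (φ := ⟨_, hirr⟩) (by
      rw [show ((⟨_, hirr⟩ : IrrCharacter N) : N → ℂ) = fun n : N => (χ : G → ℂ) n from rfl,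
        classInner_irr_self hirr]
      exact one_ne_zero)
    rw [isPBlock_eq_blockOf hM hb (hinv d θ₁ hθ₁)]
    exact hd
  have hfib : ∀ θ ∈ b,
      Nat.card {χ : IrrCharacter G // χ ∈ B ∧ ∀ n : N, (χ : G → ℂ) n = (θ : N → ℂ) n} = N.index := by
    intro θ hθ
    have hmem : ∀ χ : IrrCharacter G, classInner (fun n : N => (χ : G → ℂ) n) (θ : N → ℂ) ≠ 0 →
        χ ∈ B := fun χ hne => by
      rw [covering_block_unique hM hidx hb hB (isPBlock_blockOf M χ) hcov
        ⟨χ, self_mem_blockOf hM χ, θ, hθ, hne⟩]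
      exact self_mem_blockOf hM χ
    have hextiff : ∀ χ ∈ B, classInner (fun n : N => (χ : G → ℂ) n) (θ : N → ℂ) ≠ 0 →
        ∀ n : N, (χ : G → ℂ) n = (θ : N → ℂ) n := by
      intro χ hχ hne n
      obtain ⟨θ', -, hθ'⟩ := hres χ hχ
      rw [show (fun n : N => (χ : G → ℂ) n) = (θ' : N → ℂ) from funext hθ',
        classInner_irrCharacter] at hne
      have : θ' = θ := by
        by_contra h
        rw [if_neg h] at hne
        exact hne rfl
      rw [hθ', this]
    obtain ⟨χ₀, hχ₀⟩ := exists_over N θ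
    have hχ₀B := hmem χ₀ hχ₀
    have hne_of : ∀ χ : IrrCharacter G, (∀ n : N, (χ : G → ℂ) n = (θ : N → ℂ) n) →
        classInner (fun n : N => (χ : G → ℂ) n) (θ : N → ℂ) ≠ 0 := fun χ h => by
      rw [show (fun n : N => (χ : G → ℂ) n) = (θ : N → ℂ) from funext h, classInner_irr_self θ.2]
      exact one_ne_zero
    let f : (G ⧸ N →* ℂˣ) →
        {χ : IrrCharacter G // χ ∈ B ∧ ∀ n : N, (χ : G → ℂ) n = (θ : N → ℂ) n} := fun L =>
      have hr : ∀ n : N, (H84.twistQ N L χ₀ : G → ℂ) n = (θ : N → ℂ) n := fun n => by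
        rw [H84.twistQ_apply, (QuotientGroup.eq_one_iff (n : G)).mpr n.2, map_one, Units.val_one,
          one_mul, hextiff χ₀ hχ₀B hχ₀ n]
      ⟨H84.twistQ N L χ₀, hmem _ (hne_of _ hr), hr⟩
    have hf : Function.Bijective f := by
      constructor
      · intro L L' h
        have h' : H84.twistQ N L χ₀ = H84.twistQ N L' χ₀ := congrArg Subtype.val h
        have h1 : (L'⁻¹ * L).comp (QuotientGroup.mk' N) = 1 := by
          refine hom_eq_one hM hidx hB hP hab htop hχ₀B _ (fun n hn => ?_) fun g => ?_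
          · rw [MonoidHom.comp_apply,
              show QuotientGroup.mk' N n = 1 from (QuotientGroup.eq_one_iff n).2 hn, map_one]
          · have e : (L (g : G ⧸ N) : ℂ) * (χ₀ : G → ℂ) g =
                (L' (g : G ⧸ N) : ℂ) * (χ₀ : G → ℂ) g := by
              have := congrArg (fun ψ : IrrCharacter G => (ψ : G → ℂ) g) h'
              simpa only [H84.twistQ_apply] using this
            show (((L'⁻¹ * L) (g : G ⧸ N) : ℂˣ) : ℂ) * _ = _
            rw [MonoidHom.mul_apply, MonoidHom.inv_apply, Units.val_mul, mul_assoc, e, ← mul_assoc,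
              ← Units.val_mul, inv_mul_cancel, Units.val_one, one_mul]
        have h2 : L'⁻¹ * L = 1 := MonoidHom.ext fun q => by
          obtain ⟨x, rfl⟩ := QuotientGroup.mk'_surjective N q
          exact DFunLike.congr_fun h1 x
        exact (inv_mul_eq_one.mp h2).symm
      · rintro ⟨χ, hχ, hr⟩
        obtain ⟨l, hl, hle⟩ := H84.exists_hom_mul_eq (commutator_mem hab htop) χ.2 χ₀.2 θ.2
          (hne_of χ hr) hχ₀
        refine ⟨QuotientGroup.lift N l (fun n hn => MonoidHom.mem_ker.mpr (hl n hn)), Subtype.ext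
          (Subtype.ext (funext fun g => ?_))⟩
        show (H84.twistQ N _ χ₀ : G → ℂ) g = (χ : G → ℂ) g
        rw [H84.twistQ_apply, QuotientGroup.lift_mk, hle]
    rw [← Nat.card_eq_of_bijective f hf, H84.card_hom, commutator_quotient hab htop,
      Subgroup.index_bot, Subgroup.index_eq_card]
  refine ⟨htop, hdef, hres, hfib, ?_, ?_⟩
  · choose r hrb hr using hres
    let F : B → b := fun χ => ⟨r χ χ.2, hrb χ χ.2⟩
    rw [Nat.card_congr (Equiv.sigmaFiberEquiv F).symm, Nat.card_sigma,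
      Finset.sum_congr rfl (g := fun _ : b => N.index) fun θ _ => ?_, Finset.sum_const,
      Finset.card_univ, smul_eq_mul, mul_comm, Nat.card_eq_fintype_card]
    rw [← hfib θ θ.2]
    exact Nat.card_congr
      { toFun := fun x => ⟨x.1.1, x.1.2, fun n => (hr x.1.1 x.1.2 n).trans (by
          rw [show r x.1.1 x.1.2 = (θ : IrrCharacter N) from congrArg Subtype.val x.2])⟩
        invFun := fun x => ⟨⟨x.1, x.2.1⟩, Subtype.ext (Subtype.ext (funext fun n =>
          (hr x.1 x.2.1 n).symm.trans (x.2.2 n)))⟩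
        left_inv := fun x => rfl
        right_inv := fun x => rfl }
  · let E : (N → ℂ) →ₗ[ℂ] (G → ℂ) :=
      { toFun := fun f g => if h : g ∈ N then f ⟨g, h⟩ else 0
        map_add' := fun f f' => funext fun g => by by_cases h : g ∈ N <;> simp [h]
        map_smul' := fun c f => funext fun g => by by_cases h : g ∈ N <;> simp [h] }
    have hE : Function.Injective E := fun f f' h => funext fun n => by
      have := congrFun h (n : G)
      simpa [E, n.2] using this
    have himg : (fun χ : IrrCharacter G => pRegularPart p (χ : G → ℂ)) '' B =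
        E '' ((fun θ : IrrCharacter N => pRegularPart p (θ : N → ℂ)) '' b) := by
      have key : ∀ (χ : IrrCharacter G) (θ : IrrCharacter N),
          (∀ n : N, (χ : G → ℂ) n = (θ : N → ℂ) n) →
          pRegularPart p (χ : G → ℂ) = E (pRegularPart p (θ : N → ℂ)) := by
        intro χ θ h
        funext g
        show _ = (if hg : g ∈ N then pRegularPart p (θ : N → ℂ) ⟨g, hg⟩ else 0)
        by_cases hg : g ∈ N
        · rw [dif_pos hg]
          by_cases hr : p ∣ orderOf g
          · simp [pRegularPart, IsPRegular, Subgroup.orderOf_mk, hr]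
          · simp [pRegularPart, IsPRegular, Subgroup.orderOf_mk, hr, ← h ⟨g, hg⟩]
        · rw [dif_neg hg]
          simp only [pRegularPart]
          exact if_neg fun hr => hg (mem_of_regular hidx hr)
      ext f
      constructor
      · rintro ⟨χ, hχ, rfl⟩
        obtain ⟨θ, hθ, h⟩ := hres χ hχ
        exact ⟨_, ⟨θ, hθ, rfl⟩, (key χ θ h).symm⟩
      · rintro ⟨_, ⟨θ, hθ, rfl⟩, rfl⟩
        obtain ⟨⟨χ, hχ, h⟩⟩ : Nonempty
            {χ : IrrCharacter G // χ ∈ B ∧ ∀ n : N, (χ : G → ℂ) n = (θ : N → ℂ) n} :=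
          (Nat.card_pos_iff.mp (by
            rw [hfib θ hθ]; exact Nat.pos_of_ne_zero Subgroup.index_ne_zero_of_finite)).1
        exact ⟨χ, hχ, key χ θ h⟩
    rw [blockRank, blockRank, himg, Submodule.span_image]
    exact (Submodule.equivMapOfInjective E hE _).finrank_eq.symm

end Cfsg.Agent.H24.AbelianCover
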