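import Cfsg.Agent.H82.PairPush
import Cfsg.Agent.H82.PairNilpotent
import Cfsg.Agent.BlockBasic.LocalBlocks
import Cfsg.Agent.S4687

/-!
# Roots of blocks with abelian defect group and the local blocks above them
-/

set_option autoImplicit false

namespace Cfsg.Agent.H24.AbelianPair

open BlockBasic CharBasic MonoidAlgebra H82

universe u

variable {G : Type u} [Group G] [Fintype G] {p : ℕ} [hp : Fact p.Prime] {M : Ideal AlgInt}
  {B : Set (IrrCharacter G)} {P : Subgroup G}
  {c : Set (IrrCharacter (Subgroup.centralizer (P : Set G)))}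

/-- A root of a block with abelian defect group is a maximal pair. -/
theorem isMaximal_of_induced (hM : IsPModular p M) (hP : IsDefectGroup p M B P)
    (hab : ∀ x ∈ P, ∀ y ∈ P, x * y = y * x)
    (hc : IsInducedBlock M (Subgroup.centralizer (P : Set G)) c B) :
    IsMaximalBrauerPair p M B P c := by
  classical
  cases nonempty_fintype (Subgroup.centralizer (P : Set G))
  obtain ⟨a, ha, S, hS⟩ := id hP
  have hPp : IsPGroup p P := hS ▸ H35.sylImage_isPGroup S
  have hPC : P ≤ Subgroup.centralizer (P : Set G) := fun x hx =>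
    Subgroup.mem_centralizer_iff.mpr fun y hy => hab y hy x hx
  obtain ⟨ξ, hξ⟩ := isPBlock_nonempty hM hc.1
  obtain ⟨χ, hχ⟩ := isPBlock_nonempty hM hc.2.1
  have key := omega_brauerMap_of_induced hM hPp hPC le_rfl
    (Subgroup.centralizer_le_normalizer _) hc hξ hχ (isCentralElt_blockElem B)
    (isIntElt_blockElem hM hc.2.1)
  rw [omega_blockElem, if_pos hχ] at key
  refine isMaximal_of_card hM (isBrauerPairOf_of_mem hM hc.2.1 ⟨hPp, hc.1⟩ hξ ?_)
    (H35.card_defectGroup hM hc.2.1 hP).ge
  rw [brOmega_eq, show br P (blockElem B) = brauerMap P (Subgroup.centralizer (P : Set G))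
    (blockElem B) from coeff_injective (Finsupp.ext fun x => by
      rw [coeff_br, coeff_brauerMap, if_pos x.2])]
  exact key

omit hp in
theorem pairRel_left_unique {H : Subgroup G} {a' b' : BrauerPairIdx H} {a : BrauerPairIdx G}
    (h1 : PairRel H a' a) (h2 : PairRel H b' a) : a' = b' := by
  obtain ⟨A, k⟩ := a'
  obtain ⟨A', k'⟩ := b'
  refine pair_ext (Subgroup.map_injective H.subtype_injective (h1.1.symm.trans h2.1))
    (coeff_injective (Finsupp.ext fun x => (h1.2.2 x).trans (h2.2.2 x).symm))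

omit hp in
/-- Stabilizers of corresponding pairs correspond. -/
theorem conjPair_iff {H : Subgroup G} {a' : BrauerPairIdx H} {a : BrauerPairIdx G}
    (h : PairRel H a' a) (x : H) : conjPair x a' = a' ↔ conjPair (x : G) a = a :=
  ⟨fun he => ((h.conj x).unique (he.symm ▸ h)), fun he => pairRel_left_unique (he ▸ h.conj x) h⟩

/-- The pair below `(P, c)` on `Q` is the only block of `C(Q)` induced by `c` inside `C(Q)`. -/
theorem inducedIn_iff (hM : IsPModular p M) (hmax : IsMaximalBrauerPair p M B P c)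
    (hab : ∀ x ∈ P, ∀ y ∈ P, x * y = y * x) {Q : Subgroup G}
    {f₀ : Set (IrrCharacter (Subgroup.centralizer (Q : Set G)))}
    (hf₀ : IsPBlock M f₀) (hle : SubpairLE p M Q f₀ P c)
    (f : Set (IrrCharacter (Subgroup.centralizer (Q : Set G)))) :
    IsInducedBlockIn M (Subgroup.centralizer (Q : Set G)) (Subgroup.centralizer (P : Set G)) c f ↔
      f = f₀ := by
  classical
  cases nonempty_fintype (Subgroup.centralizer (Q : Set G))
  have hQP : Q ≤ P := le_of_subpairLE hle
  have hCC : Subgroup.centralizer (P : Set G) ≤ Subgroup.centralizer (Q : Set G) :=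
    Subgroup.centralizer_le hQP
  have hPC : P ≤ Subgroup.centralizer (P : Set G) := fun x hx =>
    Subgroup.mem_centralizer_iff.mpr fun y hy => hab y hy x hx
  have key : ∀ ξ ∈ c, ∀ η ∈ f₀, ∀ h : Subgroup.centralizer (Q : Set G), MemLocalIdeal M
      (inducedCentralCharIn (Subgroup.centralizer (Q : Set G)) (Subgroup.centralizer (P : Set G))
        (ξ : Subgroup.centralizer (P : Set G) → ℂ) (h : G) -
      centralChar (η : Subgroup.centralizer (Q : Set G) → ℂ) h) := by
    intro ξ hξ η hη h
    let z : MonoidAlgebra ℂ G :=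
      up (Subgroup.centralizer (Q : Set G)).subtype (classSum h)
    have hco : ∀ x : Subgroup.centralizer (Q : Set G), z.coeff (x : G) = (classSum h).coeff x :=
      fun x => coeff_up (Subgroup.subtype_injective _) (classSum h) x
    have hzC : IsInvElt (Subgroup.centralizer (Q : Set G)) z := by
      intro y hy x
      by_cases hx : x ∈ Subgroup.centralizer (Q : Set G)
      · have := (hco (⟨y, hy⟩ * ⟨x, hx⟩ * ⟨y, hy⟩⁻¹))
        exact this.trans ((isCentralElt_classSum h _ _).trans (hco ⟨x, hx⟩).symm)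
      · rw [H82.coeff_up_of_notMem, H82.coeff_up_of_notMem]
        · rintro ⟨k, hk⟩
          exact hx (hk ▸ k.2)
        · rintro ⟨k, hk⟩
          have h' : y * x * y⁻¹ ∈ Subgroup.centralizer (Q : Set G) := by rw [← hk]; exact k.2
          have h'' := Subgroup.mul_mem _ (Subgroup.mul_mem _ (Subgroup.inv_mem _ hy) h') hy
          exact hx (by simpa [mul_assoc] using h'')
    have hzi : IsIntElt M z := by
      intro x
      by_cases hx : x ∈ Subgroup.centralizer (Q : Set G)
      · rw [show x = ((⟨x, hx⟩ : Subgroup.centralizer (Q : Set G)) : G) from rfl, hco]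
        exact isIntElt_classSum hM h _
      · rw [H82.coeff_up_of_notMem]
        · exact (locRing hM).zero_mem
        · rintro ⟨k, hk⟩
          exact hx (hk ▸ k.2)
    have h1 := brOmega_congr_of_subpairLE hM hle hmax.1.1 hξ hη
      (hzC.mono (hPC.trans hCC)) hzC hzi
    have e1 : brOmega P (ξ : Subgroup.centralizer (P : Set G) → ℂ) z =
        inducedCentralCharIn (Subgroup.centralizer (Q : Set G)) (Subgroup.centralizer (P : Set G))
          (ξ : Subgroup.centralizer (P : Set G) → ℂ) (h : G) := by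
      rw [brOmega, brauerOmega, inducedCentralCharIn, finsum_mem_def]
      refine finsum_congr fun k => ?_
      rw [Set.indicator_apply, show z.coeff (k : G) = (classSum h).coeff ⟨k, hCC k.2⟩ from
        hco ⟨k, hCC k.2⟩, classSum, coeff_ofFun]
      by_cases hk : IsConj h (⟨k, hCC k.2⟩ : Subgroup.centralizer (Q : Set G))
      · rw [if_pos hk, one_mul, if_pos]
        obtain ⟨y, hy⟩ := isConj_iff.mp hk.symm
        exact ⟨y, congrArg Subtype.val hy⟩
      · rw [if_neg hk, zero_mul, zero_div, if_neg]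
        rintro ⟨y, hy⟩
        exact hk (isConj_iff.mpr ⟨y, Subtype.ext hy⟩).symm
    have e2 : brOmega Q (η : Subgroup.centralizer (Q : Set G) → ℂ) z =
        centralChar (η : Subgroup.centralizer (Q : Set G) → ℂ) h := by
      rw [brOmega_eq, show br Q z = classSum h from coeff_injective (Finsupp.ext fun x => by
        rw [coeff_br, hco]), omega_classSum (IsIrr.isClassFunction η.2)]
    rwa [e1, e2] at h1
  refine ⟨fun hf => ?_, fun e => e ▸ ⟨hmax.1.1.2, hf₀, key⟩⟩
  obtain ⟨ξ, hξ⟩ := isPBlock_nonempty hM hf.1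
  obtain ⟨χ, hχ⟩ := isPBlock_nonempty hM hf.2.1
  obtain ⟨η, hη⟩ := isPBlock_nonempty hM hf₀
  rw [isPBlock_eq_blockOf hM hf.2.1 hχ, isPBlock_eq_blockOf hM hf₀ hη]
  refine blockOf_eq_of_sameBlock hM fun h => ?_
  have := memLocalIdeal_sub hM (key ξ hξ η hη h) (hf.2.2 ξ hξ χ hχ h)
  rwa [sub_sub_sub_cancel_left] at this

/-- Freeness of the inertial action and nilpotency of the local blocks. -/
theorem free_iff (hM : IsPModular p M) (hmax : IsMaximalBrauerPair p M B P c)
    (hab : ∀ x ∈ P, ∀ y ∈ P, x * y = y * x) {T : Subgroup G}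
    (hT : ∀ g : G, g ∈ T ↔ (g ∈ Subgroup.normalizer (P : Set G) ∧
      StabilizesBlock (Subgroup.centralizer (P : Set G)) c g)) :
    (∀ g ∈ T, ∀ x ∈ P, x ≠ 1 → g * x * g⁻¹ = x → g ∈ Subgroup.centralizer (P : Set G)) ↔
      ∀ Q : Subgroup G, Q ≤ P → Q ≠ ⊥ → ∀ f : Set (IrrCharacter (Subgroup.centralizer (Q : Set G))),
        IsInducedBlockIn M (Subgroup.centralizer (Q : Set G)) (Subgroup.centralizer (P : Set G)) c f
          → IsNilpotentBlock p M f := by
  classical
  have hPe := hmax.1.1
  have hstP := mem_stab_iff hM hPe.2 hT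
  have local_pair : ∀ (Q : Subgroup G) (f : Set (IrrCharacter (Subgroup.centralizer (Q : Set G)))),
      IsPBlock M f → SubpairLE p M Q f P c →
      ∃ a : BrauerPairIdx (Subgroup.centralizer (Q : Set G)),
        PairRel (Subgroup.centralizer (Q : Set G)) a ⟨P, c⟩ ∧
        (∀ u ∈ a.1, ∀ v ∈ a.1, u * v = v * u) ∧
        (∀ x : Subgroup.centralizer (Q : Set G), x ∈ Subgroup.centralizer (a.1 : Set _) ↔
          (x : G) ∈ Subgroup.centralizer (P : Set G)) ∧
        IsMaximalBrauerPair p M f a.1 a.2 := by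
    intro Q f hf hle
    cases nonempty_fintype (Subgroup.centralizer (Q : Set G))
    have hQP : Q ≤ P := le_of_subpairLE hle
    have hQf := isBrauerPairOf_of_le hM hmax.1 hle
    have hPC : P ≤ Subgroup.centralizer (Q : Set G) := fun x hx =>
      Subgroup.mem_centralizer_iff.mpr fun q hq => hab q (hQP hq) x hx
    have h := isLocalBlock_centralizer hM hQf.1
    have hbd : p ^ blockDefect p f ≤ Nat.card P := by
      obtain ⟨x, -, hx⟩ := h.exists_conj_card hM hmax hQf
      exact hx.trans (Subgroup.card_le_of_le inf_le_left)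
    obtain ⟨a, hr, hp'⟩ := h.exists_pairRel hM (a := ⟨P, c⟩) hPC
      (isNormalSubpair_of_le hM hPe (hPC.trans (Subgroup.centralizer_le_normalizer _)) hle)
    refine ⟨a, hr, fun u hu v hv => Subtype.ext (hab _ ?_ _ ?_), fun x => ?_,
      isMaximal_of_card hM hp' ?_⟩
    · rw [show P = a.1.map _ from hr.1]
      exact Subgroup.mem_map_of_mem _ hu
    · rw [show P = a.1.map _ from hr.1]
      exact Subgroup.mem_map_of_mem _ hv
    · rw [show P = a.1.map _ from hr.1, Subgroup.mem_centralizer_iff, Subgroup.mem_centralizer_iff]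
      constructor
      · rintro hx _ ⟨u, hu, rfl⟩
        exact congrArg Subtype.val (hx u hu)
      · exact fun hx u hu => Subtype.ext (hx _ ⟨u, hu, rfl⟩)
    · rw [← Subgroup.card_map_of_injective (K := a.1)
        (Subgroup.centralizer (Q : Set G)).subtype_injective, ← hr.1]
      exact hbd
  constructor
  · intro hfree Q hQP hQ f hf
    obtain ⟨f₀, ⟨hf₀, hle⟩, -⟩ := S4655.result p M hM P Q c hPe hQP
    obtain rfl := (inducedIn_iff hM hmax hab hf₀ hle f).mp hf
    obtain ⟨a, hr, haab, hcent, hamax⟩ := local_pair Q f hf₀ hle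
    cases nonempty_fintype (Subgroup.centralizer (Q : Set G))
    refine (S4687.result p M hM f a.1 a.2 hamax haab).mpr fun x hxN hxs => (hcent x).mpr ?_
    have hxT : (x : G) ∈ T := (hstP _).mpr
      ((conjPair_iff hr x).mp ((stabilizesBlock_iff_conjPair hM hamax.1.1.2).mp ⟨hxN, hxs⟩))
    obtain ⟨q, hqQ, hq1⟩ := (Q.bot_or_exists_ne_one).resolve_left hQ
    refine hfree _ hxT q (hQP hqQ) hq1 ?_
    rw [← Subgroup.mem_centralizer_iff.mp x.2 q hqQ, mul_inv_cancel_right]
  · intro hnil g hg x hx hx1 hgx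
    have hQP : Subgroup.zpowers x ≤ P := Subgroup.zpowers_le.mpr hx
    have hQ : Subgroup.zpowers x ≠ ⊥ := fun h => hx1 (Subgroup.zpowers_eq_bot.mp h)
    obtain ⟨f, ⟨hf, hle⟩, -⟩ := S4655.result p M hM P (Subgroup.zpowers x) c hPe hQP
    have hf' := hnil _ hQP hQ f ((inducedIn_iff hM hmax hab hf hle f).mpr rfl)
    obtain ⟨a, hr, haab, hcent, hamax⟩ := local_pair _ f hf hle
    cases nonempty_fintype (Subgroup.centralizer (Subgroup.zpowers x : Set G))
    have hgC : g ∈ Subgroup.centralizer (Subgroup.zpowers x : Set G) := by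
      rw [Subgroup.mem_centralizer_iff]
      rintro _ ⟨n, rfl⟩
      exact (((show Commute g x from mul_inv_eq_iff_eq_mul.mp hgx)).zpow_right n).symm.eq
    obtain ⟨h1, h2⟩ := (stabilizesBlock_iff_conjPair hM hamax.1.1.2).mpr
      ((conjPair_iff hr ⟨g, hgC⟩).mpr ((hstP g).mp hg))
    exact (hcent ⟨g, hgC⟩).mp ((S4687.result p M hM f a.1 a.2 hamax haab).mp hf' _ h1 h2)

end Cfsg.Agent.H24.AbelianPair
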