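import Cfsg.Agent.H83.RegInner
import Cfsg.Agent.H83.ClassConst
import Cfsg.Agent.H35.Defect
import Cfsg.Agent.CharBasic.Integral

/-!
# Blocks of `p`-regular rank one

The matrix `p^d * (χ_reg, ψ)` of such a block is `d_χ * d_ψ`; a block with central defect group is of
this kind.
-/

set_option autoImplicit false

open scoped ComplexConjugate

namespace Cfsg.Agent.H24.BlockRankOne

open Cfsg.Agent.CharBasic Cfsg.Agent.H83

universe u

variable {G : Type u} [Group G] [Fintype G] {p : ℕ} [hp : Fact p.Prime] {M : Ideal Cfsg.AlgInt}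

omit [Fintype G] in
theorem not_dvd_orderOf_one : ¬ p ∣ orderOf (1 : G) := by
  rw [orderOf_one, Nat.dvd_one]; exact hp.out.ne_one

/-- The decomposition vector of a block of rank one. -/
theorem exists_decomp (hM : Cfsg.IsPModular p M) {B : Set (Cfsg.IrrCharacter G)}
    (hB : Cfsg.IsPBlock M B) (hl : Cfsg.blockRank p B = 1) :
    ∃ a : Cfsg.IrrCharacter G → ℤ, ∃ d : Cfsg.IrrCharacter G → ℕ,
      (∀ χ ∈ B, ∀ x : G, ¬ p ∣ orderOf x → (χ : G → ℂ) x =
        (d χ : ℂ) * ∑ᶠ ψ ∈ B, (a ψ : ℂ) * (ψ : G → ℂ) x) ∧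
      ∑ᶠ χ ∈ B, d χ ^ 2 = p ^ Cfsg.blockDefect p B := by
  classical
  obtain ⟨χ₀, hχ₀, h0⟩ := exists_height_zero hM hB
  set v : Cfsg.IrrCharacter G → ℤ := fun ψ => entry p B χ₀ ψ with hv
  set m : ℤ := entry p B χ₀ χ₀ with hm
  have hm0 : 0 < m := entry_self_pos hM hB hχ₀
  -- proportional restrictions
  have hne : Cfsg.pRegularPart p (χ₀ : G → ℂ) ≠ 0 := by
    intro h
    have := congrFun h 1
    rw [pRegularPart_eq_self _ not_dvd_orderOf_one] at this
    exact IsIrr.one_ne_zero χ₀.2 this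
  have hprop : ∀ χ ∈ B, ∀ x : G, ¬ p ∣ orderOf x →
      (m : ℂ) * (χ : G → ℂ) x = (v χ : ℂ) * (χ₀ : G → ℂ) x := by
    intro χ hχ x hx
    set V := Submodule.span ℂ ((fun χ : Cfsg.IrrCharacter G => Cfsg.pRegularPart p (χ : G → ℂ)) '' B)
    have hmem : ∀ ψ ∈ B, Cfsg.pRegularPart p (ψ : G → ℂ) ∈ V := fun ψ hψ =>
      Submodule.subset_span ⟨ψ, hψ, rfl⟩
    obtain ⟨c, hc⟩ := exists_smul_eq_of_finrank_eq_one (K := ℂ) (V := V) hl
      (x := ⟨_, hmem χ₀ hχ₀⟩) (fun h => hne (congrArg Subtype.val h)) ⟨_, hmem χ hχ⟩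
    have hc' : c • Cfsg.pRegularPart p (χ₀ : G → ℂ) = Cfsg.pRegularPart p (χ : G → ℂ) :=
      congrArg Subtype.val hc
    have hentry : (v χ : ℂ) = c * (m : ℂ) := by
      simp only [hv, hm]
      rw [entry_symm hM hB hχ₀ hχ, entry_spec hM hB hχ, entry_spec hM hB hχ₀, regInner, regInner,
        ← hc', classInner_smul_left]
      ring
    have := congrFun hc' x
    rw [Pi.smul_apply, smul_eq_mul, pRegularPart_eq_self _ hx, pRegularPart_eq_self _ hx] at this
    rw [← this, hentry]; ring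
  have hpos : ∀ χ ∈ B, 0 < v χ := by
    intro χ hχ
    have h := hprop χ hχ 1 not_dvd_orderOf_one
    rw [BlockBasic.apply_one_eq_charDegree, BlockBasic.apply_one_eq_charDegree] at h
    have h' : m * (Cfsg.charDegree (χ : G → ℂ) : ℤ) = v χ * (Cfsg.charDegree (χ₀ : G → ℂ) : ℤ) := by
      exact_mod_cast h
    have h1 : (0 : ℤ) < m * (Cfsg.charDegree (χ : G → ℂ) : ℤ) :=
      mul_pos hm0 (by exact_mod_cast BlockBasic.charDegree_pos χ)
    rw [h'] at h1
    exact pos_of_mul_pos_left h1 (by positivity)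
  -- the greatest common divisor
  obtain ⟨g, hgmem, hgdvd, hgpos⟩ : ∃ g : ℤ, g ∈ Ideal.span (Set.range v) ∧ (∀ ψ, g ∣ v ψ) ∧ 0 ≤ g := by
    obtain ⟨g, hg⟩ := IsPrincipalIdealRing.principal (Ideal.span (Set.range v))
    have hmem : g ∈ Ideal.span (Set.range v) := by rw [hg]; exact Submodule.mem_span_singleton_self g
    refine ⟨|g|, ?_, fun ψ => (abs_dvd g _).2 ?_, abs_nonneg g⟩
    · rcases abs_choice g with e | e <;> rw [e]
      · exact hmem
      · exact Submodule.neg_mem _ hmem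
    · have : v ψ ∈ Ideal.span (Set.range v) := Ideal.subset_span ⟨ψ, rfl⟩
      rw [hg] at this
      exact Ideal.mem_span_singleton.1 this
  obtain ⟨a, ha⟩ := Ideal.mem_span_range_iff_exists_fun.1 hgmem
  choose d hd using hgdvd
  have hg0 : 0 < g := by
    rcases hgpos.lt_or_eq with h | h
    · exact h
    · exfalso
      have h1 : m = 0 := by rw [hm, show entry p B χ₀ χ₀ = g * d χ₀ from hd χ₀, ← h, zero_mul]
      omega
  have hdpos : ∀ χ ∈ B, 0 < d χ := fun χ hχ => pos_of_mul_pos_right (hd χ ▸ hpos χ hχ) hgpos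
  have hdout : ∀ χ, χ ∉ B → d χ = 0 := fun χ hχ => by
    have : g * d χ = 0 := (hd χ).symm.trans (entry_eq_zero hM hB hχ₀ hχ)
    exact (mul_eq_zero.1 this).resolve_left hg0.ne'
  have hbez : ∑ ψ, a ψ * d ψ = 1 := by
    refine mul_left_cancel₀ hg0.ne' ?_
    rw [Finset.mul_sum, mul_one]
    conv_rhs => rw [← ha]
    exact Finset.sum_congr rfl fun ψ _ => by rw [hd ψ]; ring
  have hmd : m = g * d χ₀ := hd χ₀
  have hdχ₀ : (d χ₀ : ℂ) ≠ 0 := Int.cast_ne_zero.2 (hdpos χ₀ hχ₀).ne'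
  have hreg : ∀ χ ∈ B, ∀ x : G, ¬ p ∣ orderOf x →
      (d χ₀ : ℂ) * (χ : G → ℂ) x = (d χ : ℂ) * (χ₀ : G → ℂ) x := by
    intro χ hχ x hx
    have h := hprop χ hχ x hx
    rw [hmd, hd χ] at h
    push_cast at h
    exact mul_left_cancel₀ (Int.cast_ne_zero.2 hg0.ne' : (g : ℂ) ≠ 0) (by linear_combination h)
  have hphi : ∀ x : G, ¬ p ∣ orderOf x →
      (d χ₀ : ℂ) * ∑ᶠ ψ ∈ B, (a ψ : ℂ) * (ψ : G → ℂ) x = (χ₀ : G → ℂ) x := by
    intro x hx
    rw [BlockBasic.finsum_mem_eq_sum_ite, Finset.mul_sum]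
    have : ((∑ ψ, a ψ * d ψ : ℤ) : ℂ) = 1 := by rw [hbez, Int.cast_one]
    push_cast at this
    calc _ = ∑ ψ, ((a ψ : ℂ) * (d ψ : ℂ)) * (χ₀ : G → ℂ) x := Finset.sum_congr rfl fun ψ _ => by
          split_ifs with hψ
          · rw [mul_left_comm, hreg ψ hψ x hx]; ring
          · rw [hdout ψ hψ]; simp
      _ = _ := by rw [← Finset.sum_mul, this, one_mul]
  -- the Cartan invariant
  have hdiv : d χ₀ ∣ g := by
    have hprod : ∀ χ ∈ B, ∀ ψ, entry p B χ ψ * d χ₀ = g * (d χ * d ψ) := by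
      intro χ hχ ψ
      by_cases hψ : ψ ∈ B
      · have e1 := entry_spec hM hB hχ ψ
        have e2 := entry_spec hM hB hχ₀ ψ
        have e3 : (d χ₀ : ℂ) * regInner p χ ψ = (d χ : ℂ) * regInner p χ₀ ψ := by
          rw [regInner, regInner, ← classInner_smul_left, ← classInner_smul_left]
          congr 1
          funext x
          by_cases hx : p ∣ orderOf x
          · simp [pRegularPart_eq_zero _ hx]
          · simp only [Pi.smul_apply, smul_eq_mul, pRegularPart_eq_self _ hx, hreg χ hχ x hx]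
        have e4 : ((entry p B χ ψ * d χ₀ : ℤ) : ℂ) = ((d χ * v ψ : ℤ) : ℂ) := by
          push_cast
          simp only [hv]
          rw [e1, e2]
          linear_combination ((p : ℂ) ^ Cfsg.blockDefect p B) * e3
        have e5 : entry p B χ ψ * d χ₀ = d χ * v ψ := by exact_mod_cast e4
        rw [e5, hd ψ]; ring
      · rw [entry_eq_zero hM hB hχ hψ, hdout ψ hψ]; ring
    refine ⟨∑ χ, ∑ ψ, a χ * a ψ * entry p B χ ψ * (if χ ∈ B then 1 else 0), ?_⟩
    rw [Finset.mul_sum]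
    calc g = g * ((∑ χ, a χ * d χ) * ∑ ψ, a ψ * d ψ) := by rw [hbez]; ring
      _ = _ := by
        rw [Finset.sum_mul_sum, Finset.mul_sum]
        refine Finset.sum_congr rfl fun χ _ => ?_
        rw [Finset.mul_sum, Finset.mul_sum]
        refine Finset.sum_congr rfl fun ψ _ => ?_
        split_ifs with hχ
        · rw [mul_one, show g * (a χ * d χ * (a ψ * d ψ)) = a χ * a ψ * (g * (d χ * d ψ)) by ring,
            ← hprod χ hχ ψ]
          ring
        · rw [hdout χ hχ]; ring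
  obtain ⟨c, hc⟩ := hdiv
  have hsq : c * ∑ χ, d χ ^ 2 = (p : ℤ) ^ Cfsg.blockDefect p B := by
    have h := sum_entry_sq hM hB hχ₀
    rw [← hm, hmd] at h
    refine mul_left_cancel₀ (mul_pos hg0 (hdpos χ₀ hχ₀)).ne' ?_
    rw [mul_comm (g * d χ₀) ((p : ℤ) ^ _), ← h, Finset.mul_sum, Finset.mul_sum]
    refine Finset.sum_congr rfl fun χ _ => ?_
    rw [show entry p B χ₀ χ = g * d χ from hd χ, hc]
    ring
  have hpc : ¬ (p : ℤ) ∣ c := by
    intro hpc
    apply not_dvd_entry_of_height_zero hM hB hχ₀ h0 hχ₀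
    rw [h0, zero_add, pow_one, ← hm, hmd, hc]
    exact dvd_mul_of_dvd_left (dvd_mul_of_dvd_right hpc _) _
  have hc1 : c = 1 := by
    have hcpos : 0 < c := pos_of_mul_pos_right (hc ▸ hg0) (hdpos χ₀ hχ₀).le
    lift c to ℕ using hcpos.le
    have hdvd : c ∣ p ^ Cfsg.blockDefect p B :=
      Int.natCast_dvd_natCast.1 (by push_cast; exact Dvd.intro _ hsq)
    obtain ⟨j, -, rfl⟩ := (Nat.dvd_prime_pow hp.out).1 hdvd
    rcases j with _ | j
    · simp
    · exact absurd (by push_cast; exact dvd_pow_self (p : ℤ) (Nat.succ_ne_zero j)) hpc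
  refine ⟨a, fun χ => (d χ).toNat, fun χ hχ x hx => ?_, ?_⟩
  · have hcast : (((d χ).toNat : ℕ) : ℂ) = (d χ : ℂ) := by
      rw [← Int.cast_natCast, Int.toNat_of_nonneg (hdpos χ hχ).le]
    rw [hcast]
    refine mul_left_cancel₀ hdχ₀ ?_
    rw [hreg χ hχ x hx, ← hphi x hx]; ring
  · rw [hc1, one_mul] at hsq
    rw [finsum_mem_eq_sum_of_inter_support_eq (t := Finset.univ.filter (· ∈ B)) (s := B)
      (f := fun χ => (d χ).toNat ^ 2) (by simp), Finset.sum_filter]
    have : ((∑ χ, if χ ∈ B then (d χ).toNat ^ 2 else 0 : ℕ) : ℤ) = ((p ^ Cfsg.blockDefect p B : ℕ) : ℤ) := by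
      push_cast
      rw [← hsq]
      refine Finset.sum_congr rfl fun χ _ => ?_
      split_ifs with hχ
      · rw [Int.toNat_of_nonneg (hdpos χ hχ).le]
      · rw [hdout χ hχ]; simp
    exact_mod_cast this

/-- A character is constant in absolute value on the cosets of the centre. -/
theorem norm_apply_mul_center (χ : Cfsg.IrrCharacter G) {z : G} (hz : z ∈ Subgroup.center G) (x : G) :
    ‖(χ : G → ℂ) (x * z)‖ = ‖(χ : G → ℂ) x‖ := by
  obtain ⟨n, ρ, hρ, hχ⟩ := χ.2
  haveI := hρ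
  obtain ⟨ω, -, hω, h⟩ := exists_central_scalar ρ hz
  have := h x
  rw [hχ] at this
  rw [this, norm_mul, hω, one_mul]

/-- A block with central defect group has rank one. -/
theorem rank_eq_one_of_central (hM : Cfsg.IsPModular p M) {B : Set (Cfsg.IrrCharacter G)}
    (hB : Cfsg.IsPBlock M B) {P : Subgroup G} (hD : Cfsg.IsDefectGroup p M B P)
    (hPZ : P ≤ Subgroup.center G) : Cfsg.blockRank p B = 1 := by
  classical
  have hcard := H35.card_defectGroup hM hB hD
  -- the diagonal entries are one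
  have hdiag : ∀ χ ∈ B, entry p B χ χ = 1 := by
    intro χ hχ
    refine le_antisymm ?_ (entry_self_pos hM hB hχ)
    have hinj : Set.InjOn (fun t : G × G => t.1 * t.2)
        ↑((Finset.univ.filter fun x : G => ¬ p ∣ orderOf x) ×ˢ (Finset.univ.filter (· ∈ P))) := by
      rintro ⟨x, z⟩ h1 ⟨y, w⟩ h2 (he : x * z = y * w)
      simp only [Finset.coe_product, Finset.coe_filter, Finset.mem_univ, true_and, Set.mem_prod,
        Set.mem_setOf_eq] at h1 h2
      have hpart : ∀ x z : G, ¬ p ∣ orderOf x → z ∈ P → BlockBasic.pPart (p := p) (z * x) = z :=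
        fun x z hx hz => BlockBasic.pPart_mul_of (Subgroup.mem_center_iff.1 (hPZ hz) x).symm (by
          obtain ⟨j, -, hj⟩ := (Nat.dvd_prime_pow hp.out).1
            ((Subgroup.orderOf_mk z hz ▸ orderOf_dvd_natCard (⟨z, hz⟩ : P)).trans (dvd_of_eq hcard))
          exact ⟨j, hj⟩) hx
      have hzw : z = w := by
        rw [← hpart x z h1.1 h1.2, ← hpart y w h2.1 h2.2,
          ← Subgroup.mem_center_iff.1 (hPZ h1.2) x, ← Subgroup.mem_center_iff.1 (hPZ h2.2) y, he]
      subst hzw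
      rw [mul_right_cancel he]
    have hle : (Nat.card P : ℝ) * ∑ x with ¬ p ∣ orderOf x, ‖(χ : G → ℂ) x‖ ^ 2 ≤
        ∑ g : G, ‖(χ : G → ℂ) g‖ ^ 2 := by
      refine le_trans ?_ (Finset.sum_le_univ_sum_of_nonneg
        (s := ((Finset.univ.filter fun x : G => ¬ p ∣ orderOf x) ×ˢ
          (Finset.univ.filter (· ∈ P))).image fun t => t.1 * t.2) fun g => sq_nonneg _)
      rw [Finset.sum_image hinj, Finset.sum_product, Finset.mul_sum]
      refine le_of_eq (Finset.sum_congr rfl fun x _ => ?_)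
      rw [Finset.sum_congr rfl fun z hz => by
        rw [norm_apply_mul_center χ (hPZ (Finset.mem_filter.1 hz).2) x]]
      rw [Finset.sum_const, nsmul_eq_mul, ← Fintype.card_subtype, ← Nat.card_eq_fintype_card]
    have hN : ∑ g : G, ‖(χ : G → ℂ) g‖ ^ 2 = (Nat.card G : ℝ) := by
      have h := H83.sum_norm_sq χ.2
      simp only [Complex.conj_mul'] at h
      exact_mod_cast h
    rw [hN] at hle
    have hR : (Nat.card G : ℂ) * regInner p χ χ =
        ((∑ x with ¬ p ∣ orderOf x, ‖(χ : G → ℂ) x‖ ^ 2 : ℝ) : ℂ) := by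
      rw [regInner_eq_sum, Finset.sum_filter, Complex.ofReal_sum]
      refine Finset.sum_congr rfl fun x _ => ?_
      split_ifs
      · simp
      · rw [Complex.mul_conj']; push_cast; rfl
    have he : ((Nat.card G : ℝ) * (entry p B χ χ : ℝ) : ℂ) =
        ((Nat.card P : ℝ) * ∑ x with ¬ p ∣ orderOf x, ‖(χ : G → ℂ) x‖ ^ 2 : ℝ) := by
      push_cast
      rw [entry_spec hM hB hχ, hcard, mul_left_comm, hR]
      push_cast
      rfl
    have he' : (Nat.card G : ℝ) * (entry p B χ χ : ℝ) =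
        (Nat.card P : ℝ) * ∑ x with ¬ p ∣ orderOf x, ‖(χ : G → ℂ) x‖ ^ 2 := by exact_mod_cast he
    rw [← he'] at hle
    have : (entry p B χ χ : ℝ) ≤ 1 :=
      le_of_mul_le_mul_left (by rwa [mul_one]) (by exact_mod_cast Nat.card_pos)
    exact_mod_cast this
  have hzero : ∀ χ ∈ B, Cfsg.blockHeight p B (χ : G → ℂ) = 0 := by
    intro χ hχ
    by_contra hne
    have h := dvd_entry_succ hM hB hχ (Nat.pos_of_ne_zero hne) hχ
    rw [hdiag χ hχ] at h
    have := (dvd_pow_self (p : ℤ) (Nat.succ_ne_zero _)).trans h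
    exact hp.out.ne_one (Nat.dvd_one.1 (by exact_mod_cast this))
  obtain ⟨χ₀, hχ₀⟩ := BlockBasic.isPBlock_nonempty hM hB
  have hprop : ∀ χ ∈ B, ∃ c : ℂ, c • Cfsg.pRegularPart p (χ₀ : G → ℂ) =
      Cfsg.pRegularPart p (χ : G → ℂ) := by
    intro χ hχ
    set e := entry p B χ χ₀ with he
    have hne : e ≠ 0 := fun h =>
      not_dvd_entry_of_height_zero hM hB hχ (hzero χ hχ) hχ₀ (by rw [← he, h]; exact dvd_zero _)
    have hne' : 1 ≤ e ^ 2 := sq_pos_of_ne_zero hne
    set S : ℝ := ∑ x with ¬ p ∣ orderOf x, ‖(χ : G → ℂ) x - (e : ℂ) * (χ₀ : G → ℂ) x‖ ^ 2 with hS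
    have hSnn : 0 ≤ S := Finset.sum_nonneg fun _ _ => sq_nonneg _
    have hSeq : ((p : ℂ) ^ Cfsg.blockDefect p B) * (S : ℂ) =
        (Nat.card G : ℂ) * (1 - (e : ℂ) ^ 2) := by
      have hsum : (S : ℂ) = (Nat.card G : ℂ) * regInner p χ χ -
          (e : ℂ) * ((Nat.card G : ℂ) * regInner p χ χ₀) -
          (e : ℂ) * ((Nat.card G : ℂ) * regInner p χ₀ χ) +
          (e : ℂ) ^ 2 * ((Nat.card G : ℂ) * regInner p χ₀ χ₀) := by
        simp only [regInner_eq_sum, Finset.mul_sum, hS, Finset.sum_filter, Complex.ofReal_sum,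
          ← Finset.sum_sub_distrib, ← Finset.sum_add_distrib]
        refine Finset.sum_congr rfl fun x _ => ?_
        by_cases hx : p ∣ orderOf x
        · simp [hx]
        · rw [if_pos hx, if_neg hx, if_neg hx, if_neg hx, if_neg hx, Complex.ofReal_pow,
            ← Complex.mul_conj', map_sub, map_mul, map_intCast]
          ring
      have h11 := entry_spec hM hB hχ χ
      have h12 := entry_spec hM hB hχ χ₀
      have h21 := entry_spec hM hB hχ₀ χ
      have h22 := entry_spec hM hB hχ₀ χ₀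
      rw [hdiag χ hχ, Int.cast_one] at h11
      rw [hdiag χ₀ hχ₀, Int.cast_one] at h22
      rw [← he] at h12
      rw [entry_symm hM hB hχ₀ hχ, ← he] at h21
      rw [hsum]
      linear_combination -(Nat.card G : ℂ) * h11 + (e : ℂ) * (Nat.card G : ℂ) * h12 +
        (e : ℂ) * (Nat.card G : ℂ) * h21 - (e : ℂ) ^ 2 * (Nat.card G : ℂ) * h22
    have hSeq' : ((p : ℝ) ^ Cfsg.blockDefect p B) * S = (Nat.card G : ℝ) * (1 - (e : ℝ) ^ 2) := by
      exact_mod_cast hSeq
    have hS0 : S = 0 := by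
      have h1 : (1 : ℝ) ≤ (e : ℝ) ^ 2 := by exact_mod_cast hne'
      have h2 : (0 : ℝ) < (p : ℝ) ^ Cfsg.blockDefect p B := pow_pos (by exact_mod_cast hp.out.pos) _
      have h3 : (0 : ℝ) ≤ (Nat.card G : ℝ) := Nat.cast_nonneg _
      nlinarith
    refine ⟨(e : ℂ), funext fun x => ?_⟩
    rw [Pi.smul_apply, smul_eq_mul]
    by_cases hx : p ∣ orderOf x
    · simp [pRegularPart_eq_zero _ hx]
    · rw [pRegularPart_eq_self _ hx, pRegularPart_eq_self _ hx]
      have := (Finset.sum_eq_zero_iff_of_nonneg fun _ _ => sq_nonneg _).1 (hS ▸ hS0) x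
        (Finset.mem_filter.2 ⟨Finset.mem_univ x, hx⟩)
      rw [pow_eq_zero_iff two_ne_zero, norm_eq_zero, sub_eq_zero] at this
      exact this.symm
  have hne : Cfsg.pRegularPart p (χ₀ : G → ℂ) ≠ 0 := by
    intro h
    have := congrFun h 1
    rw [pRegularPart_eq_self _ not_dvd_orderOf_one] at this
    exact IsIrr.one_ne_zero χ₀.2 this
  rw [Cfsg.blockRank, show Submodule.span ℂ ((fun χ : Cfsg.IrrCharacter G =>
    Cfsg.pRegularPart p (χ : G → ℂ)) '' B) = ℂ ∙ Cfsg.pRegularPart p (χ₀ : G → ℂ) from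
      le_antisymm (Submodule.span_le.2 ?_) (Submodule.span_mono (Set.singleton_subset_iff.2 ⟨χ₀, hχ₀, rfl⟩)),
    finrank_span_singleton hne]
  rintro _ ⟨χ, hχ, rfl⟩
  obtain ⟨c, hc⟩ := hprop χ hχ
  exact Submodule.mem_span_singleton.2 ⟨c, hc⟩

end Cfsg.Agent.H24.BlockRankOne
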