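import Cfsg.Agent.H24.Solv
import Cfsg.Agent.Cores.Fitting
import Mathlib.GroupTheory.Frattini
import Mathlib.GroupTheory.Complement
import Mathlib.Tactic.Group

set_option autoImplicit false

namespace Cfsg.Agent.H24.Carter

open Subgroup
open scoped Pointwise

variable {G : Type*} [Group G]

/-- A nilpotent self-normalising subgroup. -/
def IsCarter (C : Subgroup G) : Prop :=
  Group.IsNilpotent C ∧ normalizer (C : Set G) = C

theorem eq_top_of_isCarter [Finite G] [hG : Group.IsNilpotent G] {C : Subgroup G} (h : IsCarter C) :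
    C = ⊤ := by
  by_contra hne
  exact (normalizerCondition_of_isNilpotent (G := G) C (Ne.lt_top hne)).ne h.2.symm

theorem isNilpotent_map {H : Type*} [Group H] (f : G →* H) {C : Subgroup G} (h : Group.IsNilpotent C) :
    Group.IsNilpotent (C.map f) :=
  Group.nilpotent_of_surjective _ (f.subgroupMap_surjective C)

theorem isCarter_smul {C : Subgroup G} (h : IsCarter C) (g : G) : IsCarter (MulAut.conj g • C) := by
  have := h.1
  refine ⟨Group.nilpotent_of_mulEquiv (equivSMul (MulAut.conj g) C), ?_⟩
  rw [show MulAut.conj g • C = C.map (MulAut.conj g).toMonoidHom from rfl, coe_map]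
  have := map_normalizer_eq_of_bijective C (f := (MulAut.conj g).toMonoidHom) (MulAut.conj g).bijective
  rw [coe_map] at this
  rw [← this, h.2]

theorem isCarter_subgroupOf {C K : Subgroup G} (hCK : C ≤ K) (h : IsCarter C) :
    IsCarter (C.subgroupOf K) := by
  have := h.1
  refine ⟨Group.nilpotent_of_mulEquiv (subgroupOfEquivOfLe hCK).symm, ?_⟩
  have e : normalizer ((C.subgroupOf K : Subgroup K) : Set K) = (normalizer (C : Set G)).subgroupOf K :=
    (comap_normalizer_eq_of_le_range (f := K.subtype) (hCK.trans_eq K.range_subtype.symm)).symm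
  rw [e, h.2]

/-- A subgroup meeting an abelian normal subgroup `N` normalises that intersection. -/
theorem normal_inf_of_sup_eq_top {N M : Subgroup G} [hN : N.Normal]
    (hab : ∀ a ∈ N, ∀ b ∈ N, a * b = b * a) (h : M ⊔ N = ⊤) : (N ⊓ M).Normal := by
  rw [← normalizer_eq_top_iff, eq_top_iff, ← h, sup_le_iff]
  refine ⟨fun m hm => ?_, fun n hn => ?_⟩
  · rw [mem_normalizer_iff]
    intro x
    constructor
    · exact fun hx => mem_inf.2 ⟨hN.conj_mem x hx.1 m, mul_mem (mul_mem hm (mem_inf.1 hx).2) (inv_mem hm)⟩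
    · intro hx
      have h1 := hN.conj_mem _ hx.1 m⁻¹
      have h2 := mul_mem (mul_mem (inv_mem hm) hx.2) hm
      exact ⟨by simpa [mul_assoc] using h1, by simpa [mul_assoc] using h2⟩
  · rw [mem_normalizer_iff]
    intro x
    constructor
    · intro hx
      rwa [hab n hn x hx.1, mul_inv_cancel_right]
    · intro hx
      have h1 : x ∈ N := by simpa [mul_assoc] using hN.conj_mem _ hx.1 n⁻¹
      rwa [hab n hn x h1, mul_inv_cancel_right] at hx

/-- With `C` a complement of the minimal normal abelian `N`, an overgroup of `C` is `C` or `⊤`. -/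
theorem eq_or_eq_top {N C L : Subgroup G} [N.Normal] (hab : ∀ a ∈ N, ∀ b ∈ N, a * b = b * a)
    (hmin : ∀ M : Subgroup G, M.Normal → M ≤ N → M = ⊥ ∨ M = N)
    (hsup : C ⊔ N = ⊤) (hCL : C ≤ L) : L = C ∨ L = ⊤ := by
  have hL : L ⊔ N = ⊤ := top_le_iff.1 (hsup ▸ sup_le_sup_right hCL N)
  rcases hmin _ (normal_inf_of_sup_eq_top hab hL) inf_le_left with h | h
  · refine Or.inl (le_antisymm (fun x hx => ?_) hCL)
    have : x ∈ C ⊔ N := hsup ▸ mem_top x
    obtain ⟨c, hc, n, hn, rfl⟩ := mem_sup_of_normal_right.1 this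
    have hnL : n ∈ L := by simpa using mul_mem (inv_mem (hCL hc)) hx
    have : n = 1 := mem_bot.1 (h ▸ mem_inf.2 ⟨hn, hnL⟩)
    rwa [this, mul_one]
  · exact Or.inr (top_le_iff.1 (hL ▸ sup_le le_rfl (h ▸ inf_le_right)))

theorem exists_minimal [Finite G] [Nontrivial G] [Group.IsSolvable G] :
    ∃ N : Subgroup G, N.Normal ∧ N ≠ ⊥ ∧ (∀ M : Subgroup G, M.Normal → M ≤ N → M = ⊥ ∨ M = N) ∧
      (∀ a ∈ N, ∀ b ∈ N, a * b = b * a) ∧ ∃ p, p.Prime ∧ IsPGroup p N := by
  obtain ⟨N, -, hN, hNb, hmin⟩ := exists_minimal_normal (⊤ : Subgroup G) inferInstance top_ne_bot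
  obtain ⟨hc, p, hp, hpow⟩ := minimal_normal_elementary N hNb hmin
  refine ⟨N, hN, hNb, hmin, fun a ha b hb => congrArg Subtype.val (hc.is_comm.comm ⟨a, ha⟩ ⟨b, hb⟩),
    p, hp, fun x => ⟨1, ?_⟩⟩
  rw [pow_one]; exact Subtype.ext (by simpa using hpow x x.2)

theorem card_quotient_lt [Finite G] (N : Subgroup G) (hN : N ≠ ⊥) : Nat.card (G ⧸ N) < Nat.card G := by
  have := (nontrivial_iff_ne_bot N).2 hN
  rw [card_eq_card_quotient_mul_card_subgroup N]
  exact lt_mul_of_one_lt_right Nat.card_pos Finite.one_lt_card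

theorem card_lt [Finite G] {K : Subgroup G} (h : K ≠ ⊤) : Nat.card K < Nat.card G :=
  lt_of_le_of_ne (card_le_card_group _) fun h' => h (eq_top_of_card_eq _ h')

theorem smul_subgroupOf {K : Subgroup G} {k : K} (C : Subgroup G) :
    MulAut.conj k • C.subgroupOf K = (MulAut.conj (k : G) • C).subgroupOf K := by
  ext y
  rw [mem_pointwise_smul_iff_inv_smul_mem, mem_subgroupOf, mem_subgroupOf,
    mem_pointwise_smul_iff_inv_smul_mem]
  simp [MulAut.smul_def]

theorem conj_smul_le {K C : Subgroup G} {g : G} (hCK : C ≤ K) (hg : g ∈ normalizer (K : Set G)) :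
    MulAut.conj g • C ≤ K := by
  rintro _ ⟨c, hc, rfl⟩
  exact (mem_normalizer_iff.1 hg c).1 (hCK hc)

/-- If Carter subgroups of `L ≥ C` are conjugate in `L`, the normaliser of `L` is `L`. -/
theorem normalizer_eq_of_conj {C L : Subgroup G} (hC : IsCarter C) (hCL : C ≤ L)
    (h : ∀ D : Subgroup G, IsCarter D → D ≤ L → ∃ l ∈ L, MulAut.conj l • C = D) :
    normalizer (L : Set G) = L := by
  refine le_antisymm (fun g hg => ?_) le_normalizer
  obtain ⟨l, hl, he⟩ := h _ (isCarter_smul hC g) (conj_smul_le hCL hg)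
  have hn : l⁻¹ * g ∈ normalizer (C : Set G) := by
    have h2 : MulAut.conj (l⁻¹ * g) • C = C := by
      rw [map_mul, mul_smul, ← he, ← mul_smul, ← map_mul, inv_mul_cancel, map_one, one_smul]
    rw [mem_normalizer_iff]
    intro x
    conv_rhs => rw [← h2, mem_pointwise_smul_iff_inv_smul_mem, MulAut.smul_def, MulAut.conj_inv_apply]
    simp [mul_assoc]
  rw [hC.2] at hn
  simpa using mul_mem hl (hCL hn)

theorem carter_conj : ∀ (n : ℕ) (G : Type*) [Group G] [Finite G] [Group.IsSolvable G],
    Nat.card G = n → ∀ C D : Subgroup G, IsCarter C → IsCarter D →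
      ∃ g : G, MulAut.conj g • C = D := by
  intro n
  induction n using Nat.strong_induction_on with
  | _ n ih =>
    intro G _ _ _ hn C D hC hD
    by_cases hnil : Group.IsNilpotent G
    · exact ⟨1, by rw [map_one, one_smul, eq_top_of_isCarter hC, eq_top_of_isCarter hD]⟩
    have : Nontrivial G := by
      by_contra h
      rw [not_nontrivial_iff_subsingleton] at h
      exact hnil inferInstance
    obtain ⟨N, hN, hNb, hmin, hab, p, hp, hNp⟩ := exists_minimal (G := G)
    have hsub : ∀ L : Subgroup G, L ≠ ⊤ → ∀ A B : Subgroup G, IsCarter A → IsCarter B → A ≤ L →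
        B ≤ L → ∃ l ∈ L, MulAut.conj l • A = B := by
      intro L hL A B hA hB hAL hBL
      obtain ⟨k, hk⟩ := ih _ (hn ▸ card_lt hL) L rfl _ _ (isCarter_subgroupOf hAL hA) (isCarter_subgroupOf hBL hB)
      rw [smul_subgroupOf] at hk
      have hk' := congrArg (Subgroup.map L.subtype) hk
      rw [map_subgroupOf_eq_of_le (conj_smul_le hAL (le_normalizer k.2)), map_subgroupOf_eq_of_le hBL] at hk'
      exact ⟨k, k.2, hk'⟩
    let π := QuotientGroup.mk' N
    have hπ : Function.Surjective π := QuotientGroup.mk'_surjective N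
    have hcm : ∀ A : Subgroup G, (A.map π).comap π = A ⊔ N := fun A => by
      rw [comap_map_eq, QuotientGroup.ker_mk']
    have himg : ∀ A : Subgroup G, IsCarter A → IsCarter (A.map π) := by
      intro A hA
      refine ⟨isNilpotent_map π hA.1, comap_injective hπ ?_⟩
      rw [comap_normalizer_eq_of_surjective _ hπ, hcm]
      by_cases hL : A ⊔ N = ⊤
      · rw [hL]; exact top_le_iff.1 le_normalizer
      · exact normalizer_eq_of_conj hA le_sup_left fun B hB hBL => hsub _ hL A B hA hB le_sup_left hBL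
    obtain ⟨gb, hgb⟩ := ih _ (hn ▸ card_quotient_lt N hNb) (G ⧸ N) rfl _ _ (himg C hC) (himg D hD)
    obtain ⟨g, rfl⟩ := hπ gb
    have hC' := isCarter_smul hC g
    have hmapC : (MulAut.conj g • C).map π = D.map π := by
      rw [← hgb]
      show (C.map (MulAut.conj g).toMonoidHom).map π = (C.map π).map (MulAut.conj (π g)).toMonoidHom
      rw [Subgroup.map_map, Subgroup.map_map]
      congr 1
    have hKeq : MulAut.conj g • C ⊔ N = D ⊔ N := by rw [← hcm, hmapC, hcm]
    suffices ∃ l : G, MulAut.conj l • (MulAut.conj g • C) = D by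
      obtain ⟨l, hl⟩ := this
      exact ⟨l * g, by rw [map_mul, mul_smul, hl]⟩
    by_cases hK : D ⊔ N = ⊤
    swap
    · obtain ⟨l, -, hl⟩ := hsub _ hK _ D hC' hD (hKeq ▸ le_sup_left) le_sup_left
      exact ⟨l, hl⟩
    have hCK : MulAut.conj g • C ⊔ N = ⊤ := hKeq.trans hK
    have hQnil : Group.IsNilpotent (G ⧸ N) := by
      have : D.map π = ⊤ := by
        rw [← map_comap_eq_self_of_surjective hπ (D.map π), hcm, hK, map_top_of_surjective _ hπ]
      exact Group.isNilpotent_top.1 (this ▸ isNilpotent_map π hD.1)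
    obtain ⟨q, hq, Q₀, hQ₀⟩ : ∃ (q : ℕ) (_ : Fact q.Prime) (Q : Sylow q G), ¬ (Q : Subgroup G).Normal := by
      by_contra h
      push Not at h
      have h2 : Group.IsNilpotent G ↔ ∀ (q : ℕ) (_ : Fact q.Prime) (P : Sylow q G), (P : Subgroup G).Normal :=
        (Group.isNilpotent_of_finite_tfae (G := G)).out 0 3
      exact hnil (h2.2 h)
    have hqp : q ≠ p := by
      rintro rfl
      apply hQ₀
      have hle : N ≤ (Q₀ : Subgroup G) := hNp.le_sylow_of_normal Q₀
      have hn' : ((Q₀.mapSurjective hπ : Sylow q (G ⧸ N)) : Subgroup (G ⧸ N)).Normal := inferInstance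
      have h3 := hn'.comap π
      rwa [Sylow.coe_mapSurjective, hcm, sup_eq_left.2 hle] at h3
    have hgen : ∀ A : Subgroup G, IsCarter A → A ⊔ N = ⊤ → ∃ Q : Sylow q G, normalizer (Q : Set G) = A := by
      intro A hA htop
      have hinf : N ⊓ A = ⊥ := (hmin _ (normal_inf_of_sup_eq_top hab htop) inf_le_left).resolve_right fun h => by
        apply hnil
        have hNA : N ≤ A := h ▸ inf_le_right
        have : A = ⊤ := top_le_iff.1 (htop ▸ sup_le le_rfl hNA)
        exact Group.isNilpotent_top.1 (this ▸ hA.1)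
      have hcompl : IsComplement' N A := isComplement'_of_disjoint_and_mul_eq_univ (disjoint_iff.2 hinf)
        (by rw [← normal_mul, sup_comm, htop, coe_top])
      obtain ⟨Q⟩ : Nonempty (Sylow q A) := inferInstance
      have hcard : Nat.card ((Q : Subgroup A).map A.subtype) = q ^ (Nat.card G).factorization q := by
        rw [card_map_of_injective A.subtype_injective, Q.card_eq_multiplicity, ← hcompl.card_mul_card,
          Nat.factorization_mul Nat.card_pos.ne' Nat.card_pos.ne', Finsupp.add_apply]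
        have : Fact p.Prime := ⟨hp⟩
        obtain ⟨k, hk⟩ := IsPGroup.iff_card.1 hNp
        rw [hk, hp.factorization_pow, Finsupp.single_eq_of_ne hqp, zero_add]
      let QG := Sylow.ofCard _ hcard
      refine ⟨QG, ?_⟩
      have hAQ : A ≤ normalizer (QG : Set G) := by
        intro a ha
        have := hA.1
        have hQn : (Q : Subgroup A).Normal := inferInstance
        show a ∈ normalizer (((Q : Subgroup A).map A.subtype : Subgroup G) : Set G)
        rw [mem_normalizer_iff]
        intro x
        constructor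
        · rintro ⟨y, hy, rfl⟩
          exact ⟨⟨a, ha⟩ * y * ⟨a, ha⟩⁻¹, hQn.conj_mem y hy _, rfl⟩
        · rintro ⟨y, hy, he⟩
          refine ⟨⟨a, ha⟩⁻¹ * y * ⟨a, ha⟩, ?_, ?_⟩
          · have h' := hQn.conj_mem y hy ⟨a, ha⟩⁻¹
            rw [inv_inv] at h'
            exact h'
          simp only [map_mul, map_inv, he, Subgroup.coe_subtype]
          group
      refine (eq_or_eq_top hab hmin htop hAQ).resolve_right fun h => hQ₀ ?_
      have hn1 : (QG : Subgroup G).Normal := normalizer_eq_top_iff.1 h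
      obtain ⟨x, hx⟩ := MulAction.exists_smul_eq G QG Q₀
      rw [← hx, Sylow.smul_eq_of_normal]
      exact hn1
    obtain ⟨Q, hQ⟩ := hgen _ hC' hCK
    obtain ⟨R, hR⟩ := hgen D hD hK
    obtain ⟨l, hl⟩ := MulAction.exists_smul_eq G Q R
    refine ⟨l, ?_⟩
    rw [← hQ, ← hR, ← hl]
    show (normalizer ((Q : Subgroup G) : Set G)).map (MulAut.conj l).toMonoidHom = normalizer (((Q : Subgroup G).map (MulAut.conj l).toMonoidHom : Subgroup G) : Set G)
    exact map_normalizer_eq_of_bijective (Q : Subgroup G) (MulAut.conj l).bijective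

/-- The image of a Carter subgroup is a Carter subgroup. -/
theorem isCarter_map [Finite G] [Group.IsSolvable G] {C : Subgroup G} (hC : IsCarter C)
    {H : Type*} [Group H] {f : G →* H} (hf : Function.Surjective f) : IsCarter (C.map f) := by
  refine ⟨isNilpotent_map f hC.1, comap_injective hf ?_⟩
  rw [comap_normalizer_eq_of_surjective _ hf, comap_map_eq]
  refine normalizer_eq_of_conj hC le_sup_left fun B hB hBL => ?_
  obtain ⟨k, hk⟩ := carter_conj _ _ rfl _ _ (isCarter_subgroupOf le_sup_left hC) (isCarter_subgroupOf hBL hB)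
  rw [smul_subgroupOf] at hk
  have hk' := congrArg (Subgroup.map (C ⊔ f.ker).subtype) hk
  rw [map_subgroupOf_eq_of_le (conj_smul_le le_sup_left (le_normalizer k.2)), map_subgroupOf_eq_of_le hBL] at hk'
  exact ⟨k, k.2, hk'⟩

theorem exists_carter : ∀ (n : ℕ) (G : Type*) [Group G] [Finite G] [Group.IsSolvable G],
    Nat.card G = n → ∃ C : Subgroup G, IsCarter C := by
  intro n
  induction n using Nat.strong_induction_on with
  | _ n ih =>
    intro G _ _ _ hn
    by_cases hnil : Group.IsNilpotent G
    · exact ⟨⊤, Group.isNilpotent_top.2 hnil, top_le_iff.1 le_normalizer⟩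
    have : Nontrivial G := by
      by_contra h
      rw [not_nontrivial_iff_subsingleton] at h
      exact hnil inferInstance
    obtain ⟨N, hN, hNb, hmin, hab, p, hp, hNp⟩ := exists_minimal (G := G)
    let π := QuotientGroup.mk' N
    have hπ : Function.Surjective π := QuotientGroup.mk'_surjective N
    obtain ⟨Cb, hCb⟩ := ih _ (hn ▸ card_quotient_lt N hNb) (G ⧸ N) rfl
    let K : Subgroup G := Cb.comap π
    have hKsn : normalizer (K : Set G) = K := by
      rw [← comap_normalizer_eq_of_surjective Cb hπ, hCb.2]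
    by_cases hK : K = ⊤
    · have hQ : Group.IsNilpotent (G ⧸ N) := by
        have : Cb = ⊤ := by
          rw [← map_comap_eq_self_of_surjective hπ Cb]
          show K.map π = ⊤
          rw [hK, map_top_of_surjective _ hπ]
        exact Group.isNilpotent_top.1 (this ▸ hCb.1)
      obtain ⟨M, hM, hNM⟩ : ∃ M : Subgroup G, IsCoatom M ∧ ¬ N ≤ M := by
        by_contra h
        push Not at h
        have hΦ : ∀ (M : Subgroup G), IsCoatom M → M.Normal := by
          intro M hM
          have hcm : (M.map π).comap π = M :=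
            comap_map_eq_self (by rw [QuotientGroup.ker_mk']; exact h M hM)
          have hMb : IsCoatom (M.map π) := by
            refine ⟨fun h' => hM.1 (by rw [← hcm, h', comap_top]), fun L hL => ?_⟩
            have h1 : M < L.comap π := by
              rw [← hcm]; exact (comap_lt_comap_of_surjective hπ).2 hL
            have h2 := congrArg (Subgroup.map π) (hM.2 _ h1)
            rwa [map_comap_eq_self_of_surjective hπ, map_top_of_surjective _ hπ] at h2
          have h2 : Group.IsNilpotent (G ⧸ N) ↔ ∀ H : Subgroup (G ⧸ N), IsCoatom H → H.Normal :=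
            (Group.isNilpotent_of_finite_tfae (G := G ⧸ N)).out 0 2
          rw [← hcm]
          exact (h2.1 hQ _ hMb).comap π
        have h2 : Group.IsNilpotent G ↔ ∀ H : Subgroup G, IsCoatom H → H.Normal :=
          (Group.isNilpotent_of_finite_tfae (G := G)).out 0 2
        exact hnil (h2.2 hΦ)
      have htop : M ⊔ N = ⊤ := hM.2 _ (lt_of_le_of_ne le_sup_left fun h => hNM (h ▸ le_sup_right))
      have hinf : N ⊓ M = ⊥ :=
        (hmin _ (normal_inf_of_sup_eq_top hab htop) inf_le_left).resolve_right fun h => hNM (h ▸ inf_le_right)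
      have hinj : Function.Injective (π.comp M.subtype) := by
        intro a b h
        have : (a : G)⁻¹ * b ∈ N := QuotientGroup.eq.1 h
        exact Subtype.ext (inv_mul_eq_one.1 (mem_bot.1 (hinf ▸ mem_inf.2 ⟨this, mul_mem (inv_mem a.2) b.2⟩)))
      have hsurj : Function.Surjective (π.comp M.subtype) := by
        intro q
        obtain ⟨g, rfl⟩ := hπ q
        obtain ⟨m, hm, x, hx, rfl⟩ := mem_sup_of_normal_right.1 (htop ▸ mem_top g : g ∈ M ⊔ N)
        exact ⟨⟨m, hm⟩, QuotientGroup.eq.2 (by simpa using hx)⟩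
      have hMnil : Group.IsNilpotent M :=
        Group.nilpotent_of_mulEquiv (MulEquiv.ofBijective _ ⟨hinj, hsurj⟩).symm
      refine ⟨M, hMnil, (eq_or_eq_top hab hmin htop le_normalizer).resolve_right fun h => hnil ?_⟩
      have := normalizer_eq_top_iff.1 h
      have hNnil : Group.IsNilpotent N := by
        have : Fact p.Prime := ⟨hp⟩
        exact hNp.isNilpotent
      rw [← Cfsg.Agent.Cores.fittingSubgroup_eq_top_iff, eq_top_iff, ← htop]
      exact sup_le (Cfsg.Agent.Cores.le_fittingSubgroup hMnil) (Cfsg.Agent.Cores.le_fittingSubgroup hNnil)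
    · obtain ⟨C₀, hC₀⟩ := ih _ (hn ▸ card_lt hK) K rfl
      let C : Subgroup G := C₀.map K.subtype
      have hCK : C ≤ K := map_subtype_le _
      refine ⟨C, isNilpotent_map _ hC₀.1, le_antisymm ?_ le_normalizer⟩
      have hcov : K ≤ C ⊔ N := by
        let f : K →* Cb := π.subgroupComap Cb
        have hf : Function.Surjective f := fun ⟨y, hy⟩ => by
          obtain ⟨x, rfl⟩ := hπ y
          exact ⟨⟨x, hy⟩, rfl⟩
        have := hCb.1
        have htop := eq_top_of_isCarter (isCarter_map hC₀ hf)
        intro x hx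
        obtain ⟨c, hc, he⟩ := (htop.ge (mem_top (f ⟨x, hx⟩)))
        have hd : (c : G)⁻¹ * x ∈ N := QuotientGroup.eq.1 (congrArg Subtype.val he : π c = π x)
        have : x = (c : G) * ((c : G)⁻¹ * x) := by simp
        rw [this]
        exact mul_mem (mem_sup_left (mem_map_of_mem _ hc)) (mem_sup_right hd)
      intro g hg
      have hgK : g ∈ K := by
        rw [← hKsn, mem_normalizer_iff]
        have hKe : K = C ⊔ N := le_antisymm hcov (sup_le hCK fun x hx => by
          show π x ∈ Cb
          rw [show π x = 1 from (QuotientGroup.eq_one_iff x).2 hx]; exact one_mem _)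
        rw [hKe]
        have hgN : g ∈ normalizer ((C ⊔ N : Subgroup G) : Set G) := by
          rw [mem_normalizer_iff_map_conj_eq] at hg ⊢
          rw [Subgroup.map_sup, hg, Normal.map_conj_eq]
        exact mem_normalizer_iff.1 hgN
      refine ⟨⟨g, hgK⟩, ?_, rfl⟩
      rw [SetLike.mem_coe, ← hC₀.2, mem_normalizer_iff]
      intro x
      have := mem_normalizer_iff.1 hg (x : G)
      rw [← mem_map_iff_mem K.subtype_injective, ← mem_map_iff_mem K.subtype_injective (x := ⟨g, hgK⟩ * x * ⟨g, hgK⟩⁻¹)]
      exact this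

end Cfsg.Agent.H24.Carter
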