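import Mathlib.GroupTheory.Sylow
import Mathlib.GroupTheory.PGroup
import Mathlib.GroupTheory.OrderOfElement
import Mathlib.Data.Nat.Factorization.Basic
import Mathlib.Tactic.Group

/-!
# Class sizes of centreless groups with disconnected prime graph
-/

set_option autoImplicit false

namespace Cfsg.Agent.H24.ClassSizeTypes

open Subgroup

variable {G : Type*} [Group G]

/-- The class size of an element. -/
noncomputable def cs (x : G) : ℕ := (centralizer ({x} : Set G)).index

/-- `s` contains the full `r`-part of `N` for all primes `r ∈ A`. -/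
def TypeIn (A : Set ℕ) (N s : ℕ) : Prop :=
  ∀ r, r.Prime → r ∈ A → N.factorization r ≤ s.factorization r

/-- The properties of the set of class sizes which both groups share. -/
structure SizeData (A : Set ℕ) (N : ℕ) (S : Set ℕ) : Prop where
  dvd : ∀ s ∈ S, s ∣ N
  cases : ∀ s ∈ S, s ≠ 1 → TypeIn A N s ∨ TypeIn Aᶜ N s
  excl : ∀ s ∈ S, ¬ (TypeIn A N s ∧ TypeIn Aᶜ N s)
  avoid : ∀ r, r.Prime → r ∣ N → ∃ s ∈ S, s ≠ 1 ∧ ¬ r ∣ s

theorem SizeData.symm {A : Set ℕ} {N : ℕ} {S : Set ℕ} (D : SizeData A N S) : SizeData Aᶜ N S where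
  dvd := D.dvd
  cases s hs h1 := by rw [compl_compl]; exact (D.cases s hs h1).symm
  excl s hs := by rw [compl_compl, and_comm]; exact D.excl s hs
  avoid := D.avoid

theorem SizeData.typeIn_of_avoid {A : Set ℕ} {N : ℕ} {S : Set ℕ} (D : SizeData A N S) {s r : ℕ}
    (hs : s ∈ S) (h1 : s ≠ 1) (hr : r.Prime) (hN : N ≠ 0) (hrN : r ∣ N) (hrA : r ∉ A) (hrs : ¬ r ∣ s) :
    TypeIn A N s := by
  refine (D.cases s hs h1).resolve_right fun h => ?_
  have := h r hr hrA
  rw [Nat.factorization_eq_zero_of_not_dvd hrs, nonpos_iff_eq_zero] at this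
  exact (hr.factorization_pos_of_dvd hN hrN).ne' this

theorem centralizer_le_of_mem_zpowers {x w : G} (h : w ∈ zpowers x) :
    centralizer ({x} : Set G) ≤ centralizer ({w} : Set G) := by
  intro g hg
  rw [mem_centralizer_singleton_iff] at hg ⊢
  obtain ⟨k, rfl⟩ := mem_zpowers_iff.1 h
  exact (show Commute g x from hg).zpow_right k

theorem cs_dvd_of_mem_zpowers {x w : G} (h : w ∈ zpowers x) : cs w ∣ cs x :=
  index_dvd_of_le (centralizer_le_of_mem_zpowers h)

theorem cs_ne_one (hZ : center G = ⊥) {x : G} (hx : x ≠ 1) : cs x ≠ 1 := fun h => by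
  rw [cs, index_eq_one] at h
  exact hx (mem_bot.1 (hZ ▸ mem_center_iff.2 fun g =>
    mem_centralizer_singleton_iff.1 (h ▸ mem_top g)))

theorem cs_conj (g x : G) : cs (g * x * g⁻¹) = cs x := by
  have h : centralizer ({g * x * g⁻¹} : Set G) = (centralizer ({x} : Set G)).map (MulAut.conj g).toMonoidHom := by
    ext y
    rw [mem_map_equiv, mem_centralizer_singleton_iff, mem_centralizer_singleton_iff, MulAut.conj_symm_apply]
    constructor
    · intro h
      calc g⁻¹ * y * g * x = g⁻¹ * (y * (g * x * g⁻¹)) * g := by group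
        _ = g⁻¹ * (g * x * g⁻¹ * y) * g := by rw [h]
        _ = x * (g⁻¹ * y * g) := by group
    · intro h
      calc y * (g * x * g⁻¹) = g * (g⁻¹ * y * g * x) * g⁻¹ := by group
        _ = g * (x * (g⁻¹ * y * g)) * g⁻¹ := by rw [h]
        _ = g * x * g⁻¹ * y := by group
  rw [cs, cs, h]
  exact index_map_equiv _ (MulAut.conj g)

variable [Finite G]

theorem cs_factorization (x : G) (r : ℕ) :
    (Nat.card (centralizer ({x} : Set G))).factorization r + (cs x).factorization r =
      (Nat.card G).factorization r := by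
  rw [cs, ← Finsupp.add_apply, ← Nat.factorization_mul Nat.card_pos.ne' index_ne_zero_of_finite,
    (centralizer ({x} : Set G)).card_mul_index]

theorem exists_central_sylow_element {r : ℕ} [Fact r.Prime] (P : Sylow r G) (hr : r ∣ Nat.card G) :
    ∃ z : G, (∀ y ∈ (P : Subgroup G), y * z = z * y) ∧ orderOf z = r ∧ ¬ r ∣ cs z := by
  have := (nontrivial_iff_ne_bot (P : Subgroup G)).2 (P.ne_bot_of_dvd_card hr)
  have hne := P.2.center_nontrivial
  obtain ⟨z, hz⟩ := exists_prime_orderOf_dvd_card' r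
    (((P.2.to_subgroup (center (P : Subgroup G))).card_eq_or_dvd).resolve_left
      (Nat.ne_of_gt Finite.one_lt_card))
  rw [← Subgroup.orderOf_coe, ← Subgroup.orderOf_coe] at hz
  refine ⟨((z : (P : Subgroup G)) : G),
    fun y hy => congrArg Subtype.val (mem_center_iff.1 z.2 ⟨y, hy⟩), hz, fun hd => ?_⟩
  exact P.not_dvd_index (hd.trans (index_dvd_of_le fun y hy =>
    mem_centralizer_singleton_iff.2 (congrArg Subtype.val (mem_center_iff.1 z.2 ⟨y, hy⟩))))

/-- The class sizes of a centreless group with disconnected prime graph. -/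
theorem sizeData_self (hZ : center G = ⊥) {A : Set ℕ}
    (hA : ∃ a ∈ A, a.Prime ∧ a ∣ Nat.card G) (hB : ∃ b ∉ A, b.Prime ∧ b ∣ Nat.card G)
    (hno : ∀ a ∈ A, ∀ b ∉ A, a.Prime → b.Prime → a ∣ Nat.card G → b ∣ Nat.card G →
      ¬ ∃ x : G, orderOf x = a * b) :
    SizeData A (Nat.card G) (Set.range (cs : G → ℕ)) := by
  have key : ∀ (w : G) (r q : ℕ), r.Prime → q.Prime → r ≠ q → r ∣ orderOf w →
      q ∣ Nat.card (centralizer ({w} : Set G)) → ∃ x : G, orderOf x = r * q := by
    intro w r q hr hq hrq hrw hqC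
    have := Fact.mk hq
    obtain ⟨⟨x, hx⟩, hxo⟩ := exists_prime_orderOf_dvd_card' q hqC
    rw [Subgroup.orderOf_mk] at hxo
    obtain ⟨k, hk⟩ := hrw
    have hk0 : k ≠ 0 := fun h => (orderOf_pos w).ne' (by rw [hk, h, mul_zero])
    refine ⟨w ^ k * x, ?_⟩
    have hwk : orderOf (w ^ k) = r := by
      rw [orderOf_pow' w hk0, hk, Nat.gcd_eq_right (dvd_mul_left k r), Nat.mul_div_cancel _ (Nat.pos_of_ne_zero hk0)]
    have hc : Commute (w ^ k) x := (show Commute w x from (mem_centralizer_singleton_iff.1 hx).symm).pow_left k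
    rw [hc.orderOf_mul_eq_mul_orderOf_of_coprime (by rw [hwk, hxo]; exact (Nat.coprime_primes hr hq).2 hrq),
      hwk, hxo]
  have htype : ∀ w : G, w ≠ 1 → ∀ r, r.Prime → r ∣ orderOf w →
      (r ∈ A → TypeIn Aᶜ (Nat.card G) (cs w)) ∧ (r ∉ A → TypeIn A (Nat.card G) (cs w)) := by
    intro w _ r hr hrw
    have hrG : r ∣ Nat.card G := hrw.trans (orderOf_dvd_natCard w)
    constructor <;> intro hrA q hq hqA
    all_goals
      by_cases hqG : q ∣ Nat.card G
      swap
      · rw [Nat.factorization_eq_zero_of_not_dvd hqG]; exact Nat.zero_le _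
      have hne : r ≠ q := by rintro rfl; exact absurd hrA (by simp_all)
      have hnd : ¬ q ∣ Nat.card (centralizer ({w} : Set G)) := fun hd => by
        obtain ⟨x, hx⟩ := key w r q hr hq hne hrw hd
        first
          | exact hno r hrA q hqA hr hq hrG hqG ⟨x, hx⟩
          | exact hno q hqA r hrA hq hr hqG hrG ⟨x, by rw [hx, mul_comm]⟩
      have := cs_factorization w q
      rw [Nat.factorization_eq_zero_of_not_dvd hnd, zero_add] at this
      exact this.ge
  constructor
  · rintro _ ⟨w, rfl⟩; exact index_dvd_card _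
  · rintro _ ⟨w, rfl⟩ h1
    have hw : w ≠ 1 := by
      rintro rfl
      apply h1
      rw [cs, index_eq_one, eq_top_iff]
      exact fun y _ => mem_centralizer_singleton_iff.2 (by simp)
    obtain ⟨r, hr, hrw⟩ := Nat.exists_prime_and_dvd (mt orderOf_eq_one_iff.1 hw)
    by_cases hrA : r ∈ A
    · exact Or.inr ((htype w hw r hr hrw).1 hrA)
    · exact Or.inl ((htype w hw r hr hrw).2 hrA)
  · rintro _ ⟨w, rfl⟩ ⟨hA', hB'⟩
    obtain ⟨a, haA, ha, haG⟩ := hA
    rcases eq_or_ne w 1 with rfl | hw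
    · have h1 : cs (1 : G) = 1 := by
        rw [cs, index_eq_one, eq_top_iff]
        exact fun y _ => mem_centralizer_singleton_iff.2 (by simp)
      have := hA' a ha haA
      rw [h1, Nat.factorization_one, Finsupp.zero_apply, nonpos_iff_eq_zero] at this
      exact (ha.factorization_pos_of_dvd Nat.card_pos.ne' haG).ne' this
    · obtain ⟨r, hr, hrw⟩ := Nat.exists_prime_and_dvd (mt orderOf_eq_one_iff.1 hw)
      have h1 := cs_factorization w r
      have h2 : (Nat.card G).factorization r ≤ (cs w).factorization r := by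
        by_cases hrA : r ∈ A
        · exact hA' r hr hrA
        · exact hB' r hr hrA
      have hmem : w ∈ centralizer ({w} : Set G) := mem_centralizer_singleton_iff.2 rfl
      have h3 : r ∣ Nat.card (centralizer ({w} : Set G)) :=
        hrw.trans (Subgroup.orderOf_dvd_natCard _ hmem)
      have := hr.factorization_pos_of_dvd Nat.card_pos.ne' h3
      omega
  · intro r hr hrG
    have := Fact.mk hr
    obtain ⟨P⟩ : Nonempty (Sylow r G) := inferInstance
    obtain ⟨z, -, hz, hnd⟩ := exists_central_sylow_element P hrG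
    exact ⟨cs z, ⟨z, rfl⟩, cs_ne_one hZ (fun h => by rw [h, orderOf_one] at hz; exact hr.one_lt.ne hz), hnd⟩

variable (hZ : center G = ⊥) {A : Set ℕ} {N : ℕ} (D : SizeData A N (Set.range (cs : G → ℕ)))
include hZ D

theorem typeIn_iff_of_mem_zpowers (hN : N ≠ 0) {x w : G} (h : w ∈ zpowers x) (hw : w ≠ 1) :
    TypeIn A N (cs w) ↔ TypeIn A N (cs x) := by
  have hd := cs_dvd_of_mem_zpowers h
  have hx0 : cs x ≠ 0 := index_ne_zero_of_finite
  have mono : ∀ B : Set ℕ, TypeIn B N (cs w) → TypeIn B N (cs x) := fun B hB r hr hrB =>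
    (hB r hr hrB).trans ((Nat.factorization_le_iff_dvd index_ne_zero_of_finite hx0).2 hd r)
  refine ⟨mono A, fun hx => (D.cases _ ⟨w, rfl⟩ (cs_ne_one hZ hw)).resolve_right fun hwB => ?_⟩
  exact D.excl _ ⟨x, rfl⟩ ⟨hx, mono _ hwB⟩

theorem typeIn_iff_of_commute (hN : N ≠ 0) {u y : G} (hc : Commute u y)
    (hco : (orderOf u).Coprime (orderOf y)) (hu : u ≠ 1) (hy : y ≠ 1) :
    TypeIn A N (cs u) ↔ TypeIn A N (cs y) := by
  have mem : ∀ {u y : G}, Commute u y → (orderOf u).Coprime (orderOf y) → u ∈ zpowers (u * y) := by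
    intro u y hc hco
    have h1 : (u * y) ^ orderOf y = u ^ orderOf y := by
      rw [hc.mul_pow, pow_orderOf_eq_one, mul_one]
    obtain ⟨m, hm⟩ := exists_pow_eq_self_of_coprime (x := u) hco.symm
    exact mem_zpowers_iff.2 ⟨(orderOf y * m : ℕ), by rw [zpow_natCast, pow_mul, h1, hm]⟩
  rw [typeIn_iff_of_mem_zpowers hZ D hN (mem hc hco) hu,
    typeIn_iff_of_mem_zpowers hZ D hN (hc.eq ▸ mem hc.symm hco.symm) hy]

/-- The main inequality. -/
theorem factorization_le (hN : N ≠ 0) {r b : ℕ} (hr : r.Prime) (hb : b.Prime) (hbA : b ∉ A)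
    (hbN : b ∣ N) (hbr : b ≠ r) (hbG : b ∣ Nat.card G)
    (hrA : ∀ s ∈ Set.range (cs : G → ℕ), TypeIn A N s → N.factorization r ≤ s.factorization r)
    (hzA : ∃ (P : Sylow r G) (z : G), (∀ y ∈ (P : Subgroup G), y * z = z * y) ∧ orderOf z = r ∧
      ¬ TypeIn A N (cs z)) :
    (Nat.card G).factorization r ≤ N.factorization r := by
  by_contra hlt
  rw [not_le] at hlt
  have := Fact.mk hr
  have := Fact.mk hb
  -- an element of type `A` whose order is a prime other than `r`
  obtain ⟨y, hyr, hyA⟩ : ∃ y : G, (∃ q, q.Prime ∧ q ≠ r ∧ orderOf y = q) ∧ TypeIn A N (cs y) := by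
    obtain ⟨s, ⟨y₀, rfl⟩, hs1, hbs⟩ := D.avoid b hb hbN
    have hA0 := D.typeIn_of_avoid ⟨y₀, rfl⟩ hs1 hb hN hbN hbA hbs
    have hy0 : y₀ ≠ 1 := by
      rintro rfl
      apply hs1
      rw [cs, index_eq_one, eq_top_iff]
      exact fun y _ => mem_centralizer_singleton_iff.2 (by simp)
    have hbC : b ∣ Nat.card (centralizer ({y₀} : Set G)) := by
      rcases hb.dvd_mul.1 ((centralizer ({y₀} : Set G)).card_mul_index.symm ▸ hbG) with h | h
      · exact h
      · exact absurd h hbs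
    obtain ⟨⟨u, hu⟩, huo⟩ := exists_prime_orderOf_dvd_card' b hbC
    rw [Subgroup.orderOf_mk] at huo
    have hu1 : u ≠ 1 := fun h => by rw [h, orderOf_one] at huo; exact hb.one_lt.ne huo
    by_cases hex : ∃ q, q.Prime ∧ q ≠ r ∧ q ∣ orderOf y₀
    · obtain ⟨q, hq, hqr, k, hk⟩ := hex
      have hk0 : k ≠ 0 := fun h => (orderOf_pos y₀).ne' (by rw [hk, h, mul_zero])
      have hyk : orderOf (y₀ ^ k) = q := by
        rw [orderOf_pow' y₀ hk0, hk, Nat.gcd_eq_right (dvd_mul_left k q), Nat.mul_div_cancel _ (Nat.pos_of_ne_zero hk0)]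
      refine ⟨y₀ ^ k, ⟨q, hq, hqr, hyk⟩, (typeIn_iff_of_mem_zpowers hZ D hN
        (npow_mem_zpowers y₀ k) fun h => ?_).2 hA0⟩
      rw [h, orderOf_one] at hyk; exact hq.one_lt.ne hyk
    · refine ⟨u, ⟨b, hb, hbr, huo⟩, (typeIn_iff_of_commute hZ D hN
        (mem_centralizer_singleton_iff.1 hu : Commute u y₀) ?_ hu1 hy0).2 hA0⟩
      rw [huo, hb.coprime_iff_not_dvd]
      exact fun h => hex ⟨b, hb, hbr, h⟩
  obtain ⟨q, hq, hqr, hyo⟩ := hyr
  have hy1 : y ≠ 1 := fun h => by rw [h, orderOf_one] at hyo; exact hq.one_lt.ne hyo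
  -- the Sylow `r`-parts of centralisers of elements of type `A`
  have hpart : ∀ x : G, TypeIn A N (cs x) →
      (Nat.card (centralizer ({x} : Set G))).factorization r + N.factorization r =
        (Nat.card G).factorization r := by
    intro x hx
    rw [← cs_factorization x r, le_antisymm (hrA _ ⟨x, rfl⟩ hx)
      ((Nat.factorization_le_iff_dvd index_ne_zero_of_finite hN).2 (D.dvd _ ⟨x, rfl⟩) r)]
  obtain ⟨R⟩ : Nonempty (Sylow r (centralizer ({y} : Set G))) := inferInstance
  let RG : Subgroup G := (R : Subgroup (centralizer ({y} : Set G))).map (centralizer ({y} : Set G)).subtype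
  have hRc : Nat.card RG = r ^ ((Nat.card G).factorization r - N.factorization r) := by
    rw [card_map_of_injective (centralizer ({y} : Set G)).subtype_injective, R.card_eq_multiplicity]
    congr 1
    have := hpart y hyA
    omega
  have hRA : ∀ u ∈ RG, u ≠ 1 → TypeIn A N (cs u) := by
    intro u hu hu1
    refine (typeIn_iff_of_commute hZ D hN ?_ ?_ hu1 hy1).2 hyA
    · exact mem_centralizer_singleton_iff.1 (map_subtype_le _ hu)
    · obtain ⟨k, hk⟩ := IsPGroup.iff_orderOf.1 (R.2.map (centralizer ({y} : Set G)).subtype) ⟨u, hu⟩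
      rw [Subgroup.orderOf_mk] at hk
      rw [hk, hyo]
      exact ((Nat.coprime_primes hr hq).2 hqr.symm).pow_left k
  have hRp : IsPGroup r RG := R.2.map _
  have : Nontrivial RG := by
    rw [← Finite.one_lt_card_iff_nontrivial, hRc]
    exact Nat.one_lt_pow (by omega) hr.one_lt
  have := hRp.center_nontrivial
  obtain ⟨v, hv⟩ := exists_ne (1 : center RG)
  have hv1 : ((v : RG) : G) ≠ 1 := fun h => hv (Subtype.ext (Subtype.ext h))
  have hvA := hRA _ (v : RG).2 hv1
  have hRv : RG ≤ centralizer ({((v : RG) : G)} : Set G) := fun w hw =>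
    mem_centralizer_singleton_iff.2 (congrArg Subtype.val (mem_center_iff.1 v.2 ⟨w, hw⟩))
  have hSc : Nat.card (RG.subgroupOf (centralizer ({((v : RG) : G)} : Set G))) =
      r ^ (Nat.card (centralizer ({((v : RG) : G)} : Set G))).factorization r := by
    rw [Nat.card_congr (subgroupOfEquivOfLe hRv).toEquiv, hRc]
    congr 1
    have := hpart _ hvA
    omega
  let S : Sylow r (centralizer ({((v : RG) : G)} : Set G)) := Sylow.ofCard _ hSc
  obtain ⟨P, hP⟩ := hRp.exists_le_sylow
  obtain ⟨P₀, z₀, hz₀P, hz₀o, hz₀A⟩ := hzA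
  obtain ⟨g₀, hg₀⟩ := MulAction.exists_smul_eq G P₀ P
  let z : G := g₀ * z₀ * g₀⁻¹
  have hzo : orderOf z = r := by
    show orderOf (MulAut.conj g₀ z₀) = r
    rw [MulEquiv.orderOf_eq, hz₀o]
  have hzP : ∀ y ∈ (P : Subgroup G), y * z = z * y := by
    intro y hy
    rw [← hg₀, Sylow.coe_subgroup_smul, mem_pointwise_smul_iff_inv_smul_mem, MulAut.smul_def,
      MulAut.conj_inv_apply] at hy
    have := hz₀P _ hy
    calc y * z = g₀ * (g₀⁻¹ * y * g₀ * z₀) * g₀⁻¹ := by simp only [z]; group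
      _ = g₀ * (z₀ * (g₀⁻¹ * y * g₀)) * g₀⁻¹ := by rw [this]
      _ = z * y := by simp only [z]; group
  have hzc : z ∈ centralizer ({((v : RG) : G)} : Set G) :=
    mem_centralizer_singleton_iff.2 (hzP _ (hP (v : RG).2)).symm
  have hzp : IsPGroup r (zpowers (⟨z, hzc⟩ : centralizer ({((v : RG) : G)} : Set G))) :=
    IsPGroup.of_card (n := 1) (by rw [Nat.card_zpowers, Subgroup.orderOf_mk, hzo, pow_one])
  obtain ⟨T, hT⟩ := hzp.exists_le_sylow
  obtain ⟨g, hg⟩ := MulAction.exists_smul_eq (centralizer ({((v : RG) : G)} : Set G)) T S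
  have hmem : g * ⟨z, hzc⟩ * g⁻¹ ∈ (S : Subgroup _) := by
    rw [← hg, Sylow.coe_subgroup_smul, mem_pointwise_smul_iff_inv_smul_mem, MulAut.smul_def, MulAut.conj_inv_apply]
    simpa [mul_assoc] using hT (mem_zpowers _)
  have hmem' : (g : G) * z * (g : G)⁻¹ ∈ RG := hmem
  apply hz₀A
  rw [← cs_conj g₀ z₀, ← cs_conj (g : G) z]
  refine hRA _ hmem' fun h => ?_
  have hz1 : z = 1 := by simpa using h
  rw [hz1, orderOf_one] at hzo
  exact hr.one_lt.ne hzo

end Cfsg.Agent.H24.ClassSizeTypes
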