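import Cfsg.Agent.H24.CyclicIntersectMain

/-!
# The solvable radical of a group whose Sylow 2-subgroups meet in cyclic groups

Given the odd order theorem: if `G` is nonsolvable and two distinct Sylow `2`-subgroups always meet
in a cyclic group, the solvable radical modulo `O(G)` is a central cyclic `2`-group.
-/

set_option autoImplicit false
set_option linter.unusedSectionVars false
set_option linter.style.haveILetI false

namespace Cfsg.Agent.H24.CycInt

open Subgroup

local instance : Fact (Nat.Prime 2) := ⟨Nat.prime_two⟩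

universe u

variable {G : Type u} [Group G] [Finite G]

theorem isCyclic_of_le {A B : Subgroup G} (h : A ≤ B) (hB : IsCyclic B) : IsCyclic A := by
  haveI := hB
  exact isCyclic_of_injective (inclusion h) (inclusion_injective h)

theorem CI.subgroup (h : CI G) (M : Subgroup G) : CI M := by
  intro P Q hPQ
  obtain ⟨S, hS⟩ := (P.isPGroup'.map M.subtype).exists_le_sylow
  obtain ⟨T, hT⟩ := (Q.isPGroup'.map M.subtype).exists_le_sylow
  have hST : S ≠ T := by
    rintro rfl
    apply hPQ
    have h2 : IsPGroup 2 ((S : Subgroup G).subgroupOf M) := S.isPGroup'.comap_subtype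
    have hP : (P : Subgroup M) ≤ (S : Subgroup G).subgroupOf M := fun x hx => hS ⟨x, hx, rfl⟩
    have hQ : (Q : Subgroup M) ≤ (S : Subgroup G).subgroupOf M := fun x hx => hT ⟨x, hx, rfl⟩
    exact Sylow.ext ((P.is_maximal' h2 hP).symm.trans (Q.is_maximal' h2 hQ))
  have h1 : ((P : Subgroup M) ⊓ (Q : Subgroup M)).map M.subtype ≤
      (S : Subgroup G) ⊓ (T : Subgroup G) := (map_inf_le _ _ _).trans (inf_le_inf hS hT)
  haveI := isCyclic_of_le h1 (h S T hST)
  exact isCyclic_of_surjective _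
    (((P : Subgroup M) ⊓ (Q : Subgroup M)).equivMapOfInjective _ M.subtype_injective).symm.surjective

theorem CI.quotient (h : CI G) (N : Subgroup G) [N.Normal] : CI (G ⧸ N) := by
  intro P Q hPQ
  obtain ⟨S, rfl⟩ := Sylow.mapSurjective_surjective (QuotientGroup.mk'_surjective N) 2 P
  obtain ⟨T, rfl⟩ := Sylow.mapSurjective_surjective (QuotientGroup.mk'_surjective N) 2 Q
  set f := QuotientGroup.mk' N
  set A : Subgroup (G ⧸ N) := (S : Subgroup G).map f ⊓ (T : Subgroup G).map f with hA
  let X : Subgroup G := A.comap f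
  obtain ⟨R⟩ := (inferInstance : Nonempty (Sylow 2 X))
  set R' : Subgroup G := (R : Subgroup X).map X.subtype with hR'
  have hmap : A ≤ R'.map f := by
    have hA2 : IsPGroup 2 A := (S.isPGroup'.map f).to_le inf_le_left
    let φ : X →* A := f.subgroupComap A
    have hφ : Function.Surjective φ := by
      rintro ⟨a, ha⟩
      obtain ⟨x, rfl⟩ := QuotientGroup.mk'_surjective N a
      exact ⟨⟨x, ha⟩, rfl⟩
    have htop : (R : Subgroup X).map φ = ⊤ := by
      have h1 := hA2.to_subgroup (⊤ : Subgroup A)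
      exact ((R.mapSurjective hφ).is_maximal' h1 le_top).symm
    intro a ha
    obtain ⟨r, hr, hra⟩ := (htop ▸ mem_top (⟨a, ha⟩ : A) : (⟨a, ha⟩ : A) ∈ (R : Subgroup X).map φ)
    exact ⟨r, ⟨r, hr, rfl⟩, congrArg Subtype.val hra⟩
  have key : ∀ U : Sylow 2 G, A ≤ (U : Subgroup G).map f →
      ∃ U1 : Sylow 2 G, R' ≤ U1 ∧ (U1 : Subgroup G).map f = (U : Subgroup G).map f := by
    intro U hU
    set K := (U : Subgroup G) ⊔ N with hK
    have hRK : R' ≤ K := by
      rintro _ ⟨⟨x, hx⟩, -, rfl⟩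
      have : f x ∈ (U : Subgroup G).map f := hU hx
      rw [← mem_comap, comap_map_eq, QuotientGroup.ker_mk'] at this
      exact this
    obtain ⟨V, hV⟩ := ((R.isPGroup'.map X.subtype).comap_subtype (K := K)).exists_le_sylow
    obtain ⟨k, hk⟩ := MulAction.exists_smul_eq K (U.subtype (le_sup_left (a := (U : Subgroup G)))) V
    refine ⟨(k : G) • U, fun x hx => ?_, ?_⟩
    · have h1 : (⟨x, hRK hx⟩ : K) ∈ V := hV hx
      rw [← hk, mem_smul_iff'] at h1
      exact mem_smul_iff.2 h1
    · have hkU : f k ∈ (U : Subgroup G).map f := by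
        rw [← mem_comap, comap_map_eq, QuotientGroup.ker_mk']
        exact k.2
      ext y
      constructor
      · rintro ⟨x, hx, rfl⟩
        have h1 := mem_smul_iff.1 hx
        have h2 : f ((k : G)⁻¹ * x * k) ∈ (U : Subgroup G).map f := ⟨_, h1, rfl⟩
        have := mul_mem (mul_mem hkU h2) (inv_mem hkU)
        simpa [mul_assoc] using this
      · intro hy
        obtain ⟨u, hu, he⟩ := mul_mem (mul_mem (inv_mem hkU) hy) hkU
        refine ⟨(k : G) * u * (k : G)⁻¹, conj_mem_smul hu, ?_⟩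
        simp [he, mul_assoc]
  obtain ⟨S1, hS1, hS1'⟩ := key S inf_le_left
  obtain ⟨T1, hT1, hT1'⟩ := key T inf_le_right
  have hne : S1 ≠ T1 := by
    rintro rfl
    exact hPQ (Sylow.ext (hS1'.symm.trans hT1'))
  haveI : IsCyclic R' := isCyclic_of_le (le_inf hS1 hT1) (h S1 T1 hne)
  haveI : IsCyclic (R'.map f) := isCyclic_of_surjective _ (f.subgroupMap_surjective R')
  exact isCyclic_of_le hmap inferInstance
where
  mem_smul_iff' {H : Type u} [Group H] [Finite H] {g x : H} {S : Sylow 2 H} :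
      x ∈ g • S ↔ g⁻¹ * x * g ∈ S := mem_smul_iff

theorem oddCore_map_eq_bot (hO : Cfsg.oddCore G = ⊥) (N : Subgroup G) [N.Normal] :
    Cfsg.oddCore N = ⊥ := by
  have h := Cores.map_pPrimeCore_le_of_normal (p := 2) N
  rw [show Cfsg.pPrimeCore 2 G = ⊥ from hO, le_bot_iff, Subgroup.map_eq_bot_iff, ker_subtype,
    le_bot_iff] at h
  exact h

theorem isSolvable_of_solvable_quotient (N : Subgroup G) [N.Normal] [Group.IsSolvable N]
    [Group.IsSolvable (G ⧸ N)] : Group.IsSolvable G :=
  Group.isSolvable_of_ker_le_range N.subtype (QuotientGroup.mk' N) (by simp)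

theorem exists_ne_sylow (hFT : ∀ (H : Type u) [Group H] [Finite H], Odd (Nat.card H) → Group.IsSolvable H)
    (hns : ¬ Group.IsSolvable G) : ∃ S T : Sylow 2 G, S ≠ T := by
  obtain ⟨S⟩ := (inferInstance : Nonempty (Sylow 2 G))
  by_contra! hall
  have hn : (S : Subgroup G).Normal := ⟨fun x hx g => by
    have := conj_mem_smul (g := g) (show x ∈ S from hx)
    rwa [hall (g • S) S] at this⟩
  haveI := hn
  haveI : Group.IsSolvable ↥(S : Subgroup G) := by
    haveI := S.isPGroup'.isNilpotent; infer_instance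
  haveI : Group.IsSolvable (G ⧸ (S : Subgroup G)) := hFT _ (by
    rw [← index_eq_card, Nat.odd_iff, ← Nat.two_dvd_ne_zero]; exact Sylow.not_dvd_index S)
  exact hns (isSolvable_of_solvable_quotient (S : Subgroup G))

/-- The hard case of `normal_two_le_center`. -/
theorem centralizer_pCore_eq_top (hci : CI G)
    (hFT : ∀ (H : Type u) [Group H] [Finite H], Odd (Nat.card H) → Group.IsSolvable H)
    (hns : ¬ Group.IsSolvable G) (hO : Cfsg.oddCore G = ⊥)
    (IH : ∀ M : Subgroup G, M ≠ ⊤ → ¬ Group.IsSolvable M → Cfsg.pCore 2 G ≤ M →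
      M ≤ centralizer (Cfsg.pCore 2 G : Set G)) :
    centralizer (Cfsg.pCore 2 G : Set G) = ⊤ := by
  by_contra hne
  set V := Cfsg.pCore 2 G with hV
  set C := centralizer (V : Set G) with hC
  have hV2 : IsPGroup 2 V := Cores.pCore_isPGroup
  obtain ⟨S0, T0, hST0⟩ := exists_ne_sylow hFT hns
  have hVcyc : IsCyclic V :=
    isCyclic_of_le (le_inf (Cores.pCore_le_sylow S0) (Cores.pCore_le_sylow T0)) (hci S0 T0 hST0)
  have hcomm : ∀ a ∈ V, ∀ b ∈ V, a * b = b * a := fun a ha b hb => by
    haveI := hVcyc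
    letI : CommGroup V := IsCyclic.commGroup
    exact congrArg Subtype.val (mul_comm (⟨a, ha⟩ : V) ⟨b, hb⟩)
  have hVC : V ≤ C := fun v hv => mem_centralizer_iff.2 fun w hw => hcomm w hw v hv
  -- `G / C` is a `2`-group
  haveI := hVcyc
  obtain ⟨n, hn⟩ := IsPGroup.iff_card.1 hV2
  have hAut : Nat.card (MulAut V) = Nat.totient (2 ^ n) := by rw [IsCyclic.card_mulAut, hn]
  haveI : C.Normal := by rw [hC]; infer_instance
  have hker : (MulAut.conjNormal : G →* MulAut V).ker = C := by
    ext g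
    rw [MonoidHom.mem_ker, mem_centralizer_iff, MulEquiv.ext_iff]
    constructor
    · intro h v hv
      have := congrArg Subtype.val (h ⟨v, hv⟩)
      rw [MulAut.conjNormal_apply, MulAut.one_apply, mul_inv_eq_iff_eq_mul] at this
      exact this.symm
    · intro h v
      apply Subtype.ext
      rw [MulAut.conjNormal_apply, MulAut.one_apply, ← h v v.2, mul_inv_cancel_right]
  have hdvd : C.index ∣ Nat.totient (2 ^ n) := by
    rw [← hAut, ← hker, Subgroup.index_ker]
    exact card_subgroup_dvd_card _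
  have hn2 : 2 ≤ n := by
    by_contra hlt
    have : C.index ∣ 1 := by
      rcases (show n = 0 ∨ n = 1 by omega) with rfl | rfl <;> simpa using hdvd
    exact hne (index_eq_one.1 (Nat.eq_one_of_dvd_one this))
  rw [Nat.totient_prime_pow Nat.prime_two (by omega), show (2 : ℕ) - 1 = 1 from rfl, mul_one] at hdvd
  obtain ⟨j, -, hj⟩ := (Nat.dvd_prime_pow Nat.prime_two).1 hdvd
  -- a subgroup of index 2 above `C`
  obtain ⟨C1, hC1, hCC1⟩ : ∃ C1 : Subgroup G, C1.index = 2 ∧ C ≤ C1 := by
    rcases j with _ | j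
    · exact absurd (index_eq_one.1 (by simpa using hj)) hne
    have hq : Nat.card (G ⧸ C) = 2 ^ (j + 1) := by rw [← index_eq_card, hj]
    obtain ⟨K, hK⟩ := Sylow.exists_subgroup_card_pow_prime 2 (n := j)
      (G := G ⧸ C) (hq ▸ pow_dvd_pow 2 j.le_succ)
    refine ⟨K.comap (QuotientGroup.mk' C), ?_, ?_⟩
    · rw [index_comap_of_surjective _ (QuotientGroup.mk'_surjective C)]
      have := K.card_mul_index
      rw [hK, hq, pow_succ] at this
      exact Nat.eq_of_mul_eq_mul_left (by positivity) this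
    · intro x hx
      rw [mem_comap, QuotientGroup.mk'_apply, (QuotientGroup.eq_one_iff x).2 hx]
      exact one_mem K
  haveI := normal_of_index_eq_two hC1
  have hC1ne : C1 ≠ ⊤ := fun h => by rw [h, index_top] at hC1; omega
  have hC1ns : ¬ Group.IsSolvable C1 := by
    intro h
    haveI : Group.IsSolvable (G ⧸ C1) := by
      haveI : IsPGroup 2 (G ⧸ C1) := IsPGroup.of_card (n := 1) (by rw [← index_eq_card, hC1, pow_one])
      haveI := (IsPGroup.of_card (G := G ⧸ C1) (p := 2) (n := 1)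
        (by rw [← index_eq_card, hC1, pow_one])).isNilpotent
      infer_instance
    exact hns (isSolvable_of_solvable_quotient C1)
  have hCeq : C = C1 := le_antisymm hCC1 (IH C1 hC1ne hC1ns (hVC.trans hCC1))
  -- squares in `V`
  let Sq : G → Prop := fun v => ∃ y ∈ V, y * y = v
  have hcase : ∀ a ∈ V, ¬ Sq a → ∀ b ∈ V, ¬ Sq b → Sq (a * b) := by
    obtain ⟨⟨g, hg⟩, hgen⟩ := hVcyc.exists_generator
    have hodd : ∀ a ∈ V, ¬ Sq a → ∃ i : ℤ, a = g ^ (2 * i + 1) := fun a ha hna => by
      obtain ⟨k, hk⟩ := mem_zpowers_iff.1 (hgen ⟨a, ha⟩)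
      have hk' : g ^ k = a := by simpa using congrArg Subtype.val hk
      rcases Int.even_or_odd k with ⟨i, rfl⟩ | ⟨i, rfl⟩
      · exact absurd ⟨g ^ i, zpow_mem hg i, by rw [← zpow_add, hk']⟩ hna
      · exact ⟨i, hk'.symm⟩
    intro a ha hna b hb hnb
    obtain ⟨i, rfl⟩ := hodd a ha hna
    obtain ⟨j, rfl⟩ := hodd b hb hnb
    exact ⟨g ^ (i + j + 1), zpow_mem hg _, by rw [← zpow_add, ← zpow_add]; congr 1; ring⟩
  have hsq1 : ∀ c ∈ V, c * c = 1 → Sq c := by
    obtain ⟨⟨g, hg⟩, hgen⟩ := hVcyc.exists_generator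
    intro c hc hc2
    obtain ⟨k, hk⟩ := mem_zpowers_iff.1 (hgen ⟨c, hc⟩)
    have hk' : g ^ k = c := by simpa using congrArg Subtype.val hk
    have hord : orderOf g = 2 ^ n := by
      rw [← hn, ← Subgroup.orderOf_mk g hg, orderOf_eq_card_of_forall_mem_zpowers hgen]
    have hd : (2 : ℤ) ^ n ∣ k + k := by
      have : ((orderOf g : ℕ) : ℤ) ∣ k + k :=
        orderOf_dvd_iff_zpow_eq_one.2 (by rw [zpow_add, hk', hc2])
      simpa [hord] using this
    have h4 : (2 : ℤ) ^ 2 ∣ k + k := dvd_trans (pow_dvd_pow 2 hn2) hd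
    obtain ⟨i, rfl⟩ : (2 : ℤ) ∣ k := by omega
    exact ⟨g ^ i, zpow_mem hg i, by rw [← zpow_add, ← two_mul, hk']⟩
  -- the quotient by `V`
  set f := QuotientGroup.mk' V
  have hf := QuotientGroup.mk'_surjective V
  refine no_config (G := G ⧸ V) (hci.quotient V) ?_ Cores.pCore_quotient_pCore (C.map f) ?_ ?_ ?_
  · set X := (Cfsg.oddCore (G ⧸ V)).comap f with hX
    haveI : X.Normal := (inferInstance : (Cfsg.oddCore (G ⧸ V)).Normal).comap f
    have hVX : V ≤ X := fun v hv => by
      rw [hX, mem_comap, QuotientGroup.mk'_apply, (QuotientGroup.eq_one_iff v).2 hv]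
      exact one_mem _
    set V' := V.subgroupOf X with hV'
    have hidx : Odd V'.index := by
      have h1 : V'.index = Nat.card (Cfsg.oddCore (G ⧸ V)) := by
        show V.relIndex X = _
        have hk : V = (⊥ : Subgroup (G ⧸ V)).comap f :=
          (MonoidHom.comap_bot f).symm ▸ (QuotientGroup.ker_mk' V).symm
        conv_lhs => rw [hk, hX, relIndex_comap, map_comap_eq_self_of_surjective hf, relIndex_bot_left]
      rw [h1]; exact Cores.odd_card_oddCore
    have hcardV : Nat.card V' = 2 ^ n := (Nat.card_congr (subgroupOfEquivOfLe hVX).toEquiv).trans hn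
    obtain ⟨K, hK⟩ := exists_right_complement'_of_coprime (N := V') (by
      rw [hcardV]; exact (Nat.coprime_two_left.2 hidx).pow_left n)
    have hKodd : Odd (Nat.card K) := hK.symm.index_eq_card ▸ hidx
    have hcen : ∀ k ∈ K, ∀ v ∈ V', k * v = v * k := by
      have hKC : ∀ k ∈ K, (k : G) ∈ C := by
        intro k hk
        have h2 : (orderOf (k : G)).Coprime 2 := by
          rw [Subgroup.orderOf_coe, Nat.coprime_two_right]
          exact hKodd.of_dvd_nat (Subgroup.orderOf_mk k hk ▸ orderOf_dvd_natCard (⟨k, hk⟩ : K))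
        obtain ⟨i, hi⟩ := Nat.coprime_two_right.1 h2
        have h3 : (k : G) ^ (2 * i) ∈ C := by
          rw [pow_mul, hCeq]; exact pow_mem (sq_mem_of_index_two hC1 _) _
        have h4 : (k : G) ^ (2 * i + 1) = 1 := hi ▸ pow_orderOf_eq_one _
        rw [pow_succ, ← eq_inv_iff_mul_eq_one] at h4
        rwa [h4, inv_mem_iff] at h3
      exact fun k hk v hv => Subtype.ext ((mem_centralizer_iff.1 (hKC k hk) v hv).symm)
    haveI : K.Normal := ⟨fun k hk x => by
      obtain ⟨⟨⟨v, hv⟩, ⟨l, hl⟩⟩, rfl⟩ := hK.2 x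
      have h1 : v * l * k * (v * l)⁻¹ = l * k * l⁻¹ := by
        have h2 := (hcen _ (mul_mem (mul_mem hl hk) (inv_mem hl)) v hv).symm
        calc v * l * k * (v * l)⁻¹ = v * (l * k * l⁻¹) * v⁻¹ := by group
          _ = l * k * l⁻¹ := by rw [h2, mul_inv_cancel_right]
      exact h1 ▸ mul_mem (mul_mem hl hk) (inv_mem hl)⟩
    have hK1 : K = ⊥ := by
      have := Cores.le_oddCore hKodd
      rwa [oddCore_map_eq_bot hO X, le_bot_iff] at this
    have h5 : V'.index = 1 := by rw [hK.symm.index_eq_card, hK1, card_bot]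
    rw [eq_bot_iff]
    intro q hq
    obtain ⟨x, rfl⟩ := hf q
    rw [mem_bot, QuotientGroup.mk'_apply, QuotientGroup.eq_one_iff]
    exact (index_eq_one.1 h5 ▸ mem_top (⟨x, hq⟩ : X) : (⟨x, hq⟩ : X) ∈ V')
  · rw [index_map_eq _ hf (by rw [QuotientGroup.ker_mk']; exact hVC), hCeq, hC1]
  · intro M hM hMC
    have hVM : V ≤ M.comap f := fun v hv => by
      rw [mem_comap, QuotientGroup.mk'_apply, (QuotientGroup.eq_one_iff v).2 hv]
      exact one_mem M
    by_cases hs : Group.IsSolvable (M.comap f)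
    · exact Group.isSolvable_of_surjective
        (f := f.subgroupComap M) (fun ⟨a, ha⟩ => by
          obtain ⟨x, rfl⟩ := hf a
          exact ⟨⟨x, ha⟩, rfl⟩)
    · refine absurd ?_ hMC
      have h1 := IH _ (fun h => hM ?_) hs hVM
      · intro a ha
        obtain ⟨x, rfl⟩ := hf a
        exact ⟨x, h1 ha, rfl⟩
      · rw [← map_comap_eq_self_of_surjective hf M, h, map_top_of_surjective f hf]
  · intro a b ha hb haC hbC hab hc ga gb
    by_contra gab
    have lift : ∀ a : G ⧸ V, orderOf a = 2 → a ∈ C.map f → ¬ Good a →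
        ∃ w ∈ C, f w = a ∧ w * w ∈ V ∧ ¬ Sq (w * w) := by
      intro a ha haC hga
      obtain ⟨w, hwC, rfl⟩ := haC
      refine ⟨w, hwC, rfl, ?_, ?_⟩
      · rw [← QuotientGroup.eq_one_iff]
        exact (map_mul f w w).trans (sq_of_orderOf ha)
      rintro ⟨y, hyV, hy⟩
      simp only [Good, not_forall] at hga
      obtain ⟨P, Q, hP, hQ, hPQ⟩ := hga
      obtain ⟨S, rfl⟩ := Sylow.mapSurjective_surjective hf 2 P
      obtain ⟨T, rfl⟩ := Sylow.mapSurjective_surjective hf 2 Q
      have hw : ∀ {U : Sylow 2 G}, f w ∈ Sylow.mapSurjective hf U → w ∈ U := by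
        intro U hU
        obtain ⟨u, hu, he⟩ := hU
        have : u⁻¹ * w ∈ V := (QuotientGroup.eq).1 he
        have h9 := mul_mem hu (Cores.pCore_le_sylow U this)
        rwa [mul_inv_cancel_left] at h9
      have hST : S ≠ T := fun h => hPQ (h ▸ rfl)
      have hc' : y * w = w * y := mem_centralizer_iff.1 hwC y hyV
      set z := w * y⁻¹ with hz
      have hzz : z * z = 1 := by
        calc w * y⁻¹ * (w * y⁻¹) = w * (y⁻¹ * w) * y⁻¹ := by group
          _ = w * (w * y⁻¹) * y⁻¹ := by rw [(Commute.inv_left hc').eq]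
          _ = (w * w) * (y * y)⁻¹ := by group
          _ = 1 := by rw [hy, mul_inv_cancel]
      have hzV : z ∉ V := fun h => by
        have h1 : w ∈ V := by simpa [hz] using mul_mem h hyV
        rw [show f w = 1 from (QuotientGroup.eq_one_iff w).2 h1, orderOf_one] at ha
        omega
      have hz2 : orderOf z = 2 :=
        orderOf_eq_prime (by rw [pow_two, hzz]) fun h => hzV (h ▸ one_mem V)
      have h2 : 2 ∣ Nat.card V := hn ▸ dvd_pow_self 2 (by omega)
      obtain ⟨⟨v, hv⟩, hv2⟩ := exists_prime_orderOf_dvd_card' 2 h2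
      rw [Subgroup.orderOf_mk] at hv2
      exact hzV (atMostOne_of_ci hci S T hST z v hz2 hv2
        (mul_mem (hw hP) (inv_mem (Cores.pCore_le_sylow S hyV)))
        (mul_mem (hw hQ) (inv_mem (Cores.pCore_le_sylow T hyV)))
        (Cores.pCore_le_sylow S hv) (Cores.pCore_le_sylow T hv) ▸ hv)
    obtain ⟨w1, hw1C, rfl, hw1V, hn1⟩ := lift a ha haC ga
    obtain ⟨w2, hw2C, rfl, hw2V, hn2'⟩ := lift b hb hbC gb
    have hab2 : orderOf (f w1 * f w2) = 2 := by
      refine orderOf_eq_prime ?_ fun h => hab ?_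
      · rw [hc.mul_pow, pow_two, pow_two, sq_of_orderOf ha, sq_of_orderOf hb, mul_one]
      · rw [← inv_eq_of_mul_eq_one_right (sq_of_orderOf hb)]
        exact eq_inv_of_mul_eq_one_left h
    obtain ⟨w3, -, hw3, hw3V, hn3⟩ := lift _ hab2
      (mul_mem (mem_map_of_mem f hw1C) (mem_map_of_mem f hw2C)) gab
    have hu : (w1 * w2)⁻¹ * w3 ∈ V := (QuotientGroup.eq).1 ((map_mul f w1 w2).trans hw3.symm)
    set u := (w1 * w2)⁻¹ * w3 with hu'
    set c := w2 * w1 * w2⁻¹ * w1⁻¹ with hc'
    have hcV : c ∈ V := by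
      rw [← QuotientGroup.eq_one_iff]
      show f c = 1
      rw [hc', map_mul, map_mul, map_mul, map_inv, map_inv, hc.eq.symm]
      group
    have hsqc : w2 * (w1 * w1) * w2⁻¹ = w1 * w1 := by
      rw [← mem_centralizer_iff.1 hw2C _ hw1V, mul_inv_cancel_right]
    have hcw : c * w1 = w1 * c := mem_centralizer_iff.1 hw1C c hcV
    have hc2 : c * c = 1 := by
      have : c * c * (w1 * w1) = w1 * w1 := by
        calc c * c * (w1 * w1) = c * (c * w1) * w1 := by group
          _ = c * (w1 * c) * w1 := by rw [hcw]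
          _ = (c * w1) * (c * w1) := by group
          _ = w2 * (w1 * w1) * w2⁻¹ := by rw [hc']; group
          _ = w1 * w1 := hsqc
      exact mul_eq_right.1 this
    have hprod : w3 * w3 = (w1 * w1) * (w2 * w2) * (c * (u * u)) := by
      have hu1 : u * (w1 * w2) = w1 * w2 * u :=
        mem_centralizer_iff.1 (mul_mem hw1C hw2C) u hu
      have h3 : w3 = w1 * w2 * u := by rw [hu']; group
      have h4 : c * (w2 * w2) = w2 * w2 * c := hcomm c hcV _ hw2V
      calc w3 * w3 = w1 * w2 * (u * (w1 * w2)) * u := by rw [h3]; group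
        _ = w1 * (c * w1) * (w2 * w2) * (u * u) := by rw [hu1, hc']; group
        _ = (w1 * w1) * (c * (w2 * w2)) * (u * u) := by rw [hcw]; group
        _ = _ := by rw [h4]; group
    obtain ⟨y1, hy1, he1⟩ := hcase _ hw1V hn1 _ hw2V hn2'
    obtain ⟨y2, hy2, he2⟩ := hsq1 c hcV hc2
    refine hn3 ⟨y1 * (y2 * u), mul_mem hy1 (mul_mem hy2 hu), ?_⟩
    rw [hprod, ← he1, ← he2]
    have h5 := hcomm y2 hy2 u hu
    have h6 := hcomm (y2 * u) (mul_mem hy2 hu) y1 hy1
    calc y1 * (y2 * u) * (y1 * (y2 * u)) = y1 * ((y2 * u) * y1) * (y2 * u) := by group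
      _ = (y1 * y1) * ((y2 * u) * (y2 * u)) := by rw [h6]; group
      _ = (y1 * y1) * (y2 * (u * y2) * u) := by group
      _ = (y1 * y1) * (y2 * (y2 * u) * u) := by rw [← h5]
      _ = y1 * y1 * (y2 * y2 * (u * u)) := by group

/-- A normal `2`-subgroup is central. -/
theorem normal_two_le_center
    (hFT : ∀ (H : Type u) [Group H] [Finite H], Odd (Nat.card H) → Group.IsSolvable H) :
    ∀ (G : Type u) [Group G] [Finite G], CI G → ¬ Group.IsSolvable G →
      ∀ W : Subgroup G, W.Normal → IsPGroup 2 W → W ≤ center G := by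
  intro G
  induction hcard : Nat.card G using Nat.strong_induction_on generalizing G with
  | _ N ih =>
    intro _ _ hci hns W hWn hW2 w hw
    rw [mem_center_iff]
    intro g
    by_cases hO : Cfsg.oddCore G = ⊥
    · have hWV : W ≤ Cfsg.pCore 2 G := Cores.le_pCore hW2
      have htop := centralizer_pCore_eq_top hci hFT hns hO fun M hM hMns hVM => by
        haveI : ((Cfsg.pCore 2 G).subgroupOf M).Normal := normal_subgroupOf
        have h1 := ih (Nat.card M) (hcard ▸ lt_of_le_of_ne (card_le_card_group M)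
          (fun h => hM (card_eq_iff_eq_top M |>.1 h))) M rfl (hci.subgroup M) hMns
          ((Cfsg.pCore 2 G).subgroupOf M) inferInstance (Cores.pCore_isPGroup.comap_subtype)
        intro m hm
        rw [mem_centralizer_iff]
        intro v hv
        exact congrArg Subtype.val
          ((mem_center_iff.1 (h1 (show (⟨v, hVM hv⟩ : M) ∈ _ from hv)) ⟨m, hm⟩).symm)
      exact (mem_centralizer_iff.1 (show g ∈ centralizer (Cfsg.pCore 2 G : Set G) from
        htop ▸ mem_top g) w (hWV hw)).symm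
    · set O := Cfsg.oddCore G with hO'
      have hOodd : Odd (Nat.card O) := Cores.odd_card_oddCore
      haveI : Group.IsSolvable O := hFT _ hOodd
      have hlt : Nat.card (G ⧸ O) < N := by
        rw [← hcard, Subgroup.card_eq_card_quotient_mul_card_subgroup O]
        exact lt_mul_of_one_lt_right Nat.card_pos ((one_lt_card_iff_ne_bot O).2 hO)
      have h1 := ih _ hlt (G ⧸ O) rfl (hci.quotient O)
        (fun h => hns (isSolvable_of_solvable_quotient O)) (W.map (QuotientGroup.mk' O))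
        (hWn.map _ (QuotientGroup.mk'_surjective O)) (hW2.map _) (mem_map_of_mem _ hw)
      rw [mem_center_iff] at h1
      have h2 : w * g * w⁻¹ * g⁻¹ ∈ O := by
        rw [← QuotientGroup.eq_one_iff]
        show QuotientGroup.mk' O (w * g * w⁻¹ * g⁻¹) = 1
        rw [map_mul, map_mul, map_mul, map_inv, map_inv, ← h1]
        group
      have h3 : w * g * w⁻¹ * g⁻¹ ∈ W ⊓ O := ⟨by
        rw [show w * g * w⁻¹ * g⁻¹ = w * (g * w⁻¹ * g⁻¹) by group]
        exact mul_mem hw (hWn.conj_mem _ (inv_mem hw) g), h2⟩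
      rw [Cores.disjoint_of_isPGroup_of_coprime hW2 (Nat.coprime_two_right.2 hOodd), mem_bot,
        mul_inv_eq_one, mul_inv_eq_iff_eq_mul] at h3
      exact h3.symm

/-- The solvable radical modulo `O(G)`. -/
theorem radical_structure
    (hFT : ∀ (H : Type u) [Group H] [Finite H], Odd (Nat.card H) → Group.IsSolvable H)
    (hci : CI G) (hns : ¬ Group.IsSolvable G) (N : Subgroup G) [N.Normal] (hN : Group.IsSolvable ↥N) :
    IsCyclic ↥(N.map (QuotientGroup.mk' (Cfsg.oddCore G))) ∧
      IsPGroup 2 ↥(N.map (QuotientGroup.mk' (Cfsg.oddCore G))) ∧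
      N.map (QuotientGroup.mk' (Cfsg.oddCore G)) ≤ Subgroup.center (G ⧸ Cfsg.oddCore G) := by
  set O := Cfsg.oddCore G with hO'
  set W := N.map (QuotientGroup.mk' O) with hW
  haveI : W.Normal := (inferInstance : N.Normal).map _ (QuotientGroup.mk'_surjective O)
  haveI : Group.IsSolvable W :=
    Group.isSolvable_of_surjective ((QuotientGroup.mk' O).subgroupMap_surjective N)
  haveI : Group.IsSolvable O := hFT _ Cores.odd_card_oddCore
  have hci' := hci.quotient O
  have hns' : ¬ Group.IsSolvable (G ⧸ O) := fun h => hns (isSolvable_of_solvable_quotient O)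
  have hOQ : Cfsg.oddCore (G ⧸ O) = ⊥ := Cores.pPrimeCore_quotient_pPrimeCore
  have hV : Cfsg.pCore 2 (G ⧸ O) ≤ center (G ⧸ O) :=
    normal_two_le_center hFT (G ⧸ O) hci' hns' _ inferInstance Cores.pCore_isPGroup
  have hF : Cfsg.fittingSubgroup W ≤ Cfsg.pCore 2 W := by
    rw [Cores.iSup_pCore_eq_fittingSubgroup]
    refine (Cores.iSup_pCore_le_sup 2).trans (sup_le ?_ le_rfl)
    rw [show Cfsg.pPrimeCore 2 W = ⊥ from oddCore_map_eq_bot hOQ W]
    exact bot_le
  have htop : Cfsg.pCore 2 W = ⊤ := top_le_iff.1 fun z _ => hF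
    (Cores.centralizer_fittingSubgroup_le (mem_centralizer_iff.2 fun d hd => Subtype.ext
      ((mem_center_iff.1 (hV (Cores.map_pCore_le_of_normal W ⟨d, hF hd, rfl⟩)) (z : G ⧸ O)).symm)))
  have hW2 : IsPGroup 2 W := Cores.pCore_eq_top_iff.1 htop
  obtain ⟨S, T, hST⟩ := exists_ne_sylow hFT hns'
  have hle := Cores.le_pCore hW2
  exact ⟨isCyclic_of_le (hle.trans (le_inf (Cores.pCore_le_sylow S) (Cores.pCore_le_sylow T)))
    (hci' S T hST), hW2, hle.trans hV⟩

end Cfsg.Agent.H24.CycInt
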