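import Mathlib
import Cfsg.Prelude.Def_CaseTheorems
import Cfsg.Agent.Cores.PCore

/-!
# Sylow 2-subgroups meeting in at most one involution

If `O₂(G) = 1` and two distinct Sylow `2`-subgroups share at most one involution, then the
involutions lying in a unique Sylow `2`-subgroup form one conjugacy class.
-/

set_option autoImplicit false
set_option linter.unusedSectionVars false

namespace Cfsg.Agent.H24.CycInt

open Subgroup
open scoped Pointwise

local instance : Fact (Nat.Prime 2) := ⟨Nat.prime_two⟩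

variable {G : Type*} [Group G] [Finite G]

/-- `x` lies in at most one Sylow `2`-subgroup. -/
def Good (x : G) : Prop := ∀ S T : Sylow 2 G, x ∈ S → x ∈ T → S = T

/-- Two distinct Sylow `2`-subgroups share at most one involution. -/
def AtMostOne (G : Type*) [Group G] : Prop :=
  ∀ S T : Sylow 2 G, S ≠ T → ∀ a b : G, orderOf a = 2 → orderOf b = 2 →
    a ∈ S → a ∈ T → b ∈ S → b ∈ T → a = b

/-- Distinct Sylow `2`-subgroups meet in cyclic groups. -/
def CI (G : Type*) [Group G] : Prop :=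
  ∀ S T : Sylow 2 G, S ≠ T → IsCyclic ↥((S : Subgroup G) ⊓ (T : Subgroup G))

theorem mem_smul_iff {g x : G} {S : Sylow 2 G} : x ∈ g • S ↔ g⁻¹ * x * g ∈ S := by
  change x ∈ ((g • S : Sylow 2 G) : Subgroup G) ↔ g⁻¹ * x * g ∈ (S : Subgroup G)
  rw [Sylow.coe_subgroup_smul, mem_pointwise_smul_iff_inv_smul_mem,
    ← map_inv, MulAut.smul_def, MulAut.conj_apply, inv_inv]

theorem conj_mem_smul {g x : G} {S : Sylow 2 G} (h : x ∈ S) : g * x * g⁻¹ ∈ g • S := by
  rw [mem_smul_iff]; simpa [mul_assoc] using h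

theorem isPGroup_zpowers_of_mem {x : G} {S : Sylow 2 G} (h : x ∈ S) : IsPGroup 2 (zpowers x) :=
  S.isPGroup'.to_le (zpowers_le.2 h)

theorem isPGroup_zpowers_invol {x : G} (h : orderOf x = 2) : IsPGroup 2 (zpowers x) :=
  IsPGroup.of_card (n := 1) (by rw [Nat.card_zpowers, h, pow_one])

/-- A `2`-element normalising a Sylow `2`-subgroup lies in it. -/
theorem mem_of_smul_eq {s : G} {U : Sylow 2 G} (hs : IsPGroup 2 (zpowers s)) (h : s • U = U) :
    s ∈ U := by
  have hn : s ∈ normalizer ((U : Subgroup G) : Set G) := Sylow.smul_eq_iff_mem_normalizer.1 h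
  have := (hs.inf_normalizer_sylow U).le ⟨mem_zpowers s, hn⟩
  exact this.2

theorem Good.conj {a : G} (h : Good a) (g : G) : Good (g * a * g⁻¹) := by
  intro S T hS hT
  have h1 : a ∈ g⁻¹ • S := by rw [mem_smul_iff, inv_inv]; exact hS
  have h2 : a ∈ g⁻¹ • T := by rw [mem_smul_iff, inv_inv]; exact hT
  simpa using h _ _ h1 h2

theorem Good.of_isConj {a b : G} (h : Good a) (hab : IsConj a b) : Good b := by
  obtain ⟨c, rfl⟩ := isConj_iff.1 hab; exact h.conj c

/-- A `2`-subgroup normalised by `a` lies in the Sylow `2`-subgroup of the good element `a`. -/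
theorem Good.le {a : G} (h : Good a) {S : Sylow 2 G} (haS : a ∈ S) {R : Subgroup G}
    (hR : IsPGroup 2 R) (ha : a ∈ normalizer (R : Set G)) : R ≤ S := by
  obtain ⟨U, hU⟩ := ((isPGroup_zpowers_of_mem haS).to_sup_of_normal_right' hR
    (zpowers_le.2 ha)).exists_le_sylow
  have : U = S := h U S (hU (mem_sup_left (mem_zpowers a))) haS
  exact this ▸ le_sup_right.trans hU

theorem Good.mem_of_commute {a x : G} (h : Good a) {S : Sylow 2 G} (haS : a ∈ S)
    (hx : IsPGroup 2 (zpowers x)) (hc : Commute a x) : x ∈ S :=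
  h.le haS hx (centralizer_le_normalizer _ (mem_centralizer_iff.2 fun y hy => by
    obtain ⟨k, rfl⟩ := mem_zpowers_iff.1 hy
    exact ((hc.zpow_right k).symm).eq)) (mem_zpowers x)

theorem exists_conj_sylow (S T : Sylow 2 G) : ∃ g : G, ∀ x ∈ S, g * x * g⁻¹ ∈ T := by
  obtain ⟨g, rfl⟩ := MulAction.exists_smul_eq G S T
  exact ⟨g, fun x hx => conj_mem_smul hx⟩

/-- The dihedral group of two non-conjugate involutions. -/
theorem dihedral {a b : G} (ha : a * a = 1) (hb : b * b = 1) (hnc : ¬ IsConj a b) :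
    ∃ s : G, orderOf s = 2 ∧ Commute a s ∧ Commute b s ∧
      (IsConj a (a * s) ∨ IsConj a (b * s)) := by
  have hai : a⁻¹ = a := inv_eq_of_mul_eq_one_right ha
  have hbi : b⁻¹ = b := inv_eq_of_mul_eq_one_right hb
  set u := a * b with hu
  have hua : ∀ k : ℕ, a * u ^ k * a⁻¹ = (u ^ k)⁻¹ := fun k => by
    rw [← inv_pow, ← conj_pow, hu, mul_inv_rev, hai, hbi, ← mul_assoc, ha, one_mul]
  have hub : ∀ k : ℕ, b * u ^ k * b⁻¹ = (u ^ k)⁻¹ := fun k => by
    rw [← inv_pow, ← conj_pow, hu, mul_inv_rev, hai, hbi,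
      show b * (a * b) * b = b * a * (b * b) by group, hb, mul_one]
  have hconj : ∀ k : ℕ, u ^ k * a * (u ^ k)⁻¹ = u ^ (k + k) * a := fun k => by
    rw [← hua k, pow_add, show u ^ k * a * (a * u ^ k * a⁻¹) = u ^ k * (a * a) * u ^ k * a⁻¹ by group,
      ha, mul_one, hai]
  obtain ⟨m, hm⟩ : ∃ m, orderOf u = 2 * m := by
    rcases Nat.even_or_odd' (orderOf u) with ⟨k, hk | hk⟩
    · exact ⟨k, hk⟩
    · refine absurd (isConj_iff.2 ⟨u ^ k, ?_⟩) hnc
      have h1 : u ^ (k + k) = u⁻¹ := by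
        apply eq_inv_of_mul_eq_one_left
        rw [← pow_succ, show k + k + 1 = orderOf u by omega, pow_orderOf_eq_one]
      rw [hconj, h1, hu, mul_inv_rev, hai, hbi, mul_assoc, ha, mul_one]
  have hm0 : 0 < m := by have := orderOf_pos u; omega
  refine ⟨u ^ m, ?_, ?_, ?_, ?_⟩
  · rw [orderOf_pow_of_dvd hm0.ne' ⟨2, by omega⟩, hm,
      Nat.mul_div_cancel _ hm0]
  all_goals have hs : (u ^ m)⁻¹ = u ^ m := inv_eq_of_mul_eq_one_right (by
    rw [← pow_add, show m + m = orderOf u by omega, pow_orderOf_eq_one])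
  · have := hua m; rw [hs] at this
    exact mul_inv_eq_iff_eq_mul.1 this
  · have := hub m; rw [hs] at this
    exact mul_inv_eq_iff_eq_mul.1 this
  · have hca : Commute a (u ^ m) := by
      have := hua m; rw [hs] at this
      exact mul_inv_eq_iff_eq_mul.1 this
    rcases Nat.even_or_odd' m with ⟨l, hl | hl⟩
    · refine Or.inl (isConj_iff.2 ⟨u ^ l, ?_⟩)
      rw [hconj, hca.eq, show l + l = m by omega]
    · refine Or.inr (isConj_iff.2 ⟨u ^ l, ?_⟩)
      have hcb : Commute b (u ^ m) := by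
        have := hub m; rw [hs] at this
        exact mul_inv_eq_iff_eq_mul.1 this
      have h1 : u ^ (l + l) = u ^ m * u⁻¹ := by
        rw [eq_mul_inv_iff_mul_eq, ← pow_succ, show l + l + 1 = m by omega]
      rw [hconj, h1, hcb.eq, hu, mul_inv_rev, hai, hbi,
        show u ^ m * (b * a) * a = u ^ m * b * (a * a) by group, ha, mul_one]

/-- `s` commutes with the involutions that `S` shares with another Sylow `2`-subgroup. -/
def Full (s : G) (S : Sylow 2 G) : Prop :=
  ∀ (r : G) (T : Sylow 2 G), S ≠ T → r ∈ S → r ∈ T → orderOf r = 2 → Commute r s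

theorem sq_of_orderOf {x : G} (h : orderOf x = 2) : x * x = 1 := by
  rw [← pow_two, ← h, pow_orderOf_eq_one]

/-- All good involutions are conjugate. -/
theorem isConj_of_good (hI : AtMostOne G) (hO : Cfsg.pCore 2 G = ⊥) {A B : G}
    (hA : orderOf A = 2) (hB : orderOf B = 2) (gA : Good A) (gB : Good B) : IsConj A B := by
  by_contra hnc
  -- non-conjugate good involutions in two given Sylow subgroups
  have pick : ∀ S T : Sylow 2 G, S ≠ T → ∃ a b s : G, a ∈ S ∧ b ∈ T ∧ Good a ∧ Good b ∧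
      orderOf a = 2 ∧ orderOf b = 2 ∧ orderOf s = 2 ∧ s ∈ S ∧ s ∈ T ∧ Commute a s ∧ Commute b s ∧
      (Good (a * s) ∨ Good (b * s)) := by
    intro S T _
    obtain ⟨SA, hSA⟩ := (isPGroup_zpowers_invol hA).exists_le_sylow
    obtain ⟨SB, hSB⟩ := (isPGroup_zpowers_invol hB).exists_le_sylow
    obtain ⟨g, hg⟩ := exists_conj_sylow SA S
    obtain ⟨h, hh⟩ := exists_conj_sylow SB T
    set a := g * A * g⁻¹ with ha
    set b := h * B * h⁻¹ with hb
    have hab : ¬ IsConj a b := fun hc => hnc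
      (((isConj_iff.2 ⟨g, ha.symm⟩ : IsConj A a).trans hc).trans (isConj_iff.2 ⟨h, hb.symm⟩ : IsConj B b).symm)
    have ha2 : orderOf a = 2 := by rw [ha, ← MulAut.conj_apply, MulEquiv.orderOf_eq, hA]
    have hb2 : orderOf b = 2 := by rw [hb, ← MulAut.conj_apply, MulEquiv.orderOf_eq, hB]
    obtain ⟨s, hs, has, hbs, hor⟩ := dihedral (sq_of_orderOf ha2) (sq_of_orderOf hb2) hab
    have haS : a ∈ S := hg A (hSA (mem_zpowers A))
    have hbT : b ∈ T := hh B (hSB (mem_zpowers B))
    exact ⟨a, b, s, haS, hbT, gA.conj g, gB.conj h, ha2, hb2, hs,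
      (gA.conj g).mem_of_commute haS (isPGroup_zpowers_invol hs) has,
      (gB.conj h).mem_of_commute hbT (isPGroup_zpowers_invol hs) hbs, has, hbs,
      hor.imp (fun hc => (gA.conj g).of_isConj hc) fun hc => (gA.conj g).of_isConj hc⟩
  have moves : ∀ {S T : Sylow 2 G} {a : G}, a ∈ S → Good a → T ≠ S → a • T ≠ T :=
    fun haS ga hTS h => hTS (ga _ _ (mem_of_smul_eq (isPGroup_zpowers_of_mem haS) h) haS)
  have hfix : ∀ {a s : G} {T : Sylow 2 G}, Commute a s → s ∈ T → s ∈ a • T := fun hc hsT => by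
    rw [mem_smul_iff, mul_assoc, ← hc.eq, inv_mul_cancel_left]; exact hsT
  -- good involutions of `S` commute with the involutions that `S` shares
  have comm : ∀ {S T : Sylow 2 G} {a r : G}, a ∈ S → Good a → orderOf a = 2 → S ≠ T →
      r ∈ S → r ∈ T → orderOf r = 2 → Commute a r := by
    intro S T a r haS ga ha hST hrS hrT hr
    obtain ⟨-, -, s, -, -, -, -, -, -, hs, hsT, hsaT, -, -, -⟩ :=
      pick T (a • T) (moves haS ga hST.symm).symm
    have h1 : a * s * a⁻¹ = s := by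
      refine hI T (a • T) (moves haS ga hST.symm).symm _ _ ?_ hs ?_ (conj_mem_smul hsT) hsT hsaT
      · rw [← MulAut.conj_apply, MulEquiv.orderOf_eq, hs]
      · have h2 := mem_smul_iff.1 hsaT
        rwa [inv_eq_of_mul_eq_one_right (sq_of_orderOf ha)] at h2 ⊢
    have hc : Commute a s := mul_inv_eq_iff_eq_mul.1 h1
    have : s = r := hI S T hST s r hs hr
      (ga.mem_of_commute haS (isPGroup_zpowers_invol hs) hc) hsT hrS hrT
    exact this ▸ hc
  have full : ∀ {S T : Sylow 2 G} {s : G}, S ≠ T → s ∈ S → s ∈ T → orderOf s = 2 →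
      Full s S ∨ Full s T := by
    intro S T s hST hsS hsT hs
    obtain ⟨a, b, s', haS, hbT, ga, gb, ha, hb, hs', hs'S, hs'T, has, hbs, hor⟩ := pick S T hST
    have hss : s' = s := hI S T hST s' s hs' hs hs'S hs'T hsS hsT
    rw [hss] at has hbs hor
    have key : ∀ {X : Sylow 2 G} {a : G}, a ∈ X → Good a → orderOf a = 2 → Commute a s →
        Good (a * s) → s ∈ X → a ≠ s → Full s X := by
      intro X a haX ga ha hc gas hsX hne r Y hXY hrX hrY hr
      have h2 : orderOf (a * s) = 2 := by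
        refine orderOf_eq_prime ?_ fun h => hne ?_
        · rw [hc.mul_pow, pow_two, pow_two, sq_of_orderOf ha, sq_of_orderOf hs, mul_one]
        · rw [← inv_eq_of_mul_eq_one_right (sq_of_orderOf hs)]
          exact eq_inv_of_mul_eq_one_left h
      have h3 := comm haX ga ha hXY hrX hrY hr
      have h4 := comm (mul_mem haX hsX) gas h2 hXY hrX hrY hr
      have : Commute (a⁻¹ * (a * s)) r := h3.inv_left.mul_left h4
      rw [inv_mul_cancel_left] at this
      exact this.symm
    have hne : ∀ {a : G}, Good a → a ≠ s := fun hga h => hST (hga S T (h ▸ hsS) (h ▸ hsT))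
    exact hor.imp (fun h => key haS ga ha has h hsS (hne ga))
      fun h => key hbT gb hb hbs h hsT (hne gb)
  obtain ⟨SA, hSA⟩ := (isPGroup_zpowers_invol hA).exists_le_sylow
  obtain ⟨T, hT⟩ : ∃ T : Sylow 2 G, T ≠ SA := by
    by_contra! hall
    have : A ∈ Cfsg.pCore 2 G := by
      rw [Cores.pCore_eq_iInf_sylow, mem_iInf]
      exact fun P => (hall P).symm ▸ hSA (mem_zpowers A)
    rw [hO, mem_bot] at this
    simp [this] at hA
  obtain ⟨a, -, s, haS, -, ga, -, ha, -, hs, hsS, hsT, has, -, -⟩ := pick SA T hT.symm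
  have hW : s ∈ a • T := hfix has hsT
  have hW1 : a • T ≠ T := moves haS ga hT
  have hW2 : a • T ≠ SA := fun h => hT (by
    have h1 : a • SA = SA := Sylow.smul_eq_iff_mem_normalizer.2 (le_normalizer haS)
    exact smul_left_cancel a (h.trans h1.symm))
  -- two of the three Sylow subgroups are full
  obtain ⟨P, Q, hPQ, hsP, hsQ, fP, fQ⟩ : ∃ P Q : Sylow 2 G, P ≠ Q ∧ s ∈ P ∧ s ∈ Q ∧
      Full s P ∧ Full s Q := by
    rcases full hT.symm hsS hsT hs with h | h
    · rcases full hW1.symm hsT hW hs with h' | h'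
      · exact ⟨_, _, hT.symm, hsS, hsT, h, h'⟩
      · exact ⟨_, _, hW2.symm, hsS, hW, h, h'⟩
    · rcases full hW2.symm hsS hW hs with h' | h'
      · exact ⟨_, _, hT, hsT, hsS, h, h'⟩
      · exact ⟨_, _, hW1.symm, hsT, hW, h, h'⟩
  have hall : ∀ U : Sylow 2 G, s ∈ U := by
    intro U
    by_contra hsU
    have hU : s • U ≠ U := fun h => hsU (mem_of_smul_eq (isPGroup_zpowers_invol hs) h)
    have hPU : P ≠ U := fun h => hsU (h ▸ hsP)
    have hQU : Q ≠ U := fun h => hsU (h ▸ hsQ)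
    obtain ⟨-, -, r1, -, -, -, -, -, -, hr1, hr1P, hr1U, -, -, -⟩ := pick P U hPU
    obtain ⟨-, -, r2, -, -, -, -, -, -, hr2, hr2Q, hr2U, -, -, -⟩ := pick Q U hQU
    have h1 : r1 ∈ s • U := hfix (fP r1 U hPU hr1P hr1U hr1).symm hr1U
    have h2 : r2 ∈ s • U := hfix (fQ r2 U hQU hr2Q hr2U hr2).symm hr2U
    obtain rfl : r1 = r2 := hI U (s • U) hU.symm r1 r2 hr1 hr2 hr1U h1 hr2U h2
    exact hsU (hI P Q hPQ s r1 hs hr1 hsP hsQ hr1P hr2Q ▸ hr1U)
  have : s ∈ Cfsg.pCore 2 G := by
    rw [Cores.pCore_eq_iInf_sylow, mem_iInf]; exact hall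
  rw [hO, mem_bot] at this
  simp [this] at hs

end Cfsg.Agent.H24.CycInt
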