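import Cfsg.Agent.H24.CyclicIntersectBasic
import Cfsg.Agent.Cores.GlaubermanZStar
import Cfsg.Agent.Cores.Fitting
import Cfsg.Agent.Fusion.Basic
import Cfsg.Agent.Coprime.External

/-!
# Sylow 2-subgroups with cyclic intersections: the main configuration

A group with `O(G) = O₂(G) = 1`, cyclic intersections of distinct Sylow `2`-subgroups and a normal
subgroup of index 2 outside of which all proper subgroups are solvable does not exist (under a
parity condition on the involutions which lie in several Sylow `2`-subgroups).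
-/

set_option autoImplicit false
set_option linter.unusedSectionVars false
set_option linter.style.haveILetI false

namespace Cfsg.Agent.H24.CycInt

open Subgroup
open scoped Pointwise

local instance : Fact (Nat.Prime 2) := ⟨Nat.prime_two⟩

universe u

variable {G : Type u} [Group G] [Finite G]

theorem atMostOne_of_ci (h : CI G) : AtMostOne G := by
  intro S T hST a b ha hb haS haT hbS hbT
  haveI := h S T hST
  let a' : ↥((S : Subgroup G) ⊓ (T : Subgroup G)) := ⟨a, haS, haT⟩
  let b' : ↥((S : Subgroup G) ⊓ (T : Subgroup G)) := ⟨b, hbS, hbT⟩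
  have ha' : orderOf a' = 2 := (Subgroup.orderOf_coe a').symm.trans ha
  have hb' : orderOf b' = 2 := (Subgroup.orderOf_coe b').symm.trans hb
  classical
  cases nonempty_fintype ↥((S : Subgroup G) ⊓ (T : Subgroup G))
  have h1 := IsCyclic.card_orderOf_eq_totient (α := ↥((S : Subgroup G) ⊓ (T : Subgroup G))) (d := 2)
    (by
    have h := orderOf_dvd_natCard a'
    rw [ha'] at h
    rwa [Nat.card_eq_fintype_card] at h)
  rw [Nat.totient_two] at h1
  exact congrArg Subtype.val (Finset.card_le_one.1 h1.le a'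
    (Finset.mem_filter.2 ⟨Finset.mem_univ _, ha'⟩) b' (Finset.mem_filter.2 ⟨Finset.mem_univ _, hb'⟩))

/-- A central involution of `S` fixed by `N(S)` is excluded. -/
theorem no_fixed (hI : AtMostOne G) (hO : Cfsg.oddCore G = ⊥) (hO2 : Cfsg.pCore 2 G = ⊥)
    (S : Sylow 2 G) {c : G} (hc : orderOf c = 2) (hcS : c ∈ S) (hcen : ∀ s ∈ S, Commute s c)
    (hfix : ∀ n ∈ normalizer ((S : Subgroup G) : Set G), n * c * n⁻¹ = c) : False := by
  have hiso : ∀ g : G, g * c * g⁻¹ ∈ S → g * c * g⁻¹ = c := by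
    intro g hr
    set r := g * c * g⁻¹ with hr_def
    by_contra hne
    have hr2 : orderOf r = 2 := by rw [hr_def, ← MulAut.conj_apply, MulEquiv.orderOf_eq, hc]
    set H := centralizer ({r} : Set G) with hH
    have hcH : c ∈ H := mem_centralizer_iff.2 fun y hy => by
      rw [Set.mem_singleton_iff.1 hy]; exact (hcen r hr).eq
    have hrH : r ∈ H := mem_centralizer_iff.2 fun y hy => by rw [Set.mem_singleton_iff.1 hy]
    obtain ⟨P, hP⟩ := (S.isPGroup'.to_le (inf_le_left : (S : Subgroup G) ⊓ H ≤ S)).comap_subtype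
      (K := H) |>.exists_le_sylow
    obtain ⟨R, hR⟩ := (P.isPGroup'.map H.subtype).exists_le_sylow
    have hmem : ∀ x : G, x ∈ S → x ∈ H → x ∈ R := fun x hxS hxH =>
      hR ⟨⟨x, hxH⟩, hP (show (x : G) ∈ (S : Subgroup G) ⊓ H from ⟨hxS, hxH⟩), rfl⟩
    have hRS : R = S := by
      by_contra hRS
      exact hne (hI S R (Ne.symm hRS) r c hr2 hc hr (hmem r hr hrH) hcS (hmem c hcS hcH))
    have hgH : ((g • S : Sylow 2 G) : Subgroup G) ≤ H := fun x hx => mem_centralizer_iff.2 fun y hy => by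
      rw [Set.mem_singleton_iff.1 hy, hr_def]
      have hxc : g⁻¹ * x * g * c = c * (g⁻¹ * x * g) := (hcen _ (mem_smul_iff.1 hx)).eq
      calc g * c * g⁻¹ * x = g * (c * (g⁻¹ * x * g)) * g⁻¹ := by group
        _ = g * (g⁻¹ * x * g * c) * g⁻¹ := by rw [hxc]
        _ = x * (g * c * g⁻¹) := by group
    obtain ⟨P', hP'⟩ := ((g • S : Sylow 2 G).isPGroup'.comap_subtype (K := H)).exists_le_sylow
    have hcard : Nat.card S ≤ Nat.card P := by
      have h1 : Nat.card ((g • S : Sylow 2 G) : Subgroup G) ≤ Nat.card P' := by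
        rw [← Nat.card_congr (subgroupOfEquivOfLe hgH).toEquiv]
        exact card_le_of_le hP'
      rw [Sylow.card_eq_multiplicity, Sylow.card_eq_multiplicity] at *
      exact h1
    have hSH : (S : Subgroup G) ≤ H := by
      have h1 : (P : Subgroup H).map H.subtype = S := by
        refine eq_of_le_of_card_ge (hRS ▸ hR) ?_
        rw [card_subtype]
        exact hcard
      exact h1 ▸ map_subtype_le _
    obtain ⟨n, hn, he⟩ := Fusion.burnside_fusion_centralizer S
      (x := c) (g := g) (mem_centralizer_iff.2 fun s hs => (hcen s hs).eq)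
      (mem_centralizer_iff.2 fun s hs => (mem_centralizer_iff.1 (hSH hs) r rfl).symm)
    exact hne (he.symm.trans (hfix n hn))
  have hcom := Cores.glaubermanZStar S hc hcS hiso
  rw [hO] at hcom
  have hcent : ∀ g : G, c * g = g * c := fun g => by
    have h1 := mem_bot.1 (hcom g)
    rw [mul_inv_eq_one, mul_inv_eq_iff_eq_mul] at h1
    exact h1
  haveI : (zpowers c).Normal := ⟨fun x hx g => by
    obtain ⟨k, rfl⟩ := mem_zpowers_iff.1 hx
    rw [← ((show Commute g c from (hcent g).symm).zpow_right k).eq.symm, mul_assoc,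
      mul_inv_cancel, mul_one]
    exact zpow_mem (mem_zpowers c) k⟩
  have := (Cores.le_pCore (p := 2) (isPGroup_zpowers_invol hc)) (mem_zpowers c)
  rw [hO2, mem_bot] at this
  simp [this] at hc

theorem commute_of_conj {g a b : G} (h : Commute (g⁻¹ * a * g) b) : Commute a (g * b * g⁻¹) := by
  have := h.map (MulAut.conj g).toMonoidHom
  simpa [mul_assoc] using this

/-- `S` meets `C` in an involution central in `S`. -/
theorem exists_central_invol (S : Sylow 2 G) (C : Subgroup G) [C.Normal]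
    (hne : (S : Subgroup G) ⊓ C ≠ ⊥) :
    ∃ c, orderOf c = 2 ∧ c ∈ S ∧ c ∈ C ∧ ∀ s ∈ S, Commute s c := by
  set N : Subgroup ↥(S : Subgroup G) := C.subgroupOf (S : Subgroup G) with hN
  have hN' : N ≠ ⊥ := by
    rw [hN, ne_eq, subgroupOf_eq_bot, disjoint_iff, inf_comm]; exact hne
  have h2 : 2 ∣ Nat.card N := by
    obtain ⟨n, hn⟩ := IsPGroup.iff_card.1 (S.isPGroup'.to_subgroup N)
    rcases n with _ | n
    · exact absurd ((card_eq_one (H := N)).1 (by simpa using hn)) hN'
    · rw [hn]; exact Dvd.intro_left _ (pow_succ 2 n).symm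
  have hP : IsPGroup 2 (ConjAct ↥(S : Subgroup G)) := S.isPGroup'.of_equiv ConjAct.toConjAct
  obtain ⟨⟨x, hx⟩, hxfix, hx1⟩ := hP.exists_fixed_point_of_prime_dvd_card_of_fixed_point N h2
    (a := 1) (fun q => smul_one q)
  have hxc : ∀ s ∈ S, Commute s (x : G) := fun s hs => by
    have h3 := congrArg (fun y : N => ((y : ↥(S : Subgroup G)) : G))
      (hxfix (ConjAct.toConjAct ⟨s, hs⟩))
    simp only [ConjAct.Subgroup.val_conj_smul, ConjAct.smul_def, ConjAct.ofConjAct_toConjAct] at h3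
    exact mul_inv_eq_iff_eq_mul.1 h3
  have hxne : (x : G) ≠ 1 := fun h => hx1 (Subtype.ext (Subtype.ext h.symm))
  obtain ⟨n, hn⟩ := IsPGroup.iff_orderOf.1 S.isPGroup' x
  rw [← Subgroup.orderOf_coe] at hn
  rcases n with _ | n
  · exact absurd (orderOf_eq_one_iff.1 (by simpa using hn)) hxne
  refine ⟨(x : G) ^ 2 ^ n, ?_, pow_mem x.2 _, pow_mem hx _, fun s hs => (hxc s hs).pow_right _⟩
  rw [orderOf_pow_of_dvd (by positivity) (hn ▸ ⟨2, pow_succ 2 n⟩), hn, pow_succ,
    Nat.mul_div_cancel_left _ (by positivity)]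

/-- The main configuration is impossible. -/
theorem no_config (hci : CI G) (hO : Cfsg.oddCore G = ⊥) (hO2 : Cfsg.pCore 2 G = ⊥)
    (C : Subgroup G) (hC : C.index = 2)
    (hsol : ∀ M : Subgroup G, M ≠ ⊤ → ¬ M ≤ C → Group.IsSolvable M)
    (hpar : ∀ a b : G, orderOf a = 2 → orderOf b = 2 → a ∈ C → b ∈ C → a ≠ b → Commute a b →
      ¬ Good a → ¬ Good b → Good (a * b)) : False := by
  have hI := atMostOne_of_ci hci
  haveI hCn : C.Normal := normal_of_index_eq_two hC
  obtain ⟨S⟩ := (inferInstance : Nonempty (Sylow 2 G))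
  have hSC : (S : Subgroup G) ⊓ C ≠ ⊥ := by
    intro h
    have hodd : Odd (Nat.card C) := by
      rw [Nat.odd_iff, ← Nat.two_dvd_ne_zero]
      intro h2
      obtain ⟨⟨x, hx⟩, hx2⟩ := exists_prime_orderOf_dvd_card' 2 h2
      rw [Subgroup.orderOf_mk] at hx2
      obtain ⟨T, hT⟩ := (isPGroup_zpowers_invol hx2).exists_le_sylow
      obtain ⟨g, hg⟩ := exists_conj_sylow T S
      have h3 : g * x * g⁻¹ = 1 := by
        rw [← mem_bot, ← h]; exact ⟨hg x (hT (mem_zpowers x)), hCn.conj_mem x hx g⟩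
      rw [conj_eq_one_iff] at h3
      simp [h3] at hx2
    have hC1 : C = ⊥ := le_bot_iff.1 (hO ▸ Cores.le_oddCore hodd)
    have : IsPGroup 2 (⊤ : Subgroup G) := IsPGroup.of_card (n := 1) (by
      rw [card_top, pow_one, ← hC, hC1, index_bot])
    have h4 : (⊤ : Subgroup G) ≤ ⊥ := hO2 ▸ Cores.le_pCore this
    have h5 : C = ⊤ := le_antisymm le_top (h4.trans bot_le)
    rw [h5, index_top] at hC
    omega
  let Ω : G → Prop := fun c => orderOf c = 2 ∧ c ∈ S ∧ c ∈ C ∧ ∀ s ∈ S, Commute s c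
  have hmul : ∀ {a b : G}, Ω a → Ω b → a ≠ b → Ω (a * b) := by
    rintro a b ⟨ha, haS, haC, hac⟩ ⟨hb, hbS, hbC, hbc⟩ hne
    refine ⟨orderOf_eq_prime ?_ fun h => hne ?_, mul_mem haS hbS, mul_mem haC hbC,
      fun s hs => (hac s hs).mul_right (hbc s hs)⟩
    · rw [(hbc a haS).mul_pow, pow_two, pow_two, sq_of_orderOf ha, sq_of_orderOf hb, mul_one]
    · rw [← inv_eq_of_mul_eq_one_right (sq_of_orderOf hb)]
      exact eq_inv_of_mul_eq_one_left h
  have hpar' : ∀ {a b : G}, Ω a → Ω b → a ≠ b → ¬ Good a → ¬ Good b → Good (a * b) :=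
    fun ha hb hne g1 g2 => hpar _ _ ha.1 hb.1 ha.2.2.1 hb.2.2.1 hne (hb.2.2.2 _ ha.2.1) g1 g2
  have hconj : ∀ {n c : G}, n ∈ normalizer ((S : Subgroup G) : Set G) → Ω c → Ω (n * c * n⁻¹) := by
    intro n c hn hc
    refine ⟨by rw [← MulAut.conj_apply, MulEquiv.orderOf_eq, hc.1],
      (mem_normalizer_iff.1 hn c).1 hc.2.1, hCn.conj_mem c hc.2.2.1 n,
      fun s hs => commute_of_conj (hc.2.2.2 _ ?_)⟩
    have := (mem_normalizer_iff.1 (inv_mem hn) s).1 hs
    rwa [inv_inv] at this
  have hmove : ∀ {c : G}, Ω c → ∃ n ∈ normalizer ((S : Subgroup G) : Set G), n * c * n⁻¹ ≠ c := by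
    intro c hc
    by_contra! h
    exact no_fixed hI hO hO2 S hc.1 hc.2.1 hc.2.2.2 h
  -- three good involutions in a four group
  obtain ⟨x, y, hx, hy, hxy, gx, gy, gxy⟩ : ∃ x y : G, Ω x ∧ Ω y ∧ x ≠ y ∧ Good x ∧ Good y ∧
      Good (x * y) := by
    obtain ⟨c, hc2, hcS, hcC, hcc⟩ := exists_central_invol S C hSC
    have hc : Ω c := ⟨hc2, hcS, hcC, hcc⟩
    obtain ⟨e1, he1, g1⟩ : ∃ e, Ω e ∧ Good e := by
      by_cases hg : Good c
      · exact ⟨c, hc, hg⟩
      obtain ⟨n, hn, hne⟩ := hmove hc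
      refine ⟨c * (n * c * n⁻¹), hmul hc (hconj hn hc) hne.symm,
        hpar' hc (hconj hn hc) hne.symm hg fun h => hg ?_⟩
      simpa [mul_assoc] using h.conj n⁻¹
    obtain ⟨n, hn, hne⟩ := hmove he1
    set e2 := n * e1 * n⁻¹ with he2'
    have he2 : Ω e2 := hconj hn he1
    have g2 : Good e2 := g1.conj n
    by_cases gb : Good (e1 * e2)
    · exact ⟨e1, e2, he1, he2, hne.symm, g1, g2, gb⟩
    set b := e1 * e2 with hb'
    have hb : Ω b := hmul he1 he2 hne.symm
    obtain ⟨m, hm, hmne⟩ := hmove hb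
    set b' := m * b * m⁻¹ with hb''
    have hb2 : Ω b' := hconj hm hb
    have gb' : ¬ Good b' := fun h => gb (by simpa [hb'', mul_assoc] using h.conj m⁻¹)
    set e3 := b * b' with he3'
    have he3 : Ω e3 := hmul hb hb2 hmne.symm
    have g3 : Good e3 := hpar' hb hb2 hmne.symm gb gb'
    have hne1 : e1 ≠ b' := fun h => gb' (h ▸ g1)
    have hne2 : e2 ≠ b' := fun h => gb' (h ▸ g2)
    have hg' : Ω (e1 * b') := hmul he1 hb2 hne1
    have i1 : e1 * e1 = 1 := sq_of_orderOf he1.1
    have i2 : e2 * e2 = 1 := sq_of_orderOf he2.1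
    have i3 : b' * b' = 1 := sq_of_orderOf hb2.1
    have c12 : e2 * e1 = e1 * e2 := (he1.2.2.2 e2 he2.2.1).eq
    have c13 : b' * e1 = e1 * b' := (he1.2.2.2 b' hb2.2.1).eq
    have c23 : b' * e2 = e2 * b' := (he2.2.2.2 b' hb2.2.1).eq
    by_cases gg : Good (e1 * b')
    · refine ⟨e1 * b', e3, hg', he3, fun h => ?_, gg, g3, ?_⟩
      · have h1 : e1 * b' = e1 * e2 * b' := h
        rw [mul_assoc, mul_right_inj, right_eq_mul] at h1
        exact absurd he2.1 (by simp [h1])
      · have : e1 * b' * e3 = e2 := by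
          calc e1 * b' * (e1 * e2 * b') = e1 * (b' * e1) * (e2 * b') := by group
            _ = (e1 * e1) * (b' * e2) * b' := by rw [c13]; group
            _ = e2 := by rw [i1, one_mul, c23, mul_assoc, i3, mul_one]
        rwa [this]
    · have hne3 : e1 * b' ≠ b := fun h => hne2 (mul_left_cancel (h : e1 * b' = e1 * e2)).symm
      have heq : e1 * b' * b = e2 * b' := by
        calc e1 * b' * (e1 * e2) = e1 * (b' * e1) * e2 := by group
          _ = (e1 * e1) * (b' * e2) := by rw [c13]; group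
          _ = e2 * b' := by rw [i1, one_mul, c23]
      refine ⟨e2 * b', e3, hmul he2 hb2 hne2, he3, fun h => ?_,
        heq ▸ hpar' hg' hb hne3 gg gb, g3, ?_⟩
      · have h1 : e2 * b' = e1 * e2 * b' := h
        rw [mul_left_inj, right_eq_mul] at h1
        exact absurd he1.1 (by simp [h1])
      · have : e2 * b' * e3 = e1 := by
          calc e2 * b' * (e1 * e2 * b') = e2 * (b' * e1) * (e2 * b') := by group
            _ = (e2 * e1) * (b' * e2) * b' := by rw [c13]; group
            _ = e1 := by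
              rw [c12, c23, show e1 * e2 * (e2 * b') * b' = e1 * (e2 * e2) * (b' * b') by group,
                i2, i3, mul_one, mul_one]
        rwa [this]
  have hcentral : ∀ {a : G} {T : Sylow 2 G}, orderOf a = 2 → Good a → a ∈ T →
      ∀ t ∈ T, Commute t a := by
    intro a T ha ga haT t ht
    obtain ⟨g, rfl⟩ := isConj_iff.1 (isConj_of_good hI hO2 hx.1 ha gx ga)
    have hT : g • S = T := ga _ _ (conj_mem_smul hx.2.1) haT
    exact commute_of_conj (hx.2.2.2 _ (mem_smul_iff.1 (hT.symm ▸ ht)))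
  -- an involution of `S` whose centraliser is not in `C` is good
  have hgood : ∀ r : G, orderOf r = 2 → r ∈ S → ¬ centralizer ({r} : Set G) ≤ C → Good r := by
    intro r hr hrS hrC
    suffices ∀ T : Sylow 2 G, r ∈ T → T = S from fun T U hT hU => (this T hT).trans (this U hU).symm
    intro T hrT
    set M := centralizer ({r} : Set G) with hM
    have hMtop : M ≠ ⊤ := fun h => by
      haveI : (zpowers r).Normal := ⟨fun z hz g => by
        obtain ⟨k, rfl⟩ := mem_zpowers_iff.1 hz
        have hcm : Commute g r :=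
          (mem_centralizer_iff.1 (show g ∈ M from h ▸ mem_top g) r rfl).symm
        rw [(hcm.zpow_right k).eq, mul_assoc, mul_inv_cancel, mul_one]
        exact zpow_mem (mem_zpowers r) k⟩
      have := (Cores.le_pCore (p := 2) (isPGroup_zpowers_invol hr)) (mem_zpowers r)
      rw [hO2, mem_bot] at this
      simp [this] at hr
    haveI := hsol M hMtop hrC
    have inM : ∀ {U : Sylow 2 G} {a : G}, r ∈ U → (∀ t ∈ U, Commute t a) → a ∈ M :=
      fun hrU h => mem_centralizer_iff.2 fun z hz => by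
        rw [Set.mem_singleton_iff.1 hz]; exact (h r hrU).eq
    have hxM : x ∈ M := inM hrS hx.2.2.2
    have hyM : y ∈ M := inM hrS hy.2.2.2
    set O : Subgroup G := (Cfsg.oddCore M).map M.subtype with hO'
    have hOodd : Odd (Nat.card O) := by rw [hO', card_subtype]; exact Cores.odd_card_oddCore
    have hMO : M ≤ normalizer (O : Set G) := by
      rw [le_normalizer_iff]
      rintro m hm _ ⟨o, ho, rfl⟩
      exact ⟨⟨m, hm⟩ * o * ⟨m, hm⟩⁻¹,
        (inferInstance : (Cfsg.oddCore M).Normal).conj_mem o ho _, rfl⟩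
    have hA : ∀ z ∈ zpowers x ⊔ zpowers y, z ∈ M := fun z hz =>
      (sup_le (zpowers_le.2 hxM) (zpowers_le.2 hyM)) hz
    have hAc : IsMulCommutative ↥(zpowers x ⊔ zpowers y) := by
      have hle : zpowers x ⊔ zpowers y ≤ ((Subgroup.center ↥(S : Subgroup G)).map
          (S : Subgroup G).subtype) := by
        have : ∀ a, Ω a → a ∈ (Subgroup.center ↥(S : Subgroup G)).map (S : Subgroup G).subtype :=
          fun a ha => ⟨⟨a, ha.2.1⟩, mem_center_iff.2 fun s => Subtype.ext (ha.2.2.2 s s.2).eq, rfl⟩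
        exact sup_le (zpowers_le.2 (this x hx)) (zpowers_le.2 (this y hy))
      exact ⟨⟨fun a b => Subtype.ext (by
        obtain ⟨a', ha', hae⟩ := hle a.2
        obtain ⟨b', hb', hbe⟩ := hle b.2
        simp only [Subgroup.coe_mul, ← hae, ← hbe, ← map_mul, (mem_center_iff.1 hb' a')])⟩⟩
    have hA2 : IsPGroup 2 ↥(zpowers x ⊔ zpowers y) :=
      S.isPGroup'.to_le (sup_le (zpowers_le.2 hx.2.1) (zpowers_le.2 hy.2.1))
    have hgenC : ∀ {a : G}, Ω a → Good a →
        O ⊓ centralizer ({a} : Set G) ≤ normalizer ((S : Subgroup G) : Set G) := by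
      intro a ha ga o ho
      refine Sylow.smul_eq_iff_mem_normalizer.1 (ga _ _ ?_ ha.2.1)
      rw [mem_smul_iff, mul_assoc, mem_centralizer_iff.1 ho.2 a rfl, inv_mul_cancel_left]
      exact ha.2.1
    have hON : O ≤ normalizer ((S : Subgroup G) : Set G) := by
      haveI := hAc
      refine Coprime.le_of_centralizer_le (A := zpowers x ⊔ zpowers y) (p := 2) (x := x) (y := y)
        (mem_sup_left (mem_zpowers x)) (mem_sup_right (mem_zpowers y)) O _ ?_ ?_ ?_ ?_ ?_ ?_ ?_
      · exact fun z hz => hMO (hA z hz)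
      · obtain ⟨n, hn⟩ := IsPGroup.iff_card.1 hA2
        rw [hn]; exact (Nat.coprime_two_left.2 hOodd).pow_left n
      · exact Nat.coprime_two_left.2 hOodd
      · rw [pow_two, sq_of_orderOf hx.1]; exact one_mem _
      · rw [pow_two, sq_of_orderOf hy.1]; exact one_mem _
      · exact hgenC hy gy
      · intro i hi
        interval_cases i
        · simpa using hgenC hx gx
        · simpa using hgenC (hmul hx hy hxy) gxy
    have hxO : ∀ o ∈ O, Commute x o := by
      intro o ho
      have h1 : x * o * x⁻¹ * o⁻¹ ∈ O :=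
        mul_mem ((mem_normalizer_iff.1 (hMO hxM) o).1 ho) (inv_mem ho)
      have h2 : x * o * x⁻¹ * o⁻¹ ∈ S := by
        rw [show x * o * x⁻¹ * o⁻¹ = x * (o * x⁻¹ * o⁻¹) by group]
        exact mul_mem hx.2.1 ((mem_normalizer_iff.1 (hON ho) _).1 (inv_mem hx.2.1))
      have h3 : x * o * x⁻¹ * o⁻¹ ∈ (S : Subgroup G) ⊓ O := ⟨h2, h1⟩
      rw [Cores.disjoint_of_isPGroup_of_coprime S.isPGroup' (Nat.coprime_two_right.2 hOodd),
        mem_bot, mul_inv_eq_one, mul_inv_eq_iff_eq_mul] at h3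
      exact h3
    have inSylow : ∀ P : Sylow 2 M, (⟨x, hxM⟩ : M) ∈ P → ∀ m ∈ P, (m : G) ∈ S := by
      intro P hxP m hm
      obtain ⟨R, hR⟩ := (P.isPGroup'.map M.subtype).exists_le_sylow
      exact gx R S (hR ⟨_, hxP, rfl⟩) hx.2.1 ▸ hR ⟨m, hm, rfl⟩
    have hxD : (⟨x, hxM⟩ : M) ∈ Cfsg.pCore 2 M := by
      have hxcF : (⟨x, hxM⟩ : M) ∈ centralizer (Cfsg.fittingSubgroup M : Set M) := by
        have hle : Cfsg.fittingSubgroup M ≤ centralizer ({⟨x, hxM⟩} : Set M) := by
          rw [Cores.iSup_pCore_eq_fittingSubgroup]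
          refine (Cores.iSup_pCore_le_sup 2).trans (sup_le (fun o ho => ?_) fun d hd => ?_)
          · exact mem_centralizer_iff.2 fun z hz => by
              rw [Set.mem_singleton_iff.1 hz]
              exact Subtype.ext (hxO o ⟨o, ho, rfl⟩).eq
          · obtain ⟨P, hP⟩ := ((isPGroup_zpowers_invol
              (show orderOf (⟨x, hxM⟩ : M) = 2 by rw [Subgroup.orderOf_mk]; exact hx.1))).exists_le_sylow
            exact mem_centralizer_iff.2 fun z hz => by
              rw [Set.mem_singleton_iff.1 hz]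
              exact Subtype.ext ((hx.2.2.2 _ (inSylow P (hP (mem_zpowers _)) d
                (Cores.pCore_le_sylow P hd))).eq).symm
        exact mem_centralizer_iff.2 fun d hd => (mem_centralizer_iff.1 (hle hd) _ rfl).symm
      have hxF := Cores.centralizer_fittingSubgroup_le hxcF
      rw [Cores.iSup_pCore_eq_fittingSubgroup] at hxF
      exact Cores.le_pCore_of_le_sup (A := zpowers (⟨x, hxM⟩ : M))
        (isPGroup_zpowers_invol (by rw [Subgroup.orderOf_mk]; exact hx.1))
        (zpowers_le.2 (Cores.iSup_pCore_le_sup 2 hxF)) (mem_zpowers _)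
    obtain ⟨g, hg⟩ := exists_conj_sylow S T
    have hzT : g * x * g⁻¹ ∈ T := hg x hx.2.1
    have hz2 : orderOf (g * x * g⁻¹) = 2 := by rw [← MulAut.conj_apply, MulEquiv.orderOf_eq, hx.1]
    have hzM : g * x * g⁻¹ ∈ M := inM hrT (hcentral hz2 (gx.conj g) hzT)
    obtain ⟨P, hP⟩ := (isPGroup_zpowers_invol (show orderOf (⟨_, hzM⟩ : M) = 2 by
      rw [Subgroup.orderOf_mk]; exact hz2)).exists_le_sylow
    have := inSylow P (Cores.pCore_le_sylow P hxD) _ (hP (mem_zpowers _))
    exact (gx.conj g) T S hzT this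
  -- `N(S) = S K`
  obtain ⟨x0, hx0S, hx0C, hx0⟩ : ∃ x0, x0 ∈ S ∧ x0 ∉ C ∧ ∀ n ∈ normalizer ((S : Subgroup G) : Set G),
      ∃ s ∈ S, ∀ z : G, Commute z x0 → (∀ t ∈ S, Commute t z) → Commute (s⁻¹ * n) x0 := by
    set N := normalizer ((S : Subgroup G) : Set G) with hN
    haveI : ((S : Subgroup G).subgroupOf N).Normal := normal_in_normalizer
    set SN := (S : Subgroup G).subgroupOf N with hSN
    have hcop : (Nat.card SN).Coprime SN.index := by
      obtain ⟨n, hn⟩ := IsPGroup.iff_card.1 S.isPGroup'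
      have h1 : Nat.card SN = 2 ^ n :=
        (Nat.card_congr (subgroupOfEquivOfLe le_normalizer).toEquiv).trans hn
      rw [h1]
      refine Nat.Coprime.pow_left n ((Nat.Prime.coprime_iff_not_dvd Nat.prime_two).2 fun h2 => ?_)
      exact (Sylow.not_dvd_index S) (h2.trans (relIndex_dvd_index_of_le le_normalizer))
    obtain ⟨K, hK⟩ := exists_left_complement'_of_coprime hcop
    have hKcop : (Nat.card K).Coprime (Nat.card ↥(S : Subgroup G)) := by
      have h1 : Nat.card K = SN.index := hK.index_eq_card.symm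
      rw [h1, ← Nat.card_congr (subgroupOfEquivOfLe le_normalizer).toEquiv]
      exact hcop.symm
    have hconjS : ∀ (k : K) (s : ↥(S : Subgroup G)), ((k : N) : G) * s * ((k : N) : G)⁻¹ ∈ S :=
      fun k s => (mem_normalizer_iff.1 (k : N).2 s).1 s.2
    letI act : MulDistribMulAction K ↥(S : Subgroup G) :=
      { smul := fun k s => ⟨_, hconjS k s⟩
        one_smul := fun s => Subtype.ext (by
          show (1 : G) * s * 1⁻¹ = s
          simp)
        mul_smul := fun k l s => Subtype.ext (by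
          show ((k : N) : G) * (l : N) * s * (((k : N) : G) * (l : N))⁻¹ =
            ((k : N) : G) * (((l : N) : G) * s * ((l : N) : G)⁻¹) * ((k : N) : G)⁻¹
          group)
        smul_mul := fun k s t => Subtype.ext (by
          show ((k : N) : G) * (s * t) * ((k : N) : G)⁻¹ =
            (((k : N) : G) * s * ((k : N) : G)⁻¹) * (((k : N) : G) * t * ((k : N) : G)⁻¹)
          group)
        smul_one := fun k => Subtype.ext (by
          show ((k : N) : G) * 1 * ((k : N) : G)⁻¹ = 1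
          simp) }
    have hsmul : ∀ (k : K) (s : ↥(S : Subgroup G)),
        ((k • s : ↥(S : Subgroup G)) : G) = ((k : N) : G) * s * ((k : N) : G)⁻¹ := fun _ _ => rfl
    obtain ⟨g0, hg0S, hg0C⟩ : ∃ g0 ∈ S, g0 ∉ C := by
      by_contra! h
      have h2 := index_dvd_of_le (h : (S : Subgroup G) ≤ C)
      rw [hC] at h2
      exact (Sylow.not_dvd_index S) h2
    haveI : Group.IsSolvable ↥(S : Subgroup G) := by
      haveI := S.isPGroup'.isNilpotent; infer_instance
    obtain ⟨c, hcfix, hcC⟩ := Coprime.exists_fixed_mem_coset (A := K) hKcop (Or.inr inferInstance)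
      (N := C.subgroupOf (S : Subgroup G)) (g := (⟨g0, hg0S⟩ : ↥(S : Subgroup G)))
      (fun k s hs => by
        rw [mem_subgroupOf] at hs ⊢
        rw [hsmul]; exact hCn.conj_mem _ hs _)
      (fun k => by
        rw [mem_subgroupOf, Subgroup.coe_mul, Subgroup.coe_inv, hsmul]
        rw [mul_mem_iff_of_index_two hC, mul_mem_iff_of_index_two hC,
          mul_mem_iff_of_index_two hC, inv_mem_iff, inv_mem_iff]
        simp [hg0C])
    refine ⟨c, c.2, fun h => hg0C ?_, fun n hn => ?_⟩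
    · rw [mem_subgroupOf, Subgroup.coe_mul, Subgroup.coe_inv, mul_mem_iff_of_index_two hC,
        inv_mem_iff] at hcC
      exact hcC.2 h
    · obtain ⟨⟨⟨k, hk⟩, ⟨s, hs⟩⟩, hks⟩ := hK.2 ⟨n, hn⟩
      have hn' : (k : G) * (s : G) = n := congrArg Subtype.val hks
      refine ⟨(k : G) * (s : G) * (k : G)⁻¹, hconjS ⟨k, hk⟩ ⟨_, hs⟩, fun z _ _ => ?_⟩
      have h1 : ((k : G) * (s : G) * (k : G)⁻¹)⁻¹ * n = (k : G) := by rw [← hn']; group
      rw [h1]
      exact mul_inv_eq_iff_eq_mul.1 (congrArg Subtype.val (hcfix ⟨k, hk⟩) :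
        (k : G) * (c : G) * (k : G)⁻¹ = (c : G))
  obtain ⟨j, hj⟩ := IsPGroup.iff_orderOf.1 S.isPGroup' (⟨x0, hx0S⟩ : ↥(S : Subgroup G))
  rw [Subgroup.orderOf_mk] at hj
  rcases j with _ | j
  · exact hx0C ((orderOf_eq_one_iff.1 (by simpa using hj)).symm ▸ one_mem C)
  set r := x0 ^ 2 ^ j with hr'
  have hr : orderOf r = 2 := by
    rw [hr', orderOf_pow_of_dvd (by positivity) (hj ▸ ⟨2, pow_succ 2 j⟩), hj, pow_succ,
      Nat.mul_div_cancel_left _ (by positivity)]
  have gr : Good r := hgood r hr (pow_mem hx0S _) fun h => hx0C (h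
    (mem_centralizer_iff.2 fun z hz => by
      rw [Set.mem_singleton_iff.1 hz]; exact ((Commute.refl x0).pow_left _).eq))
  have hrc : ∀ t ∈ S, Commute t r := hcentral hr gr (pow_mem hx0S _)
  refine no_fixed hI hO hO2 S hr (pow_mem hx0S _) hrc fun n hn => ?_
  obtain ⟨s, hs, h⟩ := hx0 n hn
  have h1 : Commute (s⁻¹ * n) r := (h r ((Commute.refl x0).pow_left _) hrc).pow_right _
  have h2 : Commute n r := by
    have := (hrc s hs).mul_left h1
    rwa [mul_inv_cancel_left] at this
  rw [h2.eq, mul_assoc, mul_inv_cancel, mul_one]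

end Cfsg.Agent.H24.CycInt
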