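import Cfsg.Agent.H24.SmallInvolutionCentralizer
import Cfsg.Agent.Cores.ThirdMain
import Cfsg.Agent.BlockBasic.Brauer
import Cfsg.Agent.CharInduce.Ops
import Cfsg.Agent.H35.BlockInduction
import Cfsg.Agent.S4718

/-!
# Bounding the order of a group with few non-principal 2-blocks of large defect
-/

set_option autoImplicit false
set_option linter.style.haveILetI false

open scoped ComplexConjugate

namespace Cfsg.Agent.H24.FewBlocks

open BlockBasic CharBasic

universe u

/-- No non-principal block has defect at least `r`. -/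
def Hyp (G : Type u) [Group G] (M : Ideal AlgInt) (r : ℕ) : Prop :=
  ∀ B : Set (IrrCharacter G), IsPBlock M B → B ≠ principalBlock M G → blockDefect 2 B < r

variable {G : Type u} [Group G]

/-- The hypothesis passes to `C(z)` for an involution `z`. -/
theorem hyp_centralizer [Finite G] {M : Ideal AlgInt} (hM : IsPModular 2 M) {z : G} (hz : orderOf z = 2)
    {r : ℕ} (h : Hyp G M (r + 1)) : Hyp (Subgroup.centralizer ({z} : Set G)) M (r + 1) := by
  haveI : Fact (Nat.Prime 2) := ⟨Nat.prime_two⟩
  set H := Subgroup.centralizer ({z} : Set G) with hH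
  intro b hb hne
  obtain ⟨B, hB⟩ := inducedBlockDefined (P := Subgroup.zpowers z) (H := H) hM
    (IsPGroup.of_card (n := 1) (by rw [Nat.card_zpowers, hz, pow_one]))
    (by rw [Subgroup.zpowers_le]; exact Subgroup.mem_centralizer_singleton_iff.2 rfl)
    (fun g hg => Subgroup.mem_centralizer_singleton_iff.2
      (Subgroup.mem_centralizer_iff.1 hg z (Subgroup.mem_zpowers z)).symm)
    (fun g hg => by
      refine Subgroup.centralizer_le_normalizer _ ?_
      rw [Subgroup.mem_centralizer_iff]
      intro x hx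
      obtain ⟨k, rfl⟩ := Subgroup.mem_zpowers_iff.1 hx
      exact ((show Commute g z from Subgroup.mem_centralizer_singleton_iff.1 hg).zpow_right k).symm) hb
  have hBne : B ≠ principalBlock M G := fun e => hne ((Cores.third_main hM hB).1 e)
  refine lt_of_le_of_lt ?_ (h B hB.2.1 hBne)
  obtain ⟨y, hy⟩ := exists_isDefectClass hM hb
  have hD : IsDefectGroup 2 M b _ := ⟨y, hy, default, rfl⟩
  obtain ⟨E, hE, hDE⟩ := H35.defectGroup_le_induced hM H hB hD
  have h1 := Subgroup.card_le_of_le hDE
  rw [Subgroup.card_map_of_injective H.subtype_injective, H35.card_defectGroup hM hb hD,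
    H35.card_defectGroup hM hB.2.1 hE] at h1
  exact (Nat.pow_le_pow_iff_right (by norm_num)).1 h1

/-- The hypothesis passes to the quotient by a central involution. -/
theorem hyp_quotient [Finite G] {M : Ideal AlgInt} (hM : IsPModular 2 M) {z : G} (hz : orderOf z = 2)
    (hc : ∀ g : G, g * z = z * g) [hn : (Subgroup.zpowers z).Normal] {r : ℕ} (h : Hyp G M (r + 1)) :
    Hyp (G ⧸ Subgroup.zpowers z) M r := by
  classical
  haveI : Fact (Nat.Prime 2) := ⟨Nat.prime_two⟩
  cases nonempty_fintype G
  intro B' hB' hne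
  set π := QuotientGroup.mk' (Subgroup.zpowers z) with hπ
  have hsur : Function.Surjective π := QuotientGroup.mk'_surjective _
  let infl : IrrCharacter (G ⧸ Subgroup.zpowers z) → IrrCharacter G := fun ξ =>
    ⟨(ξ : G ⧸ Subgroup.zpowers z → ℂ) ∘ π, CharInduce.IsIrr.comp ξ.2 π hsur⟩
  have hsame : ∀ ξ η : IrrCharacter (G ⧸ Subgroup.zpowers z), SameBlock M (ξ : G ⧸ Subgroup.zpowers z → ℂ) (η : G ⧸ Subgroup.zpowers z → ℂ) →
      SameBlock M (infl ξ : G → ℂ) (infl η : G → ℂ) := by
    intro ξ η hξη g
    obtain ⟨m, hm⟩ : (Subgroup.centralizer ({π g} : Set (G ⧸ Subgroup.zpowers z))).index ∣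
        (Subgroup.centralizer ({g} : Set G)).index := by
      rw [← Subgroup.index_comap_of_surjective _ hsur]
      refine Subgroup.index_dvd_of_le fun y hy => ?_
      rw [Subgroup.mem_comap, Subgroup.mem_centralizer_singleton_iff, ← map_mul, ← map_mul,
        Subgroup.mem_centralizer_singleton_iff.1 hy]
    have he : ∀ ζ : IrrCharacter (G ⧸ Subgroup.zpowers z), centralChar (infl ζ : G → ℂ) g =
        (m : ℂ) * centralChar (ζ : G ⧸ Subgroup.zpowers z → ℂ) (π g) := by
      intro ζ
      simp only [centralChar, infl, Function.comp_apply, map_one, hm]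
      push_cast
      ring
    rw [he, he, ← mul_sub]
    exact memLocalIdeal_mul hM (natCast_mem (locRing hM) m) (hξη (π g))
  obtain ⟨ξ₀, hξ₀⟩ := isPBlock_nonempty hM hB'
  set b := blockOf M (infl ξ₀ : G → ℂ) with hb
  have hbB : IsPBlock M b := isPBlock_blockOf M _
  have hmem : ∀ ξ ∈ B', infl ξ ∈ b := fun ξ hξ => hsame _ _ (isPBlock_sameBlock hM hB' hξ₀ hξ)
  have hreg : ∀ ξ : IrrCharacter (G ⧸ Subgroup.zpowers z),
      Cores.regElt (G := G) 2 = Cores.regElt (G := G) 2 →
      omega (infl ξ : G → ℂ) (Cores.regElt 2) = omega (ξ : G ⧸ Subgroup.zpowers z → ℂ) (Cores.regElt 2) := by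
    intro ξ _
    simp only [omega, chiLin, Cores.regElt, coeff_ofFun, ite_mul, one_mul, zero_mul, ← Finset.sum_filter,
      infl, Function.comp_apply, map_one]
    congr 1
    refine Finset.sum_bij (fun g _ => π g) (fun g hg => ?_) (fun g₁ hg₁ g₂ hg₂ he => ?_) (fun q hq => ?_)
      (fun g _ => rfl)
    · simp only [Finset.mem_filter, Finset.mem_univ, true_and] at hg ⊢
      exact fun hd => hg (hd.trans (orderOf_map_dvd π g))
    · simp only [Finset.mem_filter, Finset.mem_univ, true_and] at hg₁ hg₂
      have hmz : g₁⁻¹ * g₂ ∈ Subgroup.zpowers z := QuotientGroup.eq.1 he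
      rw [mem_zpowers_iff_mem_range_orderOf, hz] at hmz
      obtain ⟨i, hi, hie⟩ := Finset.mem_image.1 hmz
      rw [Finset.mem_range] at hi
      interval_cases i
      · rw [pow_zero] at hie; exact inv_mul_eq_one.1 hie.symm
      · rw [pow_one] at hie
        exfalso
        apply hg₂
        have e : g₂ = g₁ * z := by rw [hie]; group
        rw [e, (show Commute g₁ z from hc g₁).orderOf_mul_eq_mul_orderOf_of_coprime
          (by rw [hz]; exact ((Nat.prime_two.coprime_iff_not_dvd.2 hg₁)).symm), hz]
        exact dvd_mul_left 2 _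
    · simp only [Finset.mem_filter, Finset.mem_univ, true_and] at hq
      obtain ⟨g, rfl⟩ := hsur q
      refine ⟨pReg (p := 2) g, Finset.mem_filter.2 ⟨Finset.mem_univ _, not_dvd_orderOf_pReg (p := 2) g⟩, ?_⟩
      obtain ⟨k, hk⟩ := exists_orderOf_pPart (p := 2) g
      have h1 : orderOf (π (pPart (p := 2) g)) = 1 := by
        have hcm : Commute (π (pPart (p := 2) g)) (π (pReg (p := 2) g)) := (commute_pPart_pReg g).map π
        obtain ⟨j, -, hj⟩ := (Nat.dvd_prime_pow Nat.prime_two).1 (hk ▸ orderOf_map_dvd π (pPart (p := 2) g))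
        rcases Nat.eq_zero_or_pos j with rfl | hjpos
        · simpa using hj
        · exfalso
          have hd : orderOf (π (pPart (p := 2) g)) ∣ orderOf (π g) := by
            conv_rhs => rw [← pPart_mul_pReg (p := 2) g, map_mul]
            rw [hcm.orderOf_mul_eq_mul_orderOf_of_coprime]
            · exact dvd_mul_right _ _
            · rw [hj]
              exact Nat.Coprime.pow_left _ (Nat.prime_two.coprime_iff_not_dvd.2
                fun hd => not_dvd_orderOf_pReg (p := 2) g (hd.trans (orderOf_map_dvd π _)))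
          exact hq ((dvd_pow_self 2 hjpos.ne').trans (hj ▸ hd))
      show π (pReg (p := 2) g) = π g
      conv_rhs => rw [← pPart_mul_pReg (p := 2) g, map_mul, orderOf_eq_one_iff.1 h1, one_mul]
  have hbne : b ≠ principalBlock M G := by
    intro e
    have hs : SameBlock M (infl ξ₀ : G → ℂ) (fun _ : G => (1 : ℂ)) := by
      have := self_mem_blockOf hM (infl ξ₀)
      rw [← hb, e] at this
      exact fun g => by simpa using memLocalIdeal_neg (this g)
    have h1 := omega_congr hM (IsIrr.isClassFunction (infl ξ₀).2) (fun _ _ => rfl) hs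
      (Cores.isCentralElt_regElt (G := G) 2) (Cores.isIntElt_regElt hM)
    have hnot : ξ₀ ∉ principalBlock M (G ⧸ Subgroup.zpowers z) := fun h' =>
      hne (isPBlock_eq_of_mem hM hB' (isPBlock_principalBlock M) hξ₀ h')
    rw [hreg ξ₀ rfl, Cores.omega_regElt_eq_zero hM hnot, zero_sub] at h1
    exact Cores.not_memLocalIdeal_omega_regElt (G := G) hM (by simpa using memLocalIdeal_neg h1)
  have hlt := h b hbB hbne
  have hfac : (Nat.card G).factorization 2 = (Nat.card (G ⧸ Subgroup.zpowers z)).factorization 2 + 1 := by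
    rw [Subgroup.card_eq_card_quotient_mul_card_subgroup (Subgroup.zpowers z), Nat.card_zpowers, hz,
      Nat.factorization_mul Nat.card_pos.ne' (by norm_num), Finsupp.add_apply, Nat.prime_two.factorization_self]
  obtain ⟨ξ₁, hξ₁, hmin⟩ : sInf ((fun χ : IrrCharacter (G ⧸ Subgroup.zpowers z) =>
      (charDegree (χ : G ⧸ Subgroup.zpowers z → ℂ)).factorization 2) '' B') ∈ ((fun χ : IrrCharacter (G ⧸ Subgroup.zpowers z) =>
      (charDegree (χ : G ⧸ Subgroup.zpowers z → ℂ)).factorization 2) '' B') := Nat.sInf_mem ⟨_, ξ₀, hξ₀, rfl⟩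
  have hdeg : charDegree (infl ξ₁ : G → ℂ) = charDegree (ξ₁ : G ⧸ Subgroup.zpowers z → ℂ) := by
    simp [charDegree, infl]
  have hle : sInf ((fun χ : IrrCharacter G => (charDegree (χ : G → ℂ)).factorization 2) '' b) ≤
      (charDegree (ξ₁ : G ⧸ Subgroup.zpowers z → ℂ)).factorization 2 :=
    Nat.sInf_le ⟨infl ξ₁, hmem ξ₁ hξ₁, congrArg (fun n => n.factorization 2) hdeg⟩
  have hub : (charDegree (ξ₁ : G ⧸ Subgroup.zpowers z → ℂ)).factorization 2 ≤ (Nat.card (G ⧸ Subgroup.zpowers z)).factorization 2 :=
    (Nat.factorization_le_iff_dvd (charDegree_pos ξ₁).ne' Nat.card_pos.ne').2 (charDegree_dvd ξ₁) 2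
  simp only [blockDefect] at hlt hmin ⊢
  rw [← hmin]
  omega

/-- The bound. -/
theorem bounded (a : ℕ) : ∃ N : ℕ, ∀ (G : Type u) [Group G] [Finite G] (M : Ideal AlgInt) (r : ℕ)
    (E : Subgroup G), IsPModular 2 M → (Nat.card G).factorization 2 ≤ a → Hyp G M r →
    IsMulCommutative E → (∀ x ∈ E, x * x = 1) → Nat.card E = 2 ^ (r + 1) → Nat.card G ≤ N := by
  haveI : Fact (Nat.Prime 2) := ⟨Nat.prime_two⟩
  induction a with
  | zero =>
    refine ⟨0, fun G _ _ M r E _ ha _ _ _ hE => ?_⟩
    exfalso
    have h2 : 2 ∣ Nat.card G := (dvd_pow_self 2 (by omega)).trans (hE ▸ E.card_subgroup_dvd_card)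
    have := Nat.prime_two.factorization_pos_of_dvd Nat.card_pos.ne' h2
    omega
  | succ a ih =>
    obtain ⟨N, hN⟩ := ih
    choose L hL using fun e => (S4718.result.{u} 2 e)
    obtain ⟨F, hF⟩ := SmallCentralizer.bounded.{u} (a + 1) (2 * N)
    refine ⟨(Finset.range (a + 2)).sum L + F, fun G _ _ M r E hM ha hH hEc hEsq hEcard => ?_⟩
    rcases r with _ | r
    · refine (hL _ G M hM rfl fun B hB => by_contra fun hne => Nat.not_lt_zero _ (hH B hB hne)).trans ?_
      exact (Finset.single_le_sum (fun _ _ => Nat.zero_le _) (Finset.mem_range.2 (by omega))).trans (Nat.le_add_right _ _)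
    have hcent : ∀ z ∈ E, z ≠ 1 → Nat.card (Subgroup.centralizer ({z} : Set G)) ≤ 2 * N := by
      intro z hzE hz1
      have hz : orderOf z = 2 := orderOf_eq_prime (by rw [pow_two]; exact hEsq z hzE) hz1
      set C := Subgroup.centralizer ({z} : Set G) with hC
      have hEC : E ≤ C := fun x hx => Subgroup.mem_centralizer_singleton_iff.2
        (congrArg Subtype.val (hEc.is_comm.comm ⟨x, hx⟩ ⟨z, hzE⟩))
      let zC : C := ⟨z, hEC hzE⟩
      have hzC : orderOf zC = 2 := by rw [← Subgroup.orderOf_coe]; exact hz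
      have hcC : ∀ g : C, g * zC = zC * g := fun g => Subtype.ext (Subgroup.mem_centralizer_singleton_iff.1 g.2)
      haveI hnorm : (Subgroup.zpowers zC).Normal := ⟨fun x hx g => by
        obtain ⟨k, rfl⟩ := Subgroup.mem_zpowers_iff.1 hx
        rw [((show Commute g zC from hcC g).zpow_right k).eq, mul_inv_cancel_right]
        exact zpow_mem (Subgroup.mem_zpowers zC) k⟩
      have hH' : Hyp (C ⧸ Subgroup.zpowers zC) M r :=
        hyp_quotient hM hzC hcC (hyp_centralizer hM hz hH)
      let E' : Subgroup (C ⧸ Subgroup.zpowers zC) := (E.subgroupOf C).map (QuotientGroup.mk' _)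
      have hE'c : IsMulCommutative E' := ⟨⟨fun x y => by
        obtain ⟨x', hx', hx⟩ := x.2
        obtain ⟨y', hy', hy⟩ := y.2
        refine Subtype.ext ?_
        show (x : C ⧸ Subgroup.zpowers zC) * y = y * x
        rw [← hx, ← hy, ← map_mul, ← map_mul]
        have hcom : (x' : G) * (y' : G) = (y' : G) * (x' : G) :=
          congrArg Subtype.val (hEc.is_comm.comm (⟨(x' : G), hx'⟩ : E) ⟨(y' : G), hy'⟩)
        exact congrArg _ (Subtype.ext hcom)⟩⟩
      have hE'sq : ∀ x ∈ E', x * x = 1 := by
        rintro _ ⟨x', hx', rfl⟩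
        rw [← map_mul, show x' * x' = 1 from Subtype.ext (hEsq _ hx'), map_one]
      have hE'card : Nat.card E' = 2 ^ (r + 1) := by
        show Nat.card ((E.subgroupOf C).map (QuotientGroup.mk' (Subgroup.zpowers zC))) = _
        rw [← Subgroup.relIndex_ker, QuotientGroup.ker_mk']
        have hle : Subgroup.zpowers zC ≤ E.subgroupOf C := Subgroup.zpowers_le.2 hzE
        have h := Subgroup.relIndex_mul_relIndex ⊥ (Subgroup.zpowers zC) (E.subgroupOf C) bot_le hle
        rw [Subgroup.relIndex_bot_left, Subgroup.relIndex_bot_left, Nat.card_zpowers, hzC,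
          Nat.card_congr (Subgroup.subgroupOfEquivOfLe hEC).toEquiv, hEcard, pow_succ'] at h
        exact Nat.eq_of_mul_eq_mul_left two_pos h
      have hcard : Nat.card C = Nat.card (C ⧸ Subgroup.zpowers zC) * 2 := by
        rw [Subgroup.card_eq_card_quotient_mul_card_subgroup (Subgroup.zpowers zC), Nat.card_zpowers, hzC]
      have hfac : (Nat.card (C ⧸ Subgroup.zpowers zC)).factorization 2 ≤ a := by
        have h1 : (Nat.card C).factorization 2 ≤ a + 1 :=
          ((Nat.factorization_le_iff_dvd Nat.card_pos.ne' Nat.card_pos.ne').2 C.card_subgroup_dvd_card 2).trans ha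
        rw [hcard, Nat.factorization_mul Nat.card_pos.ne' two_ne_zero, Finsupp.add_apply,
          Nat.prime_two.factorization_self] at h1
        omega
      have := hN (C ⧸ Subgroup.zpowers zC) M r E' hM hfac hH' hE'c hE'sq hE'card
      omega
    -- a four-group inside `E`
    classical
    haveI := Fintype.ofFinite G
    have h4 : 2 < (Finset.univ.filter (· ∈ E)).card := by
      rw [← Fintype.card_subtype, ← Nat.card_eq_fintype_card, hEcard, pow_succ, pow_succ]
      have := Nat.one_le_two_pow (n := r)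
      omega
    obtain ⟨s, hs, hs1⟩ := Finset.exists_mem_ne (show 1 < (Finset.univ.filter (· ∈ E)).card by omega) 1
    obtain ⟨t, ht, htne⟩ := Finset.exists_mem_notMem_of_card_lt_card
      (show ({1, s} : Finset G).card < (Finset.univ.filter (· ∈ E)).card from Finset.card_le_two.trans_lt h4)
    simp only [Finset.mem_filter, Finset.mem_univ, true_and] at hs ht
    simp only [Finset.mem_insert, Finset.mem_singleton, not_or] at htne
    have hst1 : s * t ≠ 1 := fun e => htne.2 (mul_left_cancel (e.trans (hEsq s hs).symm))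
    refine (hF G ha s t (hEsq s hs) (hEsq t ht) (congrArg Subtype.val (hEc.is_comm.comm ⟨s, hs⟩ ⟨t, ht⟩))
      hs1 htne.1 hst1 (hcent s hs hs1) (hcent t ht htne.1) (hcent _ (mul_mem hs ht) hst1)).trans
      (Nat.le_add_left _ _)

end Cfsg.Agent.H24.FewBlocks
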