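import Mathlib.GroupTheory.Complement
import Mathlib.GroupTheory.GroupAction.Quotient
import Mathlib.GroupTheory.OrderOfElement
import Mathlib.Algebra.Group.Subgroup.Pointwise
import Mathlib.Tactic.Group

set_option autoImplicit false

namespace Cfsg.Agent.H24.Gaschuetz

open Subgroup
open scoped Pointwise

variable {G : Type*} [Group G] (K U A : Subgroup G)

/-- The hypotheses: `A` complements the abelian normal subgroup `K` inside `U`. -/
structure Setup : Prop where
  normal : K.Normal
  comm : IsMulCommutative K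
  KU : K ≤ U
  AU : A ≤ U
  inf : A ⊓ K = ⊥
  sup : K ⊔ A = U

variable {K U A} (S : Setup K U A)
include S

/-- The projection of cosets of `A` onto cosets of `U`. -/
def proj (S : Setup K U A) : G ⧸ A → G ⧸ U := quotientMapOfLE S.AU

/-- Sections of the projection. -/
abbrev Sec : Type _ := {s : G ⧸ U → G ⧸ A // ∀ q, proj S (s q) = q}

theorem proj_smul (g : G) (x : G ⧸ A) : proj S (g • x) = g • proj S x := by
  induction x using QuotientGroup.induction_on with | H a => ?_
  rfl

theorem smul_fixed {k : G} (hk : k ∈ K) (q : G ⧸ U) : k • q = q := by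
  induction q using QuotientGroup.induction_on with | H a => ?_
  refine (QuotientGroup.eq.2 ?_ : ((k * a : G) : G ⧸ U) = (a : G ⧸ U))
  have : a⁻¹ * k⁻¹ * a ∈ K := by simpa using S.normal.conj_mem _ (inv_mem hk) a⁻¹
  simpa [mul_assoc] using S.KU this

theorem existsUnique_smul {x y : G ⧸ A} (h : proj S x = proj S y) :
    ∃! k : K, (k : G) • y = x := by
  induction x using QuotientGroup.induction_on with | H g => ?_
  induction y using QuotientGroup.induction_on with | H g' => ?_
  have hu : g'⁻¹ * g ∈ U := QuotientGroup.eq.1 (h.symm : (g' : G ⧸ U) = (g : G ⧸ U))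
  rw [← S.sup] at hu
  obtain ⟨k, hk, a, ha, he⟩ := (mem_sup_of_normal_left (hs := S.normal)).1 hu
  refine ⟨⟨g' * k * g'⁻¹, S.normal.conj_mem k hk g'⟩, ?_, ?_⟩
  · refine QuotientGroup.eq.2 ?_
    have : (g' * k * g'⁻¹ * g')⁻¹ * g = a := by
      rw [show g = g' * (g'⁻¹ * g) by group, ← he]; group
    show (g' * k * g'⁻¹ * g')⁻¹ * g ∈ A
    rw [this]; exact ha
  · rintro ⟨l, hl⟩ hle
    have h1 : (l * g')⁻¹ * g ∈ A := QuotientGroup.eq.1 (hle : ((l * g' : G) : G ⧸ A) = (g : G ⧸ A))
    have h2 : (g'⁻¹ * l⁻¹ * g') * k ∈ A := by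
      have := mul_mem h1 (inv_mem ha)
      rw [show g = g' * (g'⁻¹ * g) by group, ← he] at this
      simpa [mul_assoc] using this
    have h3 : (g'⁻¹ * l⁻¹ * g') * k ∈ K := by
      refine mul_mem ?_ hk
      simpa using S.normal.conj_mem _ (inv_mem hl) g'⁻¹
    have h4 : (g'⁻¹ * l⁻¹ * g') * k = 1 := mem_bot.1 (S.inf ▸ mem_inf.2 ⟨h2, h3⟩)
    apply Subtype.ext
    calc l = g' * (g'⁻¹ * l⁻¹ * g')⁻¹ * g'⁻¹ := by group
      _ = g' * k * g'⁻¹ := by rw [eq_inv_of_mul_eq_one_left h4, inv_inv]

/-- The element of `K` carrying `y` to `x`, two cosets in one fibre. -/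
noncomputable def kdiff (S : Setup K U A) (x y : G ⧸ A) : K :=
  Classical.epsilon fun k : K => (k : G) • y = x

theorem kdiff_smul {x y : G ⧸ A} (h : proj S x = proj S y) : (kdiff S x y : G) • y = x :=
  Classical.epsilon_spec (p := fun k : K => (k : G) • y = x) (existsUnique_smul S h).exists

theorem eq_kdiff {x y : G ⧸ A} (h : proj S x = proj S y) {k : K} (hk : (k : G) • y = x) :
    k = kdiff S x y :=
  (existsUnique_smul S h).unique hk (kdiff_smul S h)

variable [Finite G]

open scoped IsMulCommutative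

/-- The difference of two sections. -/
noncomputable def sdiff (S : Setup K U A) (s t : Sec S) : K :=
  have := S.comm
  have := Fintype.ofFinite (G ⧸ U)
  ∏ q : G ⧸ U, kdiff S (s.1 q) (t.1 q)

theorem fibre (s t : Sec S) (q : G ⧸ U) : proj S (s.1 q) = proj S (t.1 q) := (s.2 q).trans (t.2 q).symm

theorem sdiff_mul (s t u : Sec S) : sdiff S s t * sdiff S t u = sdiff S s u := by
  have := S.comm
  let := Fintype.ofFinite (G ⧸ U)
  simp only [sdiff]
  rw [← Finset.prod_mul_distrib]
  refine Finset.prod_congr rfl fun q _ => eq_kdiff S (fibre S s u q) ?_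
  rw [coe_mul, mul_smul, kdiff_smul S (fibre S t u q), kdiff_smul S (fibre S s t q)]

theorem sdiff_self (s : Sec S) : sdiff S s s = 1 :=
  mul_eq_left.1 (sdiff_mul S s s s)

theorem sdiff_inv (s t : Sec S) : (sdiff S s t)⁻¹ = sdiff S t s :=
  inv_eq_of_mul_eq_one_right (by rw [sdiff_mul, sdiff_self])

/-- The action of `G` on sections. -/
def move (S : Setup K U A) (g : G) (s : Sec S) : Sec S :=
  ⟨fun q => g • s.1 (g⁻¹ • q), fun q => by rw [proj_smul, s.2, smul_inv_smul]⟩

instance : MulAction G (Sec S) where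
  smul := move S
  one_smul s := Subtype.ext (funext fun q => show (1 : G) • s.1 ((1 : G)⁻¹ • q) = s.1 q by simp)
  mul_smul g h s := Subtype.ext (funext fun q =>
    show (g * h) • s.1 ((g * h)⁻¹ • q) = g • h • s.1 (h⁻¹ • g⁻¹ • q) by
      rw [mul_inv_rev, mul_smul, mul_smul])

theorem smul_apply (g : G) (s : Sec S) (q : G ⧸ U) : (g • s).1 q = g • s.1 (g⁻¹ • q) := rfl

theorem sdiff_smul (g : G) (s t : Sec S) :
    (sdiff S (g • s) (g • t) : G) = g * (sdiff S s t : G) * g⁻¹ := by
  have := S.comm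
  have := S.normal
  let := Fintype.ofFinite (G ⧸ U)
  let c : K →* K := (MulAut.conjNormal (H := K) g).toMonoidHom
  have h : sdiff S (g • s) (g • t) = c (sdiff S s t) := by
    simp only [sdiff]
    rw [map_prod]
    refine Fintype.prod_equiv (MulAction.toPerm g).symm _ _ fun q => ?_
    simp only [MulAction.toPerm_symm_apply]
    refine (eq_kdiff S (fibre S (g • s) (g • t) q) ?_).symm
    rw [smul_apply, smul_apply, ← mul_smul,
      show ((c (kdiff S (s.1 (g⁻¹ • q)) (t.1 (g⁻¹ • q))) : K) : G) * g =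
          g * (kdiff S (s.1 (g⁻¹ • q)) (t.1 (g⁻¹ • q)) : G) by
        show g * _ * g⁻¹ * g = _
        group,
      mul_smul, kdiff_smul S (fibre S s t _)]
  rw [h]; rfl

theorem sdiff_smul_left {k : G} (hk : k ∈ K) (s t : Sec S) :
    sdiff S (k • s) t = (⟨k, hk⟩ : K) ^ U.index * sdiff S s t := by
  have := S.comm
  let := Fintype.ofFinite (G ⧸ U)
  simp only [sdiff]
  rw [index_eq_card, Nat.card_eq_fintype_card, ← Finset.card_univ, ← Finset.prod_const,
    ← Finset.prod_mul_distrib]
  refine Finset.prod_congr rfl fun q _ => (eq_kdiff S (fibre S (k • s) t q) ?_).symm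
  rw [coe_mul, mul_smul, kdiff_smul S (fibre S s t q), smul_apply, smul_fixed S (inv_mem hk) q]

/-- Two sections are equivalent when their difference is trivial. -/
instance setoid : Setoid (Sec S) where
  r s t := sdiff S s t = 1
  iseqv :=
    ⟨sdiff_self S, fun {s t} h => by rw [← sdiff_inv, h, inv_one],
      fun {s t u} h h' => by rw [← sdiff_mul, h, h', one_mul]⟩

/-- Classes of sections. -/
abbrev Cls (S : Setup K U A) : Type _ := Quotient (setoid S)

instance : MulAction G (Cls S) where
  smul g := Quotient.map (g • ·) fun s t (h : sdiff S s t = 1) =>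
    show sdiff S (g • s) (g • t) = 1 from Subtype.ext (by rw [sdiff_smul, h]; simp)
  one_smul c := Quotient.inductionOn c fun s => congrArg (Quotient.mk _) (one_smul G s)
  mul_smul g h c := Quotient.inductionOn c fun s => congrArg (Quotient.mk _) (mul_smul g h s)

theorem exists_smul (hcop : (Nat.card K).Coprime U.index) (c d : Cls S) :
    ∃ k : K, (k : G) • c = d := by
  induction c using Quotient.inductionOn with | h s => ?_
  induction d using Quotient.inductionOn with | h t => ?_
  obtain ⟨k, hk⟩ := (powCoprime hcop).surjective (sdiff S s t)⁻¹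
  refine ⟨k, Quotient.sound ?_⟩
  show sdiff S ((k : G) • s) t = 1
  rw [sdiff_smul_left S k.2]
  rw [powCoprime_apply] at hk
  rw [hk, inv_mul_cancel]

theorem eq_one_of_fixed (hcop : (Nat.card K).Coprime U.index) (c : Cls S) (k : K)
    (h : (k : G) • c = c) : k = 1 := by
  induction c using Quotient.inductionOn with | h s => ?_
  have h' : sdiff S ((k : G) • s) s = 1 := Quotient.exact h
  rw [sdiff_smul_left S k.2, sdiff_self, mul_one] at h'
  apply (powCoprime hcop).injective
  rw [powCoprime_apply, powCoprime_apply, one_pow]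
  exact h'

theorem isComplement'_stabilizer_cls (hcop : (Nat.card K).Coprime U.index) (c : Cls S) :
    IsComplement' K (MulAction.stabilizer G c) :=
  isComplement'_stabilizer c (fun k h => eq_one_of_fixed S hcop c k h)
    fun g => exists_smul S hcop (g • c) c

theorem exists_complement (hcop : (Nat.card K).Coprime U.index) :
    ∃ H : Subgroup G, IsComplement' K H := by
  have hsurj : ∀ q : G ⧸ U, ∃ x, proj S x = q := fun q => by
    induction q using QuotientGroup.induction_on with | H g => ?_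
    exact ⟨(g : G ⧸ A), rfl⟩
  exact ⟨_, isComplement'_stabilizer_cls S hcop
    (Quotient.mk _ ⟨fun q => (hsurj q).choose, fun q => (hsurj q).choose_spec⟩)⟩

/-- A complement `H` of `K` with `H ⊓ U = A` is the stabiliser of some class. -/
theorem exists_eq_stabilizer (hcop : (Nat.card K).Coprime U.index) {H : Subgroup G}
    (hH : IsComplement' K H) (hHA : H ⊓ U = A) :
    ∃ c : Cls S, H = MulAction.stabilizer G c := by
  have hex : ∀ q : G ⧸ U, ∃ h : G, h ∈ H ∧ (h : G ⧸ U) = q := fun q => by
    induction q using QuotientGroup.induction_on with | H g => ?_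
    obtain ⟨⟨⟨k, hk⟩, ⟨h, hh⟩⟩, rfl⟩ := hH.2 g
    refine ⟨h, hh, QuotientGroup.eq.2 ?_⟩
    have : h⁻¹ * k * h ∈ K := by simpa using S.normal.conj_mem _ hk h⁻¹
    simpa [mul_assoc] using S.KU this
  let s : Sec S := ⟨fun q => ((hex q).choose : G ⧸ A), fun q => (hex q).choose_spec.2⟩
  refine ⟨Quotient.mk _ s, ?_⟩
  refine eq_of_le_of_card_ge (fun h hh => ?_) ?_
  · rw [MulAction.mem_stabilizer_iff]
    refine congrArg (Quotient.mk _) (Subtype.ext (funext fun q => ?_))
    rw [smul_apply]
    obtain ⟨h1, h2⟩ := (hex (h⁻¹ • q)).choose_spec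
    obtain ⟨h3, h4⟩ := (hex q).choose_spec
    refine QuotientGroup.eq.2 ?_
    rw [← hHA]
    show (h * (hex (h⁻¹ • q)).choose)⁻¹ * (hex q).choose ∈ H ⊓ U
    refine mem_inf.2 ⟨mul_mem (inv_mem (mul_mem hh h1)) h3, QuotientGroup.eq.1 ?_⟩
    rw [h4]
    show h • ((hex (h⁻¹ • q)).choose : G ⧸ U) = q
    rw [h2, smul_inv_smul]
  · exact (hH.symm.index_eq_card ▸ (isComplement'_stabilizer_cls S hcop _).symm.index_eq_card ▸ rfl :
      Nat.card (MulAction.stabilizer G (Quotient.mk (setoid S) s : Cls S)) = Nat.card H).le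

theorem exists_conj (hcop : (Nat.card K).Coprime U.index) {H H' : Subgroup G}
    (hH : IsComplement' K H) (hH' : IsComplement' K H') (hHA : H ⊓ U = A) (hHA' : H' ⊓ U = A) :
    ∃ g ∈ K, MulAut.conj g • H = H' := by
  obtain ⟨c, rfl⟩ := exists_eq_stabilizer S hcop hH hHA
  obtain ⟨d, rfl⟩ := exists_eq_stabilizer S hcop hH' hHA'
  obtain ⟨k, hk⟩ := exists_smul S hcop c d
  refine ⟨k, k.2, ?_⟩
  rw [← hk, MulAction.stabilizer_smul_eq_stabilizer_map_conj]
  rfl

end Cfsg.Agent.H24.Gaschuetz
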