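import Cfsg.Agent.BlockBasic.StabilizerDefect
import Cfsg.Agent.BlockBasic.PSection
import Cfsg.Agent.CharBasic.Integral
import Cfsg.Agent.CharInduce.Ops

/-!
# A height zero character fixed by a `p`-group stabilising the block
-/

set_option autoImplicit false

open scoped ComplexConjugate

namespace Cfsg.Agent.H24.HeightZeroStable

open BlockBasic CharBasic MonoidAlgebra

universe u

variable {G : Type u} [Group G] {p : ℕ} [hp : Fact p.Prime] {M : Ideal AlgInt}

open scoped Classical in
/-- `(1/|C(g)|) ∑ χ((u g)⁻¹)` over the `p`-elements `u` of `C(g)`. -/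
noncomputable def secAvg [Fintype G] (p : ℕ) (g : G) (χ : G → ℂ) : ℂ :=
  (Nat.card (Subgroup.centralizer ({g} : Set G)) : ℂ)⁻¹ *
    ∑ u : Subgroup.centralizer ({g} : Set G),
      if ∃ k, orderOf (u : G) = p ^ k then χ (((u : G) * g)⁻¹) else 0

omit hp in
theorem memLocalRing_central_scalar [Finite G] (hM : IsPModular p M) {n : ℕ}
    (ρ : Representation ℂ G (Fin n → ℂ)) [ρ.IsIrreducible] {z : G} (hz : z ∈ Subgroup.center G) :
    ∃ ω : ℂ, MemLocalRing M ω ∧ ∀ g, ρ.character (g * z) = ω * ρ.character g := by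
  obtain ⟨ω, hω, -, h⟩ := exists_central_scalar ρ hz
  refine ⟨ω, memLocalRing_of_isIntegral hM ?_, h⟩
  haveI : Nontrivial (Fin n → ℂ) := nontrivial_of_isIrreducible ρ
  obtain ⟨v, hv⟩ := exists_ne (0 : Fin n → ℂ)
  have hpow : ∀ m : ℕ, (ρ (z ^ m)) v = ω ^ m • v := by
    intro m
    induction m with
    | zero => simp
    | succ m ih => rw [pow_succ, map_mul, Module.End.mul_apply, hω, LinearMap.smul_apply,
        LinearMap.id_apply, map_smul, ih, smul_smul, pow_succ']
  have h1 : ω ^ orderOf z = 1 := by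
    have h := hpow (orderOf z)
    rw [pow_orderOf_eq_one, map_one, Module.End.one_apply] at h
    exact smul_left_injective ℂ hv (h.symm.trans (one_smul ℂ v).symm)
  exact IsIntegral.of_pow (orderOf_pos z) (h1 ▸ isIntegral_one)

theorem memLocalRing_secAvg [Fintype G] (hM : IsPModular p M) (g : G) (χ : IrrCharacter G) :
    MemLocalRing M (secAvg p g (χ : G → ℂ)) := by
  classical
  set C := Subgroup.centralizer ({g} : Set G)
  have hgC : g ∈ C := Subgroup.mem_centralizer_singleton_iff.2 rfl
  have hcen : (⟨g⁻¹, inv_mem hgC⟩ : C) ∈ Subgroup.center C :=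
    Subgroup.mem_center_iff.2 fun c => Subtype.ext
      ((show Commute (c : G) g from Subgroup.mem_centralizer_singleton_iff.1 c.2).inv_right).eq
  set f : C → ℂ := fun u => (χ : G → ℂ) u
  have hf : IsCharacter C f := CharInduce.IsChar.res (IsIrr.isCharacter χ.2) C
  have hexp : ∀ u : C, f u = ∑ η : IrrCharacter C, classInner f (η : C → ℂ) * (η : C → ℂ) u :=
    fun u => by
      conv_lhs => rw [classFunction_expansion (IsChar.isClassFunction hf)]
      simp only [Finset.sum_apply, Pi.smul_apply, smul_eq_mul]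
  have hrw : secAvg p g (χ : G → ℂ) = ∑ η : IrrCharacter C, classInner f (η : C → ℂ) *
      ((Nat.card C : ℂ)⁻¹ * ∑ u : C, if ∃ k, orderOf (u : G) = p ^ k then
        (η : C → ℂ) (u⁻¹ * ⟨g⁻¹, inv_mem hgC⟩) else 0) := by
    simp only [secAvg, Finset.mul_sum]
    rw [Finset.sum_comm]
    refine Finset.sum_congr rfl fun u _ => ?_
    have he : ((u : G) * g)⁻¹ = ((u⁻¹ * ⟨g⁻¹, inv_mem hgC⟩ : C) : G) := by
      rw [mul_inv_rev, Subgroup.coe_mul, Subgroup.coe_inv]
      exact (show Commute (u : G) g from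
        Subgroup.mem_centralizer_singleton_iff.1 u.2).symm.inv_inv.eq
    split_ifs with hu
    · rw [he]
      show _ * f _ = _
      rw [hexp, Finset.mul_sum]
      exact Finset.sum_congr rfl fun η _ => by ring
    · simp
  rw [hrw]
  refine (locRing hM).sum_mem fun η _ => ?_
  obtain ⟨m, hm⟩ := classInner_isChar_nat hf (IsIrr.isCharacter η.2)
  rw [hm]
  refine memLocalRing_mul hM (memLocalRing_natCast hM m) ?_
  obtain ⟨n, ρ, hρ, hη⟩ := η.2
  haveI := hρ
  obtain ⟨ω, hω, h⟩ := memLocalRing_central_scalar hM ρ hcen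
  simp only [← hη, h, ← mul_ite_zero, ← Finset.mul_sum, mul_left_comm _ ω]
  refine memLocalRing_mul hM hω ?_
  have h' := memLocalRing_sum_pElements hM (G := C) (isCharacter_character ρ)
  rw [Finset.sum_filter] at h'
  convert h' using 2
  refine Fintype.sum_equiv (Equiv.inv C) _ _ fun u => ?_
  simp only [Equiv.inv_apply, orderOf_inv, Subgroup.orderOf_coe]

/-- Characters conjugate by an element fixing the class of `g` have the same average. -/
theorem secAvg_comp [Fintype G] (e : G ≃* G) {g : G} (hg : IsConj g (e g)) {χ : G → ℂ}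
    (hχ : IsClassFunction G χ) : secAvg p g (fun x => χ (e x)) = secAvg p g χ := by
  classical
  obtain ⟨c, hc⟩ := isConj_iff.1 hg
  simp only [secAvg]
  congr 1
  let φ : G ≃* G := e.trans (MulAut.conj c⁻¹)
  have hφg : φ g = g := by simp [φ, ← hc, mul_assoc]
  have hφmem : ∀ u : G, u ∈ Subgroup.centralizer ({g} : Set G) ↔
      φ u ∈ Subgroup.centralizer ({g} : Set G) := by
    intro u
    simp only [Subgroup.mem_centralizer_singleton_iff]
    conv_rhs => rw [← hφg, ← map_mul, ← map_mul]
    exact φ.injective.eq_iff.symm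
  refine Fintype.sum_equiv (φ.toEquiv.subtypeEquiv hφmem) _ _ fun u => ?_
  simp only [Equiv.subtypeEquiv_apply, MulEquiv.toEquiv_eq_coe, EquivLike.coe_coe,
    MulEquiv.orderOf_eq φ (u : G)]
  split_ifs
  · have h1 : e (((u : G) * g)⁻¹) = c * ((φ u) * g)⁻¹ * c⁻¹ := by
      have h3 : φ (u : G) * g = φ ((u : G) * g) := by rw [map_mul, hφg]
      rw [h3, ← map_inv]
      simp [φ, mul_assoc]
    rw [h1, hχ]
  · rfl

variable [Fintype G] {N : Subgroup G} [hN : N.Normal] [Fintype N]

omit hp in
/-- A `p`-group stabilising a block fixes a defect class modulo conjugation. -/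
theorem exists_fixed_defectClass [Fact p.Prime] (hM : IsPModular p M) {b : Set (IrrCharacter N)}
    (hb : IsPBlock M b) {S : Subgroup G} (hS : IsPGroup p S)
    (hst : ∀ s ∈ S, ∀ θ ∈ b, H80.conjTwist N θ s ∈ b) :
    ∃ g : N, IsDefectClass M b g ∧ ∀ s ∈ S, IsConj g (MulAut.conjNormal s g) := by
  classical
  haveI : Finite (ConjClasses N) := Finite.of_surjective _ ConjClasses.mk_surjective
  haveI : Fintype (ConjClasses N) := Fintype.ofFinite _
  obtain ⟨θ, hθ⟩ := isPBlock_nonempty hM hb
  letI : MulAction S (ConjClasses N) :=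
    { smul := fun s C => ConjClasses.map (MulAut.conjNormal (s : G) : N ≃* N).toMonoidHom C
      one_smul := fun C => by
        induction C using Quotient.inductionOn with
        | h x => exact congrArg ConjClasses.mk (by simp)
      mul_smul := fun s t C => by
        induction C using Quotient.inductionOn with
        | h x => exact congrArg ConjClasses.mk (by simp [map_mul, MulAut.mul_apply]) }
  set F : ConjClasses N → ℂ := fun C => blockCoeff b C.out * centralChar (θ : N → ℂ) C.out
  have hcls : IsClassFunction N (fun n => blockCoeff b n * centralChar (θ : N → ℂ) n) := by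
    intro x c
    show _ * _ = _ * _
    rw [isClassFunction_blockCoeff b x c,
      H35.centralChar_eq_of_isConj θ (isConj_iff.2 ⟨c, rfl⟩ : IsConj x (c * x * c⁻¹))]
  have hFeq : ∀ (C : ConjClasses N) (x : N), ConjClasses.mk x = C →
      F C = blockCoeff b x * centralChar (θ : N → ℂ) x := by
    intro C x hx
    obtain ⟨c, hc⟩ := isConj_iff.1 (ConjClasses.mk_eq_mk_iff_isConj.1
      (hx.trans (Quotient.out_eq C).symm))
    show blockCoeff b C.out * centralChar (θ : N → ℂ) C.out = _
    rw [← hc]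
    exact hcls x c
  have hF : ∀ C, MemLocalRing M (F C) := fun C =>
    memLocalRing_mul hM (memLocalRing_blockCoeff hM hb _) (memLocalRing_centralChar hM θ.2 _)
  have hinv : ∀ (s : S) (C : ConjClasses N), MemLocalIdeal M (F (s • C) - F C) := by
    intro s C
    obtain ⟨x, rfl⟩ := ConjClasses.mk_surjective C
    rw [hFeq (s • ConjClasses.mk x) (MulAut.conjNormal (s : G) x) rfl, hFeq _ x rfl,
      ← blockCoeff_conjNormal N (A := b) (A' := b) (s : G) (fun φ => ⟨fun h => ?_, hst s s.2 φ⟩) x,
      ← centralChar_twist, ← mul_sub]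
    · exact memLocalIdeal_mul hM (memLocalRing_blockCoeff hM hb x)
        (isPBlock_sameBlock hM hb (hst s s.2 θ hθ) hθ x)
    · simpa [conjTwist_conjTwist, conjTwist_one] using hst _ (inv_mem s.2) _ h
  have hsum : ∑ C : ConjClasses N, F C = 1 := by
    have h := omega_blockElem b θ
    rw [if_pos hθ, omega_eq_sum_classes (IsIrr.isClassFunction θ.2) (isCentralElt_blockElem b)] at h
    simpa [F, coeff_blockElem] using h
  have key := sum_sub_fixed_mem_congr hM hS F hF hinv
  obtain ⟨C, hC, hCu⟩ : ∃ C, C ∈ MulAction.fixedPoints S (ConjClasses N) ∧ ¬ MemLocalIdeal M (F C) := by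
    by_contra hc
    push Not at hc
    apply not_memLocalIdeal_one hM
    rw [← hsum]
    have := memLocalIdeal_add hM key (memLocalIdeal_sum hM
      (Finset.univ.filter fun C => C ∈ MulAction.fixedPoints S (ConjClasses N)) F
      fun C hC => hc C (Finset.mem_filter.1 hC).2)
    simpa using this
  rw [memLocalIdeal_mul_iff hM (memLocalRing_blockCoeff hM hb _) (memLocalRing_centralChar hM θ.2 _),
    not_or] at hCu
  refine ⟨C.out, ⟨memLocalRing_blockCoeff hM hb _, hCu.1, fun φ hφ h => hCu.2 ?_⟩, fun s hs => ?_⟩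
  · simpa using memLocalIdeal_sub hM h (isPBlock_sameBlock hM hb hφ hθ C.out)
  · have h := hC ⟨s, hs⟩
    conv at h => rhs; rw [show C = ConjClasses.mk C.out from (Quotient.out_eq C).symm]
    conv at h => lhs; rw [show C = ConjClasses.mk C.out from (Quotient.out_eq C).symm]
    exact ConjClasses.mk_eq_mk_iff_isConj.1 h.symm

/-- A block has a height zero character fixed by a `p`-group stabilising it. -/
theorem exists_fixed_height_zero (hM : IsPModular p M) {b : Set (IrrCharacter N)}
    (hb : IsPBlock M b) {S : Subgroup G} (hS : IsPGroup p S)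
    (hst : ∀ s ∈ S, ∀ θ ∈ b, H80.conjTwist N θ s ∈ b) :
    ∃ θ ∈ b, blockHeight p b (θ : N → ℂ) = 0 ∧ ∀ s ∈ S, H80.conjTwist N θ s = θ := by
  classical
  obtain ⟨g, hg, hfix⟩ := exists_fixed_defectClass hM hb hS hst
  set c := sInf ((fun χ : IrrCharacter N => (charDegree (χ : N → ℂ)).factorization p) '' b) with hc
  letI : MulAction S ↥b :=
    { smul := fun s θ => ⟨H80.conjTwist N θ.1 (s : G)⁻¹, hst _ (inv_mem s.2) _ θ.2⟩
      one_smul := fun θ => Subtype.ext (by
        show H80.conjTwist N θ.1 ((1 : S) : G)⁻¹ = θ.1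
        rw [Subgroup.coe_one, inv_one, conjTwist_one])
      mul_smul := fun s t θ => Subtype.ext (by
        show H80.conjTwist N θ.1 ((s * t : S) : G)⁻¹ =
          H80.conjTwist N (H80.conjTwist N θ.1 (t : G)⁻¹) (s : G)⁻¹
        rw [conjTwist_conjTwist, Subgroup.coe_mul, mul_inv_rev]) }
  haveI : Fintype ↥b := Fintype.ofFinite _
  have hpc : ∀ θ : ↥b, p ^ c ∣ charDegree (θ.1 : N → ℂ) := fun θ =>
    (hp.out.pow_dvd_iff_le_factorization (charDegree_pos θ.1).ne').2 (Nat.sInf_le ⟨θ.1, θ.2, rfl⟩)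
  set F : ↥b → ℂ := fun θ =>
    ((charDegree (θ.1 : N → ℂ) / p ^ c : ℕ) : ℂ) * secAvg p g (θ.1 : N → ℂ)
  have hF : ∀ θ, MemLocalRing M (F θ) := fun θ =>
    memLocalRing_mul hM (memLocalRing_natCast hM _) (memLocalRing_secAvg hM g θ.1)
  have hinv : ∀ (s : S) (θ : ↥b), F (s • θ) = F θ := by
    intro s θ
    show ((charDegree (fun n => (θ.1 : N → ℂ) (MulAut.conjNormal (s : G)⁻¹ n)) / p ^ c : ℕ) : ℂ) *
      secAvg p g (fun n => (θ.1 : N → ℂ) (MulAut.conjNormal (s : G)⁻¹ n)) = _
    rw [secAvg_comp _ (hfix _ (inv_mem s.2)) (IsIrr.isClassFunction θ.1.2)]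
    simp [F, charDegree]
  have key := sum_sub_fixed_mem_congr hM hS F hF fun s θ => by
    rw [hinv, sub_self]; exact memLocalIdeal_zero hM
  -- the total is a unit
  have htot : ((p ^ c : ℕ) : ℂ) * ∑ θ : ↥b, F θ =
      ((Subgroup.centralizer ({g} : Set N)).index : ℂ) * blockCoeff b g := by
    have hreg := H35.not_dvd_orderOf_of_isDefectClass hM hb hg
    set C := Subgroup.centralizer ({g} : Set N)
    have h1 : ((p ^ c : ℕ) : ℂ) * ∑ θ : ↥b, F θ =
        ∑ θ : IrrCharacter N, if θ ∈ b then (θ : N → ℂ) 1 * secAvg p g (θ : N → ℂ) else 0 := by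
      rw [Finset.mul_sum, ← Finset.sum_filter, Finset.sum_subtype (p := (· ∈ b)) _ (by simp)]
      refine Finset.sum_congr rfl fun θ _ => ?_
      simp only [F]
      rw [← mul_assoc, ← Nat.cast_mul, Nat.mul_div_cancel' (hpc θ), ← apply_one_eq_charDegree]
    rw [h1]
    have h2 : ∀ u : C, (∑ θ : IrrCharacter N, if θ ∈ b then (θ : N → ℂ) 1 * (θ : N → ℂ) ((u : N) * g)⁻¹
        else 0) = (Nat.card N : ℂ) * blockCoeff b ((u : N) * g) := by
      intro u
      rw [blockCoeff, ← mul_assoc, mul_inv_cancel₀ (Nat.cast_ne_zero.2 Nat.card_pos.ne'), one_mul,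
        finsum_mem_eq_sum_ite]
      simp only [conj_apply_eq_inv]
    calc (∑ θ : IrrCharacter N, if θ ∈ b then (θ : N → ℂ) 1 * secAvg p g (θ : N → ℂ) else 0)
        = (Nat.card C : ℂ)⁻¹ * ∑ u : C, (if ∃ k, orderOf (u : N) = p ^ k then
            (Nat.card N : ℂ) * blockCoeff b ((u : N) * g) else 0) := by
          simp only [secAvg, Finset.mul_sum, ← h2]
          rw [show (∑ θ : IrrCharacter N, if θ ∈ b then ∑ u : C, (θ : N → ℂ) 1 *
            ((Nat.card C : ℂ)⁻¹ * if ∃ k, orderOf (u : N) = p ^ k then (θ : N → ℂ) ((u : N) * g)⁻¹ else 0)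
            else 0) = ∑ θ : IrrCharacter N, ∑ u : C, if θ ∈ b then (θ : N → ℂ) 1 *
            ((Nat.card C : ℂ)⁻¹ * if ∃ k, orderOf (u : N) = p ^ k then (θ : N → ℂ) ((u : N) * g)⁻¹ else 0)
            else 0 from Finset.sum_congr rfl fun θ _ => by split_ifs <;> simp, Finset.sum_comm]
          refine Finset.sum_congr rfl fun u _ => ?_
          split_ifs with hu
          · rw [Finset.mul_sum]
            exact Finset.sum_congr rfl fun θ _ => by split_ifs <;> ring
          · simp
      _ = _ := by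
          rw [Finset.sum_eq_single (1 : C) (fun u _ hu => ?_) (fun h => absurd (Finset.mem_univ _) h)]
          · rw [if_pos ⟨0, by simp⟩, Subgroup.coe_one, one_mul, ← C.index_mul_card, Nat.cast_mul]
            field_simp [Nat.cast_ne_zero.2 (Nat.card_pos (α := C)).ne']
          · split_ifs with hk
            · rw [blockCoeff_eq_zero_of_singular hM hb, mul_zero]
              obtain ⟨k, hk⟩ := hk
              have hco : Commute (u : N) g := Subgroup.mem_centralizer_singleton_iff.1 u.2
              rcases k with _ | k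
              · exact absurd (Subtype.ext (orderOf_eq_one_iff.1 (by simpa using hk))) hu
              rw [hco.orderOf_mul_eq_mul_orderOf_of_coprime, hk]
              · exact dvd_mul_of_dvd_left (dvd_pow_self p k.succ_ne_zero) _
              · rw [hk]
                exact (hp.out.coprime_iff_not_dvd.2 hreg).pow_left _
            · rfl
  have hunit : ¬ MemLocalIdeal M (∑ θ : ↥b, F θ) := by
    intro h
    set i := (Subgroup.centralizer ({g} : Set N)).index
    have hic : i.factorization p = c := (H35.sInf_degree_eq hM hb hg).symm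
    have hi : ¬ p ∣ i / p ^ c := by
      rw [← hic]; exact Nat.not_dvd_ordCompl hp.out Subgroup.index_ne_zero_of_finite
    have he : ∑ θ : ↥b, F θ = ((i / p ^ c : ℕ) : ℂ) * blockCoeff b g := by
      apply mul_left_cancel₀ (Nat.cast_ne_zero.2 (pow_ne_zero c hp.out.ne_zero) : ((p ^ c : ℕ) : ℂ) ≠ 0)
      rw [htot, ← mul_assoc, ← Nat.cast_mul]
      congr 2
      rw [← hic, Nat.ordProj_mul_ordCompl_eq_self]
    rw [he, memLocalIdeal_mul_iff hM (memLocalRing_natCast hM _) hg.1,
      memLocalIdeal_natCast_iff hM] at h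
    exact h.elim hi hg.2.1
  obtain ⟨θ, hθfix, hθu⟩ : ∃ θ : ↥b, θ ∈ MulAction.fixedPoints S ↥b ∧ ¬ MemLocalIdeal M (F θ) := by
    by_contra hc'
    push Not at hc'
    apply hunit
    have := memLocalIdeal_add hM key (memLocalIdeal_sum hM
      (Finset.univ.filter fun θ => θ ∈ MulAction.fixedPoints S ↥b) F
      fun θ hθ => hc' θ (Finset.mem_filter.1 hθ).2)
    simpa using this
  refine ⟨θ.1, θ.2, ?_, fun s hs => ?_⟩
  · show (charDegree (θ.1 : N → ℂ)).factorization p - c = 0
    by_contra hne
    apply hθu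
    show MemLocalIdeal M (_ * _)
    rw [mul_comm]
    refine memLocalIdeal_mul hM (memLocalRing_secAvg hM g θ.1) ((memLocalIdeal_natCast_iff hM _).2 ?_)
    rw [Nat.dvd_div_iff_mul_dvd (hpc θ), ← pow_succ,
      hp.out.pow_dvd_iff_le_factorization (charDegree_pos θ.1).ne']
    omega
  · have h := congrArg Subtype.val (hθfix ⟨s⁻¹, inv_mem hs⟩)
    change H80.conjTwist N θ.1 (s⁻¹)⁻¹ = θ.1 at h
    rwa [inv_inv] at h

end Cfsg.Agent.H24.HeightZeroStable
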