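import Cfsg.Agent.S4655
import Cfsg.Agent.S4657
import Cfsg.Agent.S4659
import Cfsg.Agent.H82.PairConjugacy
import Cfsg.Agent.H35.BrauerHom
import Cfsg.Agent.H35.Consequences
import Cfsg.Agent.BlockBasic.Brauer

/-!
# Block induction from a subgroup containing the centraliser of a defect group
-/

set_option autoImplicit false

namespace Cfsg.Agent.H24.InductionDefect

open BlockBasic CharBasic MonoidAlgebra

universe u

variable {G : Type u} [Group G] [Fintype G] {p : ℕ} [hp : Fact p.Prime] {M : Ideal AlgInt}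
  {H : Subgroup G} {b : Set (IrrCharacter H)}

omit [Fintype G] hp in
theorem map_subgroupOf_centralizer {D₀ : Subgroup H} {a : H} :
    D₀ ≤ Subgroup.centralizer ({a} : Set H) →
      (a : G) ∈ Subgroup.centralizer ((D₀.map H.subtype : Subgroup G) : Set G) := by
  intro h
  rw [Subgroup.mem_centralizer_iff]
  rintro _ ⟨q, hq, rfl⟩
  exact congrArg Subtype.val (Subgroup.mem_centralizer_singleton_iff.1 (h hq))

/-- A `p`-subgroup `P` whose centralizer in `H` sees a unit coefficient of the idempotent of `b`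
carries a Brauer pair at which that idempotent is one. -/
theorem exists_pair_of_coeff (hM : IsPModular p M) (hb : IsPBlock M b) {P : Subgroup G}
    (hP : IsPGroup p P) (hPH : P ≤ H) (hC : Subgroup.centralizer (P : Set G) ≤ H) {a : H}
    (haC : (a : G) ∈ Subgroup.centralizer (P : Set G)) (ha : ¬ MemLocalIdeal M (blockCoeff b a)) :
    ∃ e : Set (IrrCharacter (Subgroup.centralizer (P : Set G))),
      IsBrauerPair p M P e ∧ ∀ ξ ∈ e,
        MemLocalIdeal M (H82.brOmega P (ξ : Subgroup.centralizer (P : Set G) → ℂ)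
          (H82.blockUp H b) - 1) := by
  classical
  haveI := Fintype.ofFinite (Subgroup.centralizer (P : Set G))
  set z := H82.blockUp H b
  have hzH : H82.IsInvElt H z := H82.isInvElt_blockUp_self H b
  have hzi : H82.IsInvElt P z := hzH.mono hPH
  have hzC : H82.IsInvElt (Subgroup.centralizer (P : Set G)) z := hzH.mono hC
  have hint : IsIntElt M z := H82.isIntElt_blockUp hM hb
  have hsq : z * z = z := by rw [H82.blockUp_mul, Set.inter_self]
  set w := H82.br P z
  obtain ⟨ξ, hξ⟩ : ∃ ξ : IrrCharacter (Subgroup.centralizer (P : Set G)),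
      ¬ MemLocalIdeal M (omega (ξ : _ → ℂ) w) := by
    by_contra hc
    push Not at hc
    have hid : ∀ g, MemLocalIdeal M ((w * w).coeff g - w.coeff g) := fun g => by
      have h := H82.isIdealElt_br_mul hM hP hint hint hzi hzi g
      rw [hsq, coeff_sub, Finsupp.sub_apply] at h
      have := memLocalIdeal_neg h
      rwa [neg_sub] at this
    have := H35.coeff_mem_of_omega_mem hM (H82.isCentralElt_br hzC) (H82.isIntElt_br hint) hid hc
      ⟨a, haC⟩
    rw [H82.coeff_br] at this
    exact ha (by rwa [H82.coeff_blockUp_of_mem] at this)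
  refine ⟨blockOf M (ξ : Subgroup.centralizer (P : Set G) → ℂ), ⟨hP, isPBlock_blockOf M ξ⟩, fun ξ' hξ' => ?_⟩
  have h2 := H82.brOmega_mul hM hP ξ.2 hint hint hzi hzi hzC hzC
  rw [hsq] at h2
  have hF : MemLocalRing M (H82.brOmega P (ξ : _ → ℂ) z) :=
    H82.memLocalRing_brOmega hM ξ.2 hzC hint
  have h3 : MemLocalIdeal M
      (H82.brOmega P (ξ : _ → ℂ) z * (H82.brOmega P (ξ : _ → ℂ) z - 1)) := by
    convert memLocalIdeal_neg h2 using 1
    ring
  have h4 := ((memLocalIdeal_mul_iff hM hF ((locRing hM).sub_mem hF (locRing hM).one_mem)).mp h3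
    ).resolve_left (by rwa [H82.brOmega_eq])
  have h5 := memLocalIdeal_add hM (H82.brOmega_congr_mem hM (isPBlock_blockOf M ξ) hξ'
    (self_mem_blockOf hM ξ) hzC hint) h4
  rwa [sub_add_sub_cancel] at h5

/-- The defect group of `b` carries a Brauer pair at which the idempotent of `b` is one. -/
theorem exists_pair (hM : IsPModular p M) (hb : IsPBlock M b) {D₀ : Subgroup H}
    (hD₀ : IsDefectGroup p M b D₀)
    (hC : Subgroup.centralizer ((D₀.map H.subtype : Subgroup G) : Set G) ≤ H) :
    ∃ e : Set (IrrCharacter (Subgroup.centralizer ((D₀.map H.subtype : Subgroup G) : Set G))),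
      IsBrauerPair p M (D₀.map H.subtype) e ∧ ∀ ξ ∈ e,
        MemLocalIdeal M (H82.brOmega (D₀.map H.subtype) (ξ : _ → ℂ) (H82.blockUp H b) - 1) := by
  obtain ⟨a, ha, S, rfl⟩ := hD₀
  exact exists_pair_of_coeff hM hb ((H35.sylImage_isPGroup S).map _) (Subgroup.map_subtype_le _) hC
    (map_subgroupOf_centralizer (H35.sylImage_le S)) ha.2.1

/-- `b` induces the block of the pair. -/
theorem induced_of_pair (hM : IsPModular p M) (hb : IsPBlock M b) {P : Subgroup G} (hPH : P ≤ H)
    (hC : Subgroup.centralizer (P : Set G) ≤ H)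
    {e : Set (IrrCharacter (Subgroup.centralizer (P : Set G)))} {B : Set (IrrCharacter G)}
    (hB : IsBrauerPairOf p M B P e)
    (hone : ∀ ξ ∈ e, MemLocalIdeal M (H82.brOmega P (ξ : _ → ℂ) (H82.blockUp H b) - 1)) :
    IsInducedBlock M H b B := by
  classical
  haveI := Fintype.ofFinite H
  obtain ⟨ξ, hξ⟩ := isPBlock_nonempty hM hB.1.2
  refine ⟨hb, hB.2.1, fun θ hθ χ hχ g => ?_⟩
  have hwc : IsCentralElt (resMap H (classSum g)) := isCentralElt_resMap (isCentralElt_classSum g)
  have hwH : H82.IsInvElt H (H82.up H.subtype (resMap H (classSum g))) := by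
    intro h hh x
    by_cases hx : x ∈ H
    · have e1 := H82.coeff_up H.subtype_injective (resMap H (classSum g))
        (⟨h, hh⟩ * ⟨x, hx⟩ * ⟨h, hh⟩⁻¹ : H)
      have e2 := H82.coeff_up H.subtype_injective (resMap H (classSum g)) (⟨x, hx⟩ : H)
      exact e1.trans ((hwc _ _).trans e2.symm)
    · rw [H82.coeff_up_of_notMem, H82.coeff_up_of_notMem]
      · rintro ⟨k, hk⟩
        exact hx (hk ▸ k.2)
      · rintro ⟨k, hk⟩
        have h' : h * x * h⁻¹ ∈ H := by rw [← hk]; exact k.2
        exact hx (by simpa [mul_assoc] using H.mul_mem (H.mul_mem (H.inv_mem hh) h') hh)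
  have hzH : H82.IsInvElt H (H82.up H.subtype (blockElem b)) :=
    H82.blockUp_eq_up H b ▸ H82.isInvElt_blockUp_self H b
  have h1 := H82.brOmega_up_congr_omega hM H.subtype_injective hb hB.1.1 ξ.2 (hzH.mono hPH)
    (hzH.mono hC) (H82.blockUp_eq_up H b ▸ hone ξ hξ) hwc
    (isIntElt_resMap (isIntElt_classSum hM g)) (hwH.mono hPH) (hwH.mono hC) hθ
  have h2 := H82.brOmega_congr_centralChar hM hB hξ hχ (isCentralElt_classSum g)
    (isIntElt_classSum hM g)
  rw [omega_classSum (IsIrr.isClassFunction χ.2)] at h2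
  rw [omega_resMap_classSum, H82.brOmega_congr P (ξ : Subgroup.centralizer (P : Set G) → ℂ) (w := classSum g)
    (fun c hc => (H82.coeff_up H.subtype_injective (resMap H (classSum g)) ⟨c, hC hc⟩).trans
      (coeff_resMap _))] at h1
  simpa using memLocalIdeal_sub hM h2 h1

/-- A defect group of the induced block containing the defect group of `b`, with smaller centre. -/
theorem exists_defectGroup (hM : IsPModular p M) {D₀ : Subgroup H}
    (hD₀ : IsDefectGroup p M b D₀)
    (hC : Subgroup.centralizer ((D₀.map H.subtype : Subgroup G) : Set G) ≤ H)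
    {B : Set (IrrCharacter G)} (hind : IsInducedBlock M H b B) :
    ∃ E : Subgroup G, IsDefectGroup p M B E ∧ D₀.map H.subtype ≤ E ∧
      ∀ z ∈ E, (∀ w ∈ E, z * w = w * z) → z ∈ D₀.map H.subtype := by
  classical
  haveI := Fintype.ofFinite H
  set P := D₀.map H.subtype with hPdef
  obtain ⟨e, he, hone⟩ := exists_pair hM hind.1 hD₀ hC
  obtain ⟨B', hB', -⟩ := S4657.result p M hM P e he
  have hPH : P ≤ H := Subgroup.map_subtype_le _
  obtain rfl : B = B' := isInducedBlock_unique hM hind (induced_of_pair hM hind.1 hPH hC hB' hone)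
  obtain ⟨E, f, hmax, hle⟩ := H82.exists_maximal_above hM hB'
  have hED := S4659.result p M hM B E f hmax
  have hPE : P ≤ E := H82.le_of_subpairLE hle
  refine ⟨E, hED, hPE, fun x hx hxc => ?_⟩
  have hxC : x ∈ Subgroup.centralizer (P : Set G) :=
    Subgroup.mem_centralizer_iff.2 fun w hw => (hxc w (hPE hw)).symm
  set Q := P ⊔ Subgroup.zpowers x with hQdef
  have hQE : Q ≤ E := sup_le hPE (Subgroup.zpowers_le.2 hx)
  have hQH : Q ≤ H := sup_le hPH (Subgroup.zpowers_le.2 (hC hxC))
  have hQp : IsPGroup p Q := hmax.1.1.1.to_le hQE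
  obtain ⟨fQ, ⟨hfQ, hQf⟩, -⟩ := S4655.existsUnique_below hM hmax.1.1 Q hQE
  have hQpair : IsBrauerPair p M Q fQ := ⟨hQp, hfQ⟩
  obtain ⟨f₀, ⟨hf₀, hP0⟩, -⟩ := S4655.existsUnique_below hM hQpair P le_sup_left
  have hfe : f₀ = e := by
    obtain ⟨f₁, -, huniq⟩ := S4655.existsUnique_below hM hmax.1.1 P hPE
    rw [huniq f₀ ⟨hf₀, Relation.ReflTransGen.trans hP0 hQf⟩, huniq e ⟨he.2, hle⟩]
  rw [hfe] at hP0
  obtain ⟨η, hη⟩ := isPBlock_nonempty hM he.2
  obtain ⟨ζ, hζ⟩ := isPBlock_nonempty hM hfQ
  have hzH : H82.IsInvElt H (H82.blockUp H b) := H82.isInvElt_blockUp_self H b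
  have hcong := H82.brOmega_congr_of_subpairLE hM hP0 hQpair hζ hη (hzH.mono hQH) (hzH.mono hC)
    (H82.isIntElt_blockUp hM hind.1)
  have hCQ : Subgroup.centralizer (Q : Set G) ≤ H :=
    (Subgroup.centralizer_le (show (P : Set G) ⊆ Q from (le_sup_left : P ≤ Q))).trans hC
  obtain ⟨c, hc⟩ : ∃ c : Subgroup.centralizer (Q : Set G),
      ¬ MemLocalIdeal M (blockCoeff b ⟨(c : G), hCQ c.2⟩) := by
    by_contra hall
    push Not at hall
    haveI := Fintype.ofFinite (Subgroup.centralizer (Q : Set G))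
    have hI : H82.IsIdealElt M (H82.br Q (H82.blockUp H b)) := fun c => by
      rw [H82.coeff_br]
      exact (H82.coeff_blockUp_of_mem H b ⟨(c : G), hCQ c.2⟩).symm ▸ hall c
    have h0 := H82.isIdealElt_omega hM ζ.2 (H82.isCentralElt_br (hzH.mono hCQ)) hI
    rw [← H82.brOmega_eq] at h0
    have h1 : MemLocalIdeal M (H82.brOmega P (η : Subgroup.centralizer (P : Set G) → ℂ)
        (H82.blockUp H b) - 1) := hone η hη
    have := memLocalIdeal_sub hM (memLocalIdeal_sub hM h0 hcong) h1
    exact not_memLocalIdeal_one hM (by simpa using this)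
  obtain ⟨D', hD', hQD⟩ := H35.exists_defectGroup_ge hM hind.1 hc (Q.subgroupOf H)
    (hQp.comap_of_injective H.subtype H.subtype_injective) (fun q hq => by
      rw [Subgroup.mem_centralizer_singleton_iff]
      exact Subtype.ext (Subgroup.mem_centralizer_iff.1 c.2 _ (Subgroup.mem_subgroupOf.1 hq)))
  have hcard : Nat.card Q ≤ Nat.card P := by
    rw [← Nat.card_congr (Subgroup.subgroupOfEquivOfLe hQH).toEquiv, hPdef,
      Subgroup.card_map_of_injective H.subtype_injective, H35.card_defectGroup hM hind.1 hD₀,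
      ← H35.card_defectGroup hM hind.1 hD']
    exact Subgroup.card_le_of_le hQD
  rw [Subgroup.eq_of_le_of_card_ge (le_sup_left : P ≤ Q) hcard]
  exact (le_sup_right : Subgroup.zpowers x ≤ Q) (Subgroup.mem_zpowers x)

/-- The induced block is defined. -/
theorem inducedBlockDefined (hM : IsPModular p M) (hb : IsPBlock M b) {D₀ : Subgroup H}
    (hD₀ : IsDefectGroup p M b D₀)
    (hC : Subgroup.centralizer ((D₀.map H.subtype : Subgroup G) : Set G) ≤ H) :
    InducedBlockDefined M H b := by
  obtain ⟨e, he, hone⟩ := exists_pair hM hb hD₀ hC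
  obtain ⟨B', hB', -⟩ := S4657.result p M hM _ e he
  exact ⟨B', induced_of_pair hM hb (Subgroup.map_subtype_le _) hC hB' hone⟩

end Cfsg.Agent.H24.InductionDefect
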