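import Cfsg.Agent.H24.KleinFourSylow
import Cfsg.Agent.Cores.ThirdMain
import Cfsg.Agent.H80.TwoBlocks

/-!
# The principal 2-block for a Sylow 2-subgroup of order four: the counting formulas
-/

set_option autoImplicit false
set_option linter.style.haveILetI false

open scoped ComplexConjugate
open MonoidAlgebra

namespace Cfsg.Agent.H24.KleinBlock

open BlockBasic CharBasic Cores

universe u

variable {G : Type u} [Group G] {M : Ideal AlgInt}

open scoped Classical in
/-- The sum of a character over the section of `J`. -/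
theorem section_sum [Finite G] (hM : IsPModular 2 M) {J : G} (hJ : orderOf J = 2)
    [Fintype (Subgroup.centralizer ({J} : Set G))] (O : Subgroup (Subgroup.centralizer ({J} : Set G)))
    [O.Normal] (hreg : ∀ y : Subgroup.centralizer ({J} : Set G), ¬ 2 ∣ orderOf y ↔ y ∈ O)
    (χ : IrrCharacter G) :
    ∑ y : Subgroup.centralizer ({J} : Set G) with y ∈ O, (χ : G → ℂ) (J * (y : G)) =
      if χ ∈ principalBlock M G then (Nat.card O : ℂ) * (χ : G → ℂ) J else 0 := by
  haveI : Fact (Nat.Prime 2) := ⟨Nat.prime_two⟩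
  have hJ1 : orderOf J = 2 ^ 1 := by rw [hJ, pow_one]
  have hO2 : ¬ 2 ∣ Nat.card O := fun hd => by
    obtain ⟨y, hy⟩ := exists_prime_orderOf_dvd_card' 2 hd
    exact (hreg y).2 y.2 (by rw [Subgroup.orderOf_coe, hy])
  split_ifs with hχ
  · rw [Finset.sum_congr rfl fun y hy =>
      principalBlock_apply_mul hM hJ1 hχ O hO2 (Finset.mem_filter.1 hy).2, Finset.sum_const, nsmul_eq_mul,
      ← Fintype.card_subtype, ← Nat.card_eq_fintype_card]
  · set θ : Subgroup.centralizer ({J} : Set G) → ℂ := fun c => (χ : G → ℂ) (J * (c : G)) with hθdef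
    have hθ : IsClassFunction (Subgroup.centralizer ({J} : Set G)) θ := fun g k => by
      show (χ : G → ℂ) (J * ((k * g * k⁻¹ : Subgroup.centralizer ({J} : Set G)) : G)) = _
      have hk := Subgroup.mem_centralizer_singleton_iff.mp k.2
      rw [show J * ((k * g * k⁻¹ : Subgroup.centralizer ({J} : Set G)) : G) =
        (k : G) * (J * (g : G)) * (k : G)⁻¹ by push_cast; rw [← mul_assoc (k : G) J, hk]; group]
      exact IsIrr.isClassFunction χ.2 _ _
    set b0 := principalBlock M (Subgroup.centralizer ({J} : Set G)) with hb0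
    have hvanish : ∀ ψ ∉ b0, ∑ y : Subgroup.centralizer ({J} : Set G) with y ∈ O,
        (ψ : _ → ℂ) y = 0 := by
      intro ψ hψ
      have h := sum_regular_eq_zero hM (isPBlock_principalBlock M) (χ := trivialIrr)
        (sameBlock_refl hM _) hψ
      have h2 := congrArg (starRingEnd ℂ) h
      simp only [map_sum, map_mul, trivialIrr, map_one, Complex.conj_conj, one_mul, map_zero] at h2
      rw [← h2]
      refine Finset.sum_congr ?_ fun _ _ => rfl
      ext y
      simp only [Finset.mem_filter, Finset.mem_univ, true_and]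
      exact (hreg y).symm
    have hblock : ∀ y : Subgroup.centralizer ({J} : Set G), y ∈ O →
        ∑ ψ with ψ ∈ b0, classInner θ (ψ : _ → ℂ) * (ψ : _ → ℂ) y = 0 := by
      intro y hy
      have h2 := second_main hM hJ1 (isPBlock_blockOf M χ) (self_mem_blockOf hM χ)
        (b := b0) (isPBlock_principalBlock M) (fun h => hχ (((third_main hM h).2 rfl) ▸ self_mem_blockOf hM χ))
        y ((hreg y).2 hy)
      rw [blockPart, finsum_mem_eq_sum_ite,
        Subsingleton.elim (Fintype.ofFinite (Subgroup.centralizer ({J} : Set G)))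
          ‹Fintype (Subgroup.centralizer ({J} : Set G))›, ← Finset.sum_filter] at h2
      exact h2
    calc ∑ y : Subgroup.centralizer ({J} : Set G) with y ∈ O, θ y
        = ∑ ψ : IrrCharacter (Subgroup.centralizer ({J} : Set G)),
            classInner θ (ψ : _ → ℂ) * ∑ y : Subgroup.centralizer ({J} : Set G) with y ∈ O, (ψ : _ → ℂ) y := by
          simp only [Finset.mul_sum]
          rw [Finset.sum_comm]
          refine Finset.sum_congr rfl fun y _ => ?_
          conv_lhs => rw [classFunction_expansion hθ]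
          simp
      _ = ∑ ψ with ψ ∈ b0, classInner θ (ψ : _ → ℂ) *
            ∑ y : Subgroup.centralizer ({J} : Set G) with y ∈ O, (ψ : _ → ℂ) y := by
          refine (Finset.sum_filter_of_ne fun ψ _ hne => ?_).symm
          by_contra hψ
          exact hne (by rw [hvanish ψ hψ, mul_zero])
      _ = 0 := by
          simp only [Finset.mul_sum]
          rw [Finset.sum_comm]
          exact Finset.sum_eq_zero fun y hy => hblock y (Finset.mem_filter.1 hy).2

open scoped Classical in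
/-- The formulas: the size `N` of a class in `C(J)`, the degree relation, the count of products of
two involutions, and the count of square roots. -/
theorem klein_formulas [Fintype G] (hM : IsPModular 2 M) (g₀ : ℕ) (hg₀ : Odd g₀)
    (hG : Nat.card G = 4 * g₀) (hnc : ¬ ∃ N : Subgroup G, N.Normal ∧ Nat.card N = g₀)
    (P : Sylow 2 G) (J : G) (hJ : J ∈ (P : Subgroup G)) (hJ2 : orderOf J = 2)
    (χ₁ χ₂ χ₃ : IrrCharacter G) (ε₁ ε₂ ε₃ : ℤ)
    (hB : principalBlock M G = {χ : IrrCharacter G | (χ : G → ℂ) = (fun _ => 1) ∨ χ = χ₁ ∨ χ = χ₂ ∨ χ = χ₃})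
    (hdist : (χ₁ : G → ℂ) ≠ (fun _ => 1) ∧ (χ₂ : G → ℂ) ≠ (fun _ => 1) ∧ (χ₃ : G → ℂ) ≠ (fun _ => 1) ∧
      χ₁ ≠ χ₂ ∧ χ₁ ≠ χ₃ ∧ χ₂ ≠ χ₃)
    (hε : (ε₁ = 1 ∨ ε₁ = -1) ∧ (ε₂ = 1 ∨ ε₂ = -1) ∧ (ε₃ = 1 ∨ ε₃ = -1))
    (hval : (χ₁ : G → ℂ) J = ε₁ ∧ (χ₂ : G → ℂ) J = ε₂ ∧ (χ₃ : G → ℂ) J = ε₃) :
    ∃ N : ℕ, Nat.card (Subgroup.centralizer ({J} : Set G)) =
        N * Nat.card (Subgroup.centralizer ((P : Subgroup G) : Set G)) ∧
      1 + (ε₁ : ℂ) * (χ₁ : G → ℂ) 1 + ε₂ * (χ₂ : G → ℂ) 1 + ε₃ * (χ₃ : G → ℂ) 1 = 0 ∧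
      8 * (N : ℂ) ^ 2 = ((Subgroup.centralizer ({J} : Set G)).index : ℂ) *
        (1 + (ε₁ : ℂ) / (χ₁ : G → ℂ) 1 + ε₂ / (χ₂ : G → ℂ) 1 + ε₃ / (χ₃ : G → ℂ) 1) ∧
      1 + (ε₁ : ℂ) * conj ((Nat.card G : ℂ)⁻¹ * ∑ s : G, (χ₁ : G → ℂ) (s * s)) +
        ε₂ * conj ((Nat.card G : ℂ)⁻¹ * ∑ s : G, (χ₂ : G → ℂ) (s * s)) +
        ε₃ * conj ((Nat.card G : ℂ)⁻¹ * ∑ s : G, (χ₃ : G → ℂ) (s * s)) = 0 := by
  haveI : Fact (Nat.Prime 2) := ⟨Nat.prime_two⟩
  have h4 : Nat.card P = 4 := by
    rw [P.card_eq_multiplicity, hG, Nat.factorization_mul (by norm_num) hg₀.pos.ne', Finsupp.add_apply,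
      Nat.factorization_eq_zero_of_not_dvd (Nat.two_dvd_ne_zero.2 (Nat.odd_iff.1 hg₀)),
      show (4 : ℕ) = 2 ^ 2 by norm_num, Nat.Prime.factorization_pow Nat.prime_two, Finsupp.single_eq_same, add_zero]
  obtain ⟨hexp, hconj⟩ := sylow_four_facts P h4 fun ⟨N, hN, hN4⟩ => hnc ⟨N, hN, by
    have := N.card_mul_index
    rw [hN4, hG] at this
    omega⟩
  have hcomm : ∀ x ∈ (P : Subgroup G), ∀ y ∈ (P : Subgroup G), x * y = y * x := fun x hx y hy => by
    calc x * y = x * (x * y * (x * y)) * y := by rw [hexp _ (mul_mem hx hy)]; group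
      _ = (x * x) * (y * x) * (y * y) := by group
      _ = y * x := by rw [hexp x hx, hexp y hy, one_mul, mul_one]
  set C := Subgroup.centralizer ({J} : Set G) with hCdef
  have hPC : (P : Subgroup G) ≤ C := fun x hx =>
    Subgroup.mem_centralizer_singleton_iff.2 (hcomm x hx J hJ)
  haveI : Fintype C := Fintype.ofFinite _
  let J' : C := ⟨J, Subgroup.mem_centralizer_singleton_iff.2 rfl⟩
  let PC : Sylow 2 C := P.subtype hPC
  have hPCmem : ∀ q : C, q ∈ (PC : Subgroup C) ↔ (q : G) ∈ (P : Subgroup G) := fun q => by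
    show q ∈ ((P.subtype hPC : Sylow 2 C) : Subgroup C) ↔ _
    rw [Sylow.coe_subtype, Subgroup.mem_subgroupOf]
  have hPC4 : Nat.card PC = 4 := by
    show Nat.card ((P.subtype hPC : Sylow 2 C) : Subgroup C) = 4
    rw [Sylow.coe_subtype, Nat.card_congr (Subgroup.subgroupOfEquivOfLe hPC).toEquiv, h4]
  have hJ'2 : orderOf J' = 2 := by rw [← Subgroup.orderOf_coe]; exact hJ2
  have hJc : J' ∈ Subgroup.center C := Subgroup.mem_center_iff.2 fun g =>
    Subtype.ext (Subgroup.mem_centralizer_singleton_iff.1 g.2)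
  obtain ⟨O, hOn, hO4⟩ := exists_index_four PC hPC4 J' hJ'2 hJc
  haveI := hOn
  have hCcard : Nat.card C = 4 * Nat.card O := by rw [← O.card_mul_index, hO4, mul_comm]
  have hOodd : ¬ 2 ∣ Nat.card O := fun hd => by
    have h8 : 4 * 2 ∣ 4 * g₀ := (mul_dvd_mul_left 4 hd).trans (hCcard ▸ hG ▸ C.card_subgroup_dvd_card)
    exact Nat.two_dvd_ne_zero.2 (Nat.odd_iff.1 hg₀) (Nat.dvd_of_mul_dvd_mul_left (by norm_num) h8)
  let π := QuotientGroup.mk' O
  have hπcard : Nat.card (C ⧸ O) = 4 := hO4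
  have hπ1 : ∀ y : C, π y = 1 ↔ y ∈ O := fun y => QuotientGroup.eq_one_iff y
  have hreg : ∀ y : C, ¬ 2 ∣ orderOf y ↔ y ∈ O := by
    intro y
    constructor
    · intro h
      have h1 : orderOf (π y) ∣ orderOf y := orderOf_map_dvd π y
      have h2 : orderOf (π y) ∣ 2 ^ 2 := by
        have := orderOf_dvd_natCard (π y)
        rw [hπcard] at this
        exact this
      have h3 : orderOf (π y) = 1 := Nat.eq_one_of_dvd_coprimes
        ((Nat.prime_two.coprime_iff_not_dvd.2 h).pow_left 2) h2 h1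
      exact (hπ1 y).1 (orderOf_eq_one_iff.1 h3)
    · exact fun h hd => hOodd (hd.trans (Subgroup.orderOf_dvd_natCard _ h))
  have hinj : ∀ x ∈ (PC : Subgroup C), ∀ y ∈ (PC : Subgroup C), π x = π y → x = y := by
    intro x hx y hy hxy
    have hm : x⁻¹ * y ∈ O := (hπ1 _).1 (by rw [map_mul, map_inv, hxy, inv_mul_cancel])
    have h2 : (x⁻¹ * y) ^ 2 = 1 := Subtype.ext (by
      rw [pow_two]; exact hexp _ ((hPCmem _).1 (mul_mem (inv_mem hx) hy)))
    have h3 : orderOf (x⁻¹ * y) = 1 := Nat.eq_one_of_dvd_coprimes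
      (Nat.prime_two.coprime_iff_not_dvd.2 hOodd) (orderOf_dvd_of_pow_eq_one h2) (Subgroup.orderOf_dvd_natCard _ hm)
    exact inv_mul_eq_one.1 (orderOf_eq_one_iff.1 h3)
  have hsurj : ∀ z : C ⧸ O, ∃ q ∈ (PC : Subgroup C), π q = z := by
    intro z
    have hbij : Function.Bijective fun q : (PC : Subgroup C) => π q :=
      (Nat.bijective_iff_injective_and_card _).2
        ⟨fun a b h => Subtype.ext (hinj a a.2 b b.2 h), hPC4.trans hπcard.symm⟩
    obtain ⟨q, hq⟩ := hbij.2 z
    exact ⟨q, q.2, hq⟩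
  have hab : ∀ x y : C, π x * π y = π y * π x := by
    intro x y
    obtain ⟨p, hp, hp'⟩ := hsurj (π x)
    obtain ⟨q, hq, hq'⟩ := hsurj (π y)
    rw [← hp', ← hq', ← map_mul, ← map_mul]
    exact congrArg π (Subtype.ext (hcomm _ ((hPCmem _).1 hp) _ ((hPCmem _).1 hq)))
  have himg : ∀ x y : C, IsConj x y → π x = π y := by
    intro x y h
    obtain ⟨c, rfl⟩ := isConj_iff.1 h
    rw [map_mul, map_mul, map_inv, hab, mul_assoc, mul_inv_cancel, mul_one]
  -- the three involutions of `P`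
  obtain ⟨a, haP, ha1, haJ⟩ : ∃ a ∈ (P : Subgroup G), a ≠ 1 ∧ a ≠ J := by
    by_contra hno
    push Not at hno
    have hsub : (Finset.univ.filter fun g => g ∈ (P : Subgroup G)) ⊆ {1, J} := fun g hg => by
      simp only [Finset.mem_insert, Finset.mem_singleton]
      exact or_iff_not_imp_left.2 (hno g (Finset.mem_filter.1 hg).2)
    have := (Finset.card_le_card hsub).trans Finset.card_le_two
    rw [← Fintype.card_subtype, ← Nat.card_eq_fintype_card] at this
    change Nat.card P ≤ 2 at this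
    omega
  have hJ1 : J ≠ 1 := fun e => by rw [e, orderOf_one] at hJ2; omega
  have hJJ : J * J = 1 := hexp J hJ
  have haa : a * a = 1 := hexp a haP
  have hP : ∀ g ∈ (P : Subgroup G), g = 1 ∨ g = J ∨ g = a ∨ g = J * a := by
    intro g hg
    have hsub : ({1, J, a, J * a} : Finset G) ⊆ Finset.univ.filter (fun g => g ∈ (P : Subgroup G)) := by
      intro x hx
      simp only [Finset.mem_insert, Finset.mem_singleton] at hx
      rcases hx with rfl | rfl | rfl | rfl <;> simp [hJ, haP, one_mem, mul_mem hJ haP]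
    have hne1 : J * a ≠ 1 := fun e => haJ (mul_left_cancel (e.trans hJJ.symm))
    have hne2 : J * a ≠ J := fun e => ha1 (mul_eq_left.1 e)
    have hne3 : J * a ≠ a := fun e => hJ1 (mul_eq_right.1 e)
    have hcard : (Finset.univ.filter (fun g => g ∈ (P : Subgroup G))).card = 4 := by
      rw [← Fintype.card_subtype, ← Nat.card_eq_fintype_card]; exact h4
    have heq := Finset.eq_of_subset_of_card_le hsub (by
      rw [hcard]
      simp [ha1.symm, hJ1.symm, haJ.symm, hne1.symm, hne2.symm, hne3.symm])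
    have : g ∈ ({1, J, a, J * a} : Finset G) := by rw [heq]; simp [hg]
    simpa using this
  let a' : C := ⟨a, hPC haP⟩
  let b' : C := J' * a'
  have hJP : J' ∈ (PC : Subgroup C) := (hPCmem _).2 hJ
  have haP' : a' ∈ (PC : Subgroup C) := (hPCmem _).2 haP
  have hbP' : b' ∈ (PC : Subgroup C) := mul_mem hJP haP'
  have hP' : ∀ q ∈ (PC : Subgroup C), q = 1 ∨ q = J' ∨ q = a' ∨ q = b' := by
    intro q hq
    rcases hP _ ((hPCmem q).1 hq) with h | h | h | h
    · exact Or.inl (Subtype.ext h)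
    · exact Or.inr (Or.inl (Subtype.ext h))
    · exact Or.inr (Or.inr (Or.inl (Subtype.ext h)))
    · exact Or.inr (Or.inr (Or.inr (Subtype.ext h)))
  let U : Finset C := Finset.univ.filter fun u => u * u = 1 ∧ u ≠ 1
  have hU : ∀ u ∈ U, ∃ q ∈ (PC : Subgroup C), q ≠ 1 ∧ IsConj q u := by
    intro u hu
    simp only [U, Finset.mem_filter, Finset.mem_univ, true_and] at hu
    have huo : orderOf u = 2 := orderOf_eq_prime (by rw [pow_two]; exact hu.1) hu.2
    obtain ⟨Q, hQ⟩ := (IsPGroup.of_card (n := 1) (by rw [Nat.card_zpowers, huo, pow_one]) :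
      IsPGroup 2 (Subgroup.zpowers u)).exists_le_sylow
    obtain ⟨c, hc⟩ := MulAction.exists_smul_eq C Q PC
    refine ⟨c * u * c⁻¹, ?_, fun e => hu.2 (conj_eq_one_iff.1 e), (isConj_iff.2 ⟨c, rfl⟩).symm⟩
    rw [← hc, Sylow.coe_subgroup_smul]
    exact ⟨u, hQ (Subgroup.mem_zpowers u), rfl⟩
  have hUconj : ∀ q ∈ (PC : Subgroup C), q ≠ 1 → ∀ u, IsConj q u → u ∈ U := by
    intro q hq hq1 u hu
    obtain ⟨c, rfl⟩ := isConj_iff.1 hu
    have hqq : q * q = 1 := Subtype.ext (hexp _ ((hPCmem q).1 hq))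
    simp only [U, Finset.mem_filter, Finset.mem_univ, true_and]
    exact ⟨by rw [show c * q * c⁻¹ * (c * q * c⁻¹) = c * (q * q) * c⁻¹ by group, hqq]; group,
      fun e => hq1 (conj_eq_one_iff.1 e)⟩
  let A : Finset C := Finset.univ.filter fun u => IsConj a' u
  let Bf : Finset C := Finset.univ.filter fun u => IsConj b' u
  let W : Finset (C × C) := Finset.univ.filter fun p => p.1 ∈ U ∧ p.2 ∈ U ∧ π p.1 * π p.2 = π J'
  have ha'1 : a' ≠ 1 := fun e => ha1 (congrArg Subtype.val e)
  have hJ'1 : J' ≠ 1 := fun e => hJ1 (congrArg Subtype.val e)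
  have haJ' : a' ≠ J' := fun e => haJ (congrArg Subtype.val e)
  have hJaC : J' * a' = a' * J' := Subtype.ext (hcomm J hJ a haP)
  have haa' : a' * a' = 1 := Subtype.ext haa
  have hb'1 : b' ≠ 1 := fun e => haJ' (mul_left_cancel (e.trans (Subtype.ext hJJ : J' * J' = 1).symm))
  have hab' : a' * b' = J' := by show a' * (J' * a') = J'; rw [hJaC, ← mul_assoc, haa', one_mul]
  have hba' : b' * a' = J' := by show J' * a' * a' = J'; rw [mul_assoc, haa', mul_one]
  have hW : W = A ×ˢ Bf ∪ Bf ×ˢ A := by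
    ext ⟨u, v⟩
    simp only [W, Finset.mem_filter, Finset.mem_univ, true_and, Finset.mem_union, Finset.mem_product, A, Bf]
    constructor
    · rintro ⟨hu, hv, huv⟩
      obtain ⟨q, hq, hq1, hqu⟩ := hU u hu
      obtain ⟨r, hr, hr1, hrv⟩ := hU v hv
      rw [← himg q u hqu, ← himg r v hrv, ← map_mul] at huv
      have hqr := hinj _ (mul_mem hq hr) _ hJP huv
      rcases hP' q hq with rfl | rfl | rfl | rfl
      · exact absurd rfl hq1
      · exact absurd (mul_eq_left.1 hqr) hr1
      · exact Or.inl ⟨hqu, (mul_left_cancel (hqr.trans hab'.symm)) ▸ hrv⟩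
      · exact Or.inr ⟨hqu, (mul_left_cancel (hqr.trans hba'.symm)) ▸ hrv⟩
    · rintro (⟨hu, hv⟩ | ⟨hu, hv⟩)
      · exact ⟨hUconj _ haP' ha'1 _ hu, hUconj _ hbP' hb'1 _ hv,
          by rw [← himg _ _ hu, ← himg _ _ hv, ← map_mul, hab']⟩
      · exact ⟨hUconj _ hbP' hb'1 _ hu, hUconj _ haP' ha'1 _ hv,
          by rw [← himg _ _ hu, ← himg _ _ hv, ← map_mul, hba']⟩
  have hcent : ∀ q : C, q = a' ∨ q = b' →
      (Finset.univ.filter fun u => IsConj q u).card * Nat.card (Subgroup.centralizer ((P : Subgroup G) : Set G)) =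
        Nat.card C := by
    intro q hq
    rw [H83.classSize_eq_index, ← H83.classSize_mul_centralizer q]
    congr 1
    have hq' : ∀ g : G, g * J = J * g → g * (q : G) = (q : G) * g → g * a = a * g := by
      intro g h1 h2
      rcases hq with rfl | rfl
      · exact h2
      · change g * (J * a) = J * a * g at h2
        rw [← mul_assoc, h1, mul_assoc, mul_assoc] at h2
        exact mul_left_cancel h2
    rw [Nat.card_congr (Subgroup.equivMapOfInjective (Subgroup.centralizer ({q} : Set C)) C.subtype C.subtype_injective).toEquiv]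
    congr 2
    ext g
    rw [Subgroup.mem_map]
    constructor
    · intro hg
      have hgJ : g ∈ C := Subgroup.mem_centralizer_singleton_iff.2 (Subgroup.mem_centralizer_iff.1 hg J hJ).symm
      refine ⟨⟨g, hgJ⟩, Subgroup.mem_centralizer_singleton_iff.2 (Subtype.ext ?_), rfl⟩
      refine (Subgroup.mem_centralizer_iff.1 hg (q : G) ?_).symm
      rcases hq with rfl | rfl
      · exact haP
      · exact mul_mem hJ haP
    · rintro ⟨c, hc, rfl⟩
      rw [Subgroup.mem_centralizer_iff]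
      intro x hx
      have h1 : (c : G) * J = J * (c : G) := Subgroup.mem_centralizer_singleton_iff.1 c.2
      have h2 := hq' _ h1 (congrArg Subtype.val (Subgroup.mem_centralizer_singleton_iff.1 hc))
      rcases hP x hx with rfl | rfl | rfl | rfl
      · simp
      · exact h1.symm
      · exact h2.symm
      · show J * a * (c : G) = (c : G) * (J * a)
        rw [mul_assoc, ← h2, ← mul_assoc, ← h1, mul_assoc]
  have hBA : Bf.card = A.card :=
    Nat.eq_of_mul_eq_mul_right Nat.card_pos ((hcent b' (Or.inr rfl)).trans (hcent a' (Or.inl rfl)).symm)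
  have hWcard : W.card = 2 * A.card ^ 2 := by
    rw [hW, Finset.card_union_of_disjoint, Finset.card_product, Finset.card_product, hBA]
    · ring
    · rw [Finset.disjoint_left]
      rintro ⟨u, v⟩ h1 h2
      simp only [Finset.mem_product, A, Bf, Finset.mem_filter, Finset.mem_univ, true_and] at h1 h2
      have h := hinj _ haP' _ hbP' ((himg _ _ h1.1).trans (himg _ _ h2.1).symm)
      exact hJ'1 (mul_eq_right.1 h.symm)
  -- pairs of involutions with product in the section of `J`
  have hinvol : ∀ g : G, IsConj J g ↔ g * g = 1 ∧ g ≠ 1 := fun g => by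
    refine ⟨fun h => ?_, fun h => hconj J g hJ2 (orderOf_eq_prime (by rw [pow_two]; exact h.1) h.2)⟩
    obtain ⟨c, rfl⟩ := isConj_iff.1 h
    exact ⟨by rw [show c * J * c⁻¹ * (c * J * c⁻¹) = c * (J * J) * c⁻¹ by group, hJJ]; group,
      fun e => hJ1 (conj_eq_one_iff.1 e)⟩
  have hpairs : ∑ y : C with y ∈ O,
      Nat.card {g : G // IsConj J g ∧ IsConj J (g⁻¹ * (J * (y : G)))} = W.card := by
    rw [Finset.sum_subtype (p := fun y : C => y ∈ O) (F := inferInstance) _ (fun y => by simp),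
      ← Nat.card_sigma, ← Nat.card_eq_finsetCard W]
    have hmemC : ∀ (y : C), y ∈ O → ∀ g : G, IsConj J g → IsConj J (g⁻¹ * (J * (y : G))) → g ∈ C := by
      intro y hy g h1 h2
      obtain ⟨hgg, -⟩ := (hinvol g).1 h1
      obtain ⟨hvv, -⟩ := (hinvol _).1 h2
      have hgi : g⁻¹ = g := inv_eq_of_mul_eq_one_right hgg
      rw [hgi] at hvv
      have hinv : g * (J * (y : G)) * g⁻¹ = (J * (y : G))⁻¹ := by
        rw [hgi]
        exact eq_inv_of_mul_eq_one_left (by simpa [mul_assoc] using hvv)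
      obtain ⟨k, hk⟩ := Nat.not_even_iff_odd.1 (fun h => (hreg y).2 hy (even_iff_two_dvd.1 h))
      have hJy : Commute J (y : G) := (Subgroup.mem_centralizer_singleton_iff.1 y.2).symm
      have hw : (J * (y : G)) ^ orderOf y = J := by
        rw [hJy.mul_pow, ← SubgroupClass.coe_pow, pow_orderOf_eq_one, OneMemClass.coe_one, mul_one, hk,
          pow_succ, pow_mul, pow_two, hJJ, one_pow, one_mul]
      have h3 := congrArg (· ^ orderOf y) hinv
      simp only [conj_pow, inv_pow, hw, inv_eq_of_mul_eq_one_right hJJ] at h3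
      exact Subgroup.mem_centralizer_singleton_iff.2 (mul_inv_eq_iff_eq_mul.1 h3)
    refine Nat.card_congr
      { toFun := fun s => ⟨(⟨s.2.1, hmemC s.1 s.1.2 _ s.2.2.1 s.2.2.2⟩,
          ⟨s.2.1, hmemC s.1 s.1.2 _ s.2.2.1 s.2.2.2⟩⁻¹ * (J' * (s.1 : C))), ?_⟩
        invFun := fun p => ⟨⟨J'⁻¹ * (p.1.1 * p.1.2), ?_⟩, ⟨((p.1.1 : C) : G), ?_, ?_⟩⟩
        left_inv := ?_
        right_inv := ?_ }
    · obtain ⟨h1, h1'⟩ := (hinvol _).1 s.2.2.1
      obtain ⟨h2, h2'⟩ := (hinvol _).1 s.2.2.2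
      simp only [W, U, Finset.mem_filter, Finset.mem_univ, true_and]
      refine ⟨⟨Subtype.ext h1, fun e => h1' (congrArg Subtype.val e)⟩,
        ⟨Subtype.ext h2, fun e => h2' (congrArg Subtype.val e)⟩, ?_⟩
      rw [← map_mul, mul_inv_cancel_left, map_mul, (hπ1 _).2 s.1.2, mul_one]
    · have h := (Finset.mem_filter.1 p.2).2.2.2
      exact (hπ1 _).1 (by rw [map_mul, map_mul, h, map_inv, inv_mul_cancel])
    · have h := (Finset.mem_filter.1 ((Finset.mem_filter.1 p.2).2.1)).2
      exact (hinvol _).2 ⟨congrArg Subtype.val h.1, fun e => h.2 (Subtype.ext e)⟩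
    · have h := (Finset.mem_filter.1 ((Finset.mem_filter.1 p.2).2.2.1)).2
      refine (hinvol _).2 ?_
      have e : ((p.1.1 : C) : G)⁻¹ * (J * ((J'⁻¹ * (p.1.1 * p.1.2) : C) : G)) = ((p.1.2 : C) : G) := by
        simp only [Subgroup.coe_mul, Subgroup.coe_inv, J']; group
      simp only at e ⊢
      rw [e]
      exact ⟨congrArg Subtype.val h.1, fun e => h.2 (Subtype.ext e)⟩
    · rintro ⟨⟨y, hy⟩, ⟨g, h1, h2⟩⟩
      exact Sigma.subtype_ext (Subtype.ext (by simp)) rfl
    · rintro ⟨⟨u, v⟩, h⟩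
      exact Subtype.ext (Prod.ext rfl (by simp))
  -- the characters of the principal block
  set t : IrrCharacter G := trivialIrr with ht
  have htv : ∀ g, (t : G → ℂ) g = 1 := fun g => rfl
  have hne : χ₁ ≠ t ∧ χ₂ ≠ t ∧ χ₃ ≠ t := ⟨fun e => hdist.1 (by rw [e]; rfl),
    fun e => hdist.2.1 (by rw [e]; rfl), fun e => hdist.2.2.1 (by rw [e]; rfl)⟩
  have hsumB : ∀ f : IrrCharacter G → ℂ,
      ∑ χ with χ ∈ principalBlock M G, f χ = f t + f χ₁ + f χ₂ + f χ₃ := by
    intro f
    have hset : (Finset.univ.filter fun χ => χ ∈ principalBlock M G) = {t, χ₁, χ₂, χ₃} := by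
      ext χ
      rw [hB]
      simp only [Finset.mem_filter, Finset.mem_univ, true_and, Set.mem_setOf_eq, Finset.mem_insert,
        Finset.mem_singleton]
      exact or_congr_left ⟨fun h => Subtype.ext h, fun h => by rw [h]; rfl⟩
    rw [hset, Finset.sum_insert (by simp [hne.1.symm, hne.2.1.symm, hne.2.2.symm]),
      Finset.sum_insert (by simp [hdist.2.2.2.1, hdist.2.2.2.2.1]),
      Finset.sum_insert (by simp [hdist.2.2.2.2.2]), Finset.sum_singleton]
    ring
  have master : ∀ c : IrrCharacter G → ℂ,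
      ∑ y : C with y ∈ O, ∑ χ : IrrCharacter G, c χ * (χ : G → ℂ) (J * (y : G)) =
        (Nat.card O : ℂ) * (c t + c χ₁ * ε₁ + c χ₂ * ε₂ + c χ₃ * ε₃) := by
    intro c
    rw [Finset.sum_comm]
    rw [Finset.sum_congr rfl fun χ _ => (Finset.mul_sum _ _ _).symm.trans
      (congrArg (fun z => c χ * z) (section_sum hM hJ2 O hreg χ))]
    simp only [mul_ite, mul_zero, ← Finset.sum_filter, hsumB, htv, hval]
    ring
  have hO0 : (Nat.card O : ℂ) ≠ 0 := Nat.cast_ne_zero.2 Nat.card_pos.ne'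
  have hJy : ∀ y : C, y ∈ O → J * (y : G) ≠ 1 := fun y hy e => (hreg y).2 hy (by
    rw [← Subgroup.orderOf_coe, show (y : G) = J⁻¹ from eq_inv_of_mul_eq_one_right e, orderOf_inv, hJ2])
  refine ⟨A.card, (hcent a' (Or.inl rfl)).symm, ?_, ?_, ?_⟩
  · have h := master fun χ => (χ : G → ℂ) 1
    rw [Finset.sum_eq_zero fun y hy => by
      rw [sum_degree_mul_apply, if_neg (hJy y (Finset.mem_filter.1 hy).2)]] at h
    have h' := (mul_eq_zero.1 h.symm).resolve_left hO0
    rw [htv] at h'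
    linear_combination h'
  · set idx := C.index with hidx
    have hidx0 : (idx : ℂ) ≠ 0 := Nat.cast_ne_zero.2 Subgroup.index_ne_zero_of_finite
    have h := master fun χ => conj ((χ : G → ℂ) J) * conj ((χ : G → ℂ) J) / (χ : G → ℂ) 1
    have hy : ∀ y ∈ (Finset.univ.filter fun y : C => y ∈ O),
        (idx : ℂ) * idx * ∑ χ : IrrCharacter G,
          conj ((χ : G → ℂ) J) * conj ((χ : G → ℂ) J) / (χ : G → ℂ) 1 * (χ : G → ℂ) (J * (y : G)) =
        (Nat.card G : ℂ) * (Nat.card {g : G // IsConj J g ∧ IsConj J (g⁻¹ * (J * (y : G)))} : ℂ) := by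
      intro y _
      rw [H83.card_pairs_mul_card J J (J * (y : G))]
      congr 1
      exact Finset.sum_congr rfl fun χ _ => by ring
    have h2 := congrArg (fun z => (idx : ℂ) * idx * z) h
    simp only [Finset.mul_sum (a := (idx : ℂ) * idx)] at h2
    rw [Finset.sum_congr rfl (fun y hy' => (Finset.mul_sum _ _ _).symm.trans (hy y hy')), ← Finset.mul_sum, ← Nat.cast_sum, hpairs, hWcard] at h2
    have hG' : Nat.card G = idx * (4 * Nat.card O) := by rw [← hCcard, hidx, Subgroup.index_mul_card]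
    rw [hG'] at h2
    simp only [htv, hval, map_one, map_intCast, one_mul, mul_one, one_div] at h2
    have hsq : ∀ e : ℤ, e = 1 ∨ e = -1 → (e : ℂ) * e = 1 := by
      rintro e (rfl | rfl) <;> simp
    rw [hsq ε₁ hε.1, hsq ε₂ hε.2.1, hsq ε₃ hε.2.2] at h2
    push_cast at h2
    apply mul_left_cancel₀ (mul_ne_zero hidx0 hO0)
    linear_combination h2
  · let f : G → ℂ := fun g => ∑ s : G, if s * s = g then 1 else 0
    have hf : IsClassFunction G f := by
      intro g x
      refine Fintype.sum_equiv (MulAut.conj x⁻¹).toEquiv _ _ fun s => ?_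
      simp only [MulEquiv.toEquiv_eq_coe, EquivLike.coe_coe, MulAut.conj_apply, inv_inv]
      congr 1
      refine propext ⟨fun h => ?_, fun h => ?_⟩
      · rw [show x⁻¹ * s * x * (x⁻¹ * s * x) = x⁻¹ * (s * s) * x by group, h]; group
      · rw [show s * s = x * (x⁻¹ * s * x * (x⁻¹ * s * x)) * x⁻¹ by group, h]
    have hin : ∀ χ : IrrCharacter G,
        classInner f (χ : G → ℂ) = conj ((Nat.card G : ℂ)⁻¹ * ∑ s : G, (χ : G → ℂ) (s * s)) := by
      intro χ
      simp only [classInner_def, f, Finset.sum_mul, ite_mul, one_mul, zero_mul]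
      rw [Finset.sum_comm]
      simp
    have h := master fun χ => classInner f (χ : G → ℂ)
    have hz : ∀ y : C, y ∈ O → f (J * (y : G)) = 0 := by
      intro y hy
      refine Finset.sum_eq_zero fun s _ => if_neg fun hs => ?_
      obtain ⟨k, hk⟩ := Nat.not_even_iff_odd.1 (fun h => (hreg y).2 hy (even_iff_two_dvd.1 h))
      have hJyc : Commute J (y : G) := (Subgroup.mem_centralizer_singleton_iff.1 y.2).symm
      have hw : (J * (y : G)) ^ orderOf y = J := by
        rw [hJyc.mul_pow, ← SubgroupClass.coe_pow, pow_orderOf_eq_one, OneMemClass.coe_one, mul_one, hk,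
          pow_succ, pow_mul, pow_two, hJJ, one_pow, one_mul]
      have hsC : s ∈ C := by
        rw [Subgroup.mem_centralizer_singleton_iff, ← hw]
        exact (((Commute.refl s).mul_right (Commute.refl s)).pow_right (orderOf y) : Commute s ((s * s) ^ orderOf y)) |> fun h => by
          rw [hs] at h; exact h.eq
      obtain ⟨q, hq, hq'⟩ := hsurj (π ⟨s, hsC⟩)
      have h1 : π ⟨s, hsC⟩ * π ⟨s, hsC⟩ = π J' := by
        rw [← map_mul, show (⟨s, hsC⟩ * ⟨s, hsC⟩ : C) = J' * y from Subtype.ext hs, map_mul, (hπ1 y).2 hy, mul_one]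
      rw [← hq', ← map_mul] at h1
      have h2 := hinj _ (mul_mem hq hq) _ hJP h1
      exact hJ'1 (h2.symm.trans (Subtype.ext (hexp _ ((hPCmem q).1 hq))))
    rw [Finset.sum_eq_zero fun y hy => ?_] at h
    · have h' := (mul_eq_zero.1 h.symm).resolve_left hO0
      simp only [hin] at h'
      have htν : conj ((Nat.card G : ℂ)⁻¹ * ∑ s : G, (t : G → ℂ) (s * s)) = 1 := by
        simp [htv, Nat.card_eq_fintype_card]
      rw [htν] at h'
      linear_combination h'
    · rw [← hz y (Finset.mem_filter.1 hy).2]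
      conv_rhs => rw [classFunction_expansion hf]
      simp

end Cfsg.Agent.H24.KleinBlock
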