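import Cfsg.Agent.H83.ClassConst
import Mathlib.GroupTheory.Transfer
import Mathlib.GroupTheory.Sylow

/-!
# Groups with a Sylow 2-subgroup of order four
-/

set_option autoImplicit false
set_option linter.style.haveILetI false

namespace Cfsg.Agent.H24.KleinBlock

open Subgroup

universe u

variable {K : Type u} [Group K] [Finite K]

theorem four_dvd (P : Sylow 2 K) (h4 : Nat.card P = 4) : 4 ∣ Nat.card K :=
  h4 ▸ Subgroup.card_subgroup_dvd_card _

/-- Without a normal subgroup of index four, a Sylow 2-subgroup of order four has exponent two and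
all involutions are conjugate. -/
theorem sylow_four_facts (P : Sylow 2 K) (h4 : Nat.card P = 4)
    (hnc : ¬ ∃ O : Subgroup K, O.Normal ∧ O.index = 4) :
    (∀ x ∈ (P : Subgroup K), x * x = 1) ∧ ∀ u v : K, orderOf u = 2 → orderOf v = 2 → IsConj u v := by
  classical
  haveI : Fact (Nat.Prime 2) := ⟨Nat.prime_two⟩
  have hker : ∀ h : normalizer (P : Set K) ≤ centralizer (P : Set K), False := fun h => by
    refine hnc ⟨(MonoidHom.transferSylow P h).ker, inferInstance, ?_⟩
    have h1 := (MonoidHom.ker_transferSylow_isComplement' P h).card_mul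
    have h2 := (MonoidHom.transferSylow P h).ker.card_mul_index
    rw [← h2, h4] at h1
    exact (mul_left_cancel₀ Nat.card_pos.ne' h1).symm
  have hexp : ∀ x ∈ (P : Subgroup K), x * x = 1 := by
    intro x hx
    by_contra hne
    have hx4 : orderOf (⟨x, hx⟩ : (P : Subgroup K)) = Nat.card P := by
      have hd : orderOf (⟨x, hx⟩ : (P : Subgroup K)) ∣ 2 ^ 2 := by
        simpa [h4] using orderOf_dvd_natCard (⟨x, hx⟩ : (P : Subgroup K))
      obtain ⟨i, hi, he⟩ := (Nat.dvd_prime_pow Nat.prime_two).1 hd
      rw [Subgroup.orderOf_mk] at he ⊢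
      have h2 : ¬ orderOf x ∣ 2 := fun h => hne (by rw [← pow_two]; exact orderOf_dvd_iff_pow_eq_one.1 h)
      interval_cases i
      · exact absurd (by rw [he]; norm_num) h2
      · exact absurd (by rw [he]; norm_num) h2
      · rw [he, h4]; norm_num
    have hmin : (Nat.card K).minFac = 2 :=
      (Nat.minFac_eq_two_iff _).2 ((show 2 ∣ 4 by norm_num).trans (four_dvd P h4))
    exact hker (IsCyclic.normalizer_le_centralizer hmin (isCyclic_of_orderOf_eq_card _ hx4))
  have hcomm : ∀ x ∈ (P : Subgroup K), ∀ y ∈ (P : Subgroup K), x * y = y * x := fun x hx y hy => by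
    calc x * y = x * (x * y * (x * y)) * y := by rw [hexp _ (mul_mem hx hy)]; group
      _ = (x * x) * (y * x) * (y * y) := by group
      _ = y * x := by rw [hexp x hx, hexp y hy, one_mul, mul_one]
  haveI := Fintype.ofFinite K
  let T : Finset K := Finset.univ.filter fun g => g ∈ (P : Subgroup K) ∧ g ≠ 1
  have hT : T.card = 3 := by
    have h : T = (Finset.univ.filter fun g => g ∈ (P : Subgroup K)).erase 1 := by
      ext g; simp [T, and_comm]
    rw [h, Finset.card_erase_of_mem (by simp), ← Fintype.card_subtype, ← Nat.card_eq_fintype_card]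
    change Nat.card P - 1 = 3
    rw [h4]
  let N := normalizer (P : Set K)
  haveI := Fintype.ofFinite N
  let S : ∀ g : K, g ∈ (P : Subgroup K) → Finset K := fun g hg =>
    (Finset.univ.filter fun n : N => IsConj (⟨g, le_normalizer hg⟩ : N) n).image Subtype.val
  have hS : ∀ g (hg : g ∈ (P : Subgroup K)), g ≠ 1 → S g hg ⊆ T ∧ ((S g hg).card = 1 ∨ (S g hg).card = 3) := by
    intro g hg hg1
    have hsub : S g hg ⊆ T := by
      intro y hy
      simp only [S, Finset.mem_image, Finset.mem_filter, Finset.mem_univ, true_and] at hy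
      obtain ⟨n, hn, rfl⟩ := hy
      obtain ⟨c, rfl⟩ := isConj_iff.1 hn
      simp only [T, Finset.mem_filter, Finset.mem_univ, true_and, Subgroup.coe_mul, Subgroup.coe_inv]
      exact ⟨(Subgroup.mem_normalizer_iff.1 c.2 g).1 hg, fun h => hg1 (conj_eq_one_iff.1 h)⟩
    refine ⟨hsub, ?_⟩
    have hle := Finset.card_le_card hsub
    rw [hT] at hle
    have hodd : ¬ 2 ∣ (S g hg).card := by
      rw [Finset.card_image_of_injective _ Subtype.val_injective, H83.classSize_eq_index]
      intro hd
      apply P.not_dvd_index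
      refine hd.trans ((Subgroup.index_dvd_of_le (H := (P : Subgroup K).subgroupOf N) ?_).trans ?_)
      · intro y hy
        rw [Subgroup.mem_centralizer_singleton_iff]
        exact Subtype.ext (hcomm y hy g hg)
      · exact Subgroup.relIndex_dvd_index_of_le le_normalizer
    omega
  refine ⟨hexp, ?_⟩
  have hone : ∃ g, ∃ hg : g ∈ (P : Subgroup K), g ≠ 1 ∧ (S g hg).card = 3 := by
    by_contra hno
    push Not at hno
    apply hker
    intro n hn
    rw [Subgroup.mem_centralizer_iff]
    intro g hg
    rcases eq_or_ne g 1 with rfl | hg1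
    · simp
    have h1 := ((hS g hg hg1).2.resolve_right (hno g hg hg1))
    have hmem : ∀ y : N, IsConj (⟨g, le_normalizer hg⟩ : N) y → (y : K) ∈ S g hg := fun y hy =>
      Finset.mem_image.2 ⟨y, Finset.mem_filter.2 ⟨Finset.mem_univ _, hy⟩, rfl⟩
    have ha := hmem ⟨g, le_normalizer hg⟩ (IsConj.refl _)
    have hb := hmem _ (isConj_iff.2 ⟨⟨n, hn⟩, rfl⟩)
    have he := Finset.card_le_one.1 h1.le _ ha _ hb
    simp only [Subgroup.coe_mul, Subgroup.coe_inv] at he
    conv_lhs => rw [he]
    group
  obtain ⟨g, hg, hg1, hc⟩ := hone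
  have hall : ∀ y ∈ (P : Subgroup K), y ≠ 1 → IsConj g y := by
    intro y hy hy1
    have := Finset.eq_of_subset_of_card_le (hS g hg hg1).1 (by rw [hT, hc])
    have hm : y ∈ S g hg := by rw [this]; simp [T, hy, hy1]
    simp only [S, Finset.mem_image, Finset.mem_filter, Finset.mem_univ, true_and] at hm
    obtain ⟨n, hn, rfl⟩ := hm
    exact (MonoidHom.map_isConj N.subtype hn)
  have hinv : ∀ u : K, orderOf u = 2 → IsConj g u := by
    intro u hu
    obtain ⟨Q, hQ⟩ := (IsPGroup.of_card (n := 1) (by rw [Nat.card_zpowers, hu, pow_one]) :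
      IsPGroup 2 (zpowers u)).exists_le_sylow
    obtain ⟨c, hc⟩ := MulAction.exists_smul_eq K Q P
    have hm : c * u * c⁻¹ ∈ (P : Subgroup K) := by
      rw [← hc, Sylow.coe_subgroup_smul]
      exact ⟨u, hQ (mem_zpowers u), rfl⟩
    refine (hall _ hm fun h => ?_).trans (isConj_iff.2 ⟨c, rfl⟩).symm
    rw [conj_eq_one_iff.1 h, orderOf_one] at hu
    omega
  exact fun u v hu hv => (hinv u hu).symm.trans (hinv v hv)

/-- A central involution forces a normal subgroup of index four. -/
theorem exists_index_four (P : Sylow 2 K) (h4 : Nat.card P = 4) (z : K) (hz : orderOf z = 2)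
    (hzc : z ∈ center K) : ∃ O : Subgroup K, O.Normal ∧ O.index = 4 := by
  classical
  by_contra hnc
  obtain ⟨hexp, hconj⟩ := sylow_four_facts P h4 hnc
  obtain ⟨y, hy, hy1, hyz⟩ : ∃ y ∈ (P : Subgroup K), y ≠ 1 ∧ y ≠ z := by
    by_contra hno
    push Not at hno
    haveI := Fintype.ofFinite K
    have hsub : (Finset.univ.filter fun g => g ∈ (P : Subgroup K)) ⊆ {1, z} := fun g hg => by
      simp only [Finset.mem_insert, Finset.mem_singleton]
      exact or_iff_not_imp_left.2 (hno g (Finset.mem_filter.1 hg).2)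
    have := (Finset.card_le_card hsub).trans Finset.card_le_two
    rw [← Fintype.card_subtype, ← Nat.card_eq_fintype_card] at this
    change Nat.card P ≤ 2 at this
    omega
  obtain ⟨c, hc⟩ := isConj_iff.1 (hconj z y hz (orderOf_eq_prime (by rw [pow_two]; exact hexp y hy) hy1))
  rw [mem_center_iff.1 hzc c, mul_inv_cancel_right] at hc
  exact hyz hc.symm

end Cfsg.Agent.H24.KleinBlock
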