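import Cfsg.Agent.S5212
import Cfsg.Agent.S0949
import Cfsg.Agent.S1896
import Cfsg.Agent.S5076
import Cfsg.Agent.Fusion.Complements
import Cfsg.Agent.Fusion.Frobenius
import Cfsg.Agent.Cores.PCore

/-!
# Sylow 2-subgroups with a cyclic normal subgroup and cyclic quotient of order > 2
-/

set_option autoImplicit false

namespace Cfsg.Agent.H24.MetaSylow

open Subgroup

universe u

theorem card_le_two_of_sq {C : Type*} [Group C] [Finite C] [IsCyclic C]
    (h : ∀ x : C, x ^ 2 = 1) : Nat.card C ≤ 2 := by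
  obtain ⟨g, hg⟩ := IsCyclic.exists_generator (α := C)
  rw [← orderOf_eq_card_of_forall_mem_zpowers hg]
  exact Nat.le_of_dvd (by norm_num) (orderOf_dvd_of_pow_eq_one (h g))

/-- A homomorphism into a cyclic group kills squares if the generators square to the kernel. -/
theorem sq_eq_one_of_closure {S C : Type*} [Group S] [Group C] [IsCyclic C] (f : S →* C)
    (hf : Function.Surjective f) {X : Set S} (hX : closure X = ⊤) (h : ∀ x ∈ X, f x ^ 2 = 1) :
    ∀ c : C, c ^ 2 = 1 := by
  intro c
  obtain ⟨s, rfl⟩ := hf c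
  have hs : s ∈ closure X := hX ▸ mem_top s
  let _ : CommGroup C := IsCyclic.commGroup
  induction hs using Subgroup.closure_induction with
  | mem x hx => exact h x hx
  | one => simp
  | mul a b _ _ ha hb => rw [map_mul, mul_pow, ha, hb, one_mul]
  | inv a _ ha => rw [map_inv, inv_pow, ha, inv_one]

theorem sq_of_dihedral {C : Type*} [Group C] [IsCyclic C] {m : ℕ} (f : DihedralGroup m →* C)
    (hf : Function.Surjective f) : ∀ c : C, c ^ 2 = 1 := by
  refine sq_eq_one_of_closure f hf (X := Set.range DihedralGroup.sr) ?_ ?_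
  · rw [eq_top_iff]
    rintro (i | i) -
    · rw [show DihedralGroup.r i = DihedralGroup.sr 0 * DihedralGroup.sr i by simp]
      exact mul_mem (subset_closure ⟨0, rfl⟩) (subset_closure ⟨i, rfl⟩)
    · exact subset_closure ⟨i, rfl⟩
  · rintro _ ⟨i, rfl⟩
    rw [← map_pow, pow_two, DihedralGroup.sr_mul_self, map_one]

theorem sq_of_quaternion {C : Type*} [Group C] [IsCyclic C] {m : ℕ} (hm : Even m)
    (f : QuaternionGroup m →* C) (hf : Function.Surjective f) : ∀ c : C, c ^ 2 = 1 := by
  let _ : CommGroup C := IsCyclic.commGroup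
  have ha : ∀ i : ZMod (2 * m), f (QuaternionGroup.a i) ^ 2 = 1 := by
    intro i
    have h1 : QuaternionGroup.xa 0 * QuaternionGroup.a i =
        QuaternionGroup.a (-i) * QuaternionGroup.xa (0 : ZMod (2 * m)) := by simp
    have h2 := congrArg f h1
    rw [map_mul, map_mul, mul_comm] at h2
    have h3 := mul_right_cancel h2
    have h4 : QuaternionGroup.a i * QuaternionGroup.a (-i) = (1 : QuaternionGroup m) := by
      rw [QuaternionGroup.a_mul_a, add_neg_cancel]
      rfl
    have h5 := congrArg f h4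
    rwa [map_mul, ← h3, ← pow_two, map_one] at h5
  refine sq_eq_one_of_closure f hf (X := Set.univ) closure_univ ?_
  rintro (i | i) -
  · exact ha i
  · obtain ⟨k, rfl⟩ := hm
    rw [← map_pow, QuaternionGroup.xa_sq,
      show QuaternionGroup.a ((k + k : ℕ) : ZMod (2 * (k + k))) =
        QuaternionGroup.a ((k : ℕ) : ZMod (2 * (k + k))) ^ 2 by
          rw [pow_two, QuaternionGroup.a_mul_a]; push_cast; rfl, map_pow]
    exact ha _

theorem sq_of_quasiDihedral {S C : Type*} [Group S] [Finite S] [Group C] [IsCyclic C]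
    (hS : Cfsg.IsQuasiDihedral S) (f : S →* C) (hf : Function.Surjective f) :
    ∀ c : C, c ^ 2 = 1 := by
  obtain ⟨n, hn, hcard, x, y, hx, hy, hyx⟩ := hS
  let _ : CommGroup C := IsCyclic.commGroup
  have hy2 : f y ^ 2 = 1 := by rw [← map_pow, ← hy, pow_orderOf_eq_one, map_one]
  have hyx' : y ∉ zpowers x := by
    intro hmem
    have hc : y * x * y⁻¹ = x := by
      obtain ⟨k, rfl⟩ := mem_zpowers_iff.mp hmem
      group
    rw [hyx] at hc
    have h4 : (4 : ℕ) ≤ 2 ^ (n - 1) := (Nat.pow_le_pow_right two_pos (show 2 ≤ n - 1 by omega))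
    have hdvd : orderOf x ∣ 2 ^ (n - 1) - 2 := by
      apply orderOf_dvd_of_pow_eq_one
      apply mul_right_cancel (b := x)
      rw [one_mul, ← pow_succ, show 2 ^ (n - 1) - 2 + 1 = 2 ^ (n - 1) - 1 by omega, hc]
    rw [hx] at hdvd
    have := Nat.le_of_dvd (by omega) hdvd
    have h2 : 2 ^ (n - 1) ≤ 2 ^ n := Nat.pow_le_pow_right two_pos (by omega)
    omega
  have htop : closure ({x, y} : Set S) = ⊤ := by
    have hle : zpowers x ≤ closure ({x, y} : Set S) := zpowers_le.mpr (subset_closure (by simp))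
    have hd := card_dvd_of_le hle
    have hd2 := card_subgroup_dvd_card (closure ({x, y} : Set S))
    rw [Nat.card_zpowers, hx] at hd
    rw [hcard] at hd2
    obtain ⟨j, hj, hjc⟩ := (Nat.dvd_prime_pow Nat.prime_two).mp hd2
    rw [hjc] at hd
    have hnj := (Nat.pow_dvd_pow_iff_le_right one_lt_two).mp hd
    rcases Nat.lt_or_ge n j with hlt | hge
    · exact eq_top_of_card_eq _ (by rw [hjc, hcard, show j = n + 1 by omega])
    · exfalso
      refine hyx' ((eq_of_le_of_card_ge hle ?_).symm ▸ subset_closure (by simp))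
      rw [hjc, Nat.card_zpowers, hx]
      exact Nat.pow_le_pow_right two_pos hge
  have hx2 : f x ^ 2 = 1 := by
    have h1 := congrArg f hyx
    rw [map_mul, map_mul, map_inv, mul_comm (f y), mul_inv_cancel_right, map_pow] at h1
    have h4 : (4 : ℕ) ≤ 2 ^ (n - 1) := (Nat.pow_le_pow_right two_pos (show 2 ≤ n - 1 by omega))
    have h3 : f x ^ (2 ^ (n - 1) - 2) = 1 := by
      apply mul_right_cancel (b := f x)
      rw [one_mul, ← pow_succ, show 2 ^ (n - 1) - 2 + 1 = 2 ^ (n - 1) - 1 by omega, ← h1]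
    have h5 : f x ^ 2 ^ n = 1 := by rw [← map_pow, ← hx, pow_orderOf_eq_one, map_one]
    have h6 := pow_gcd_eq_one.2 ⟨h3, h5⟩
    obtain ⟨d, hd, hdg⟩ := (Nat.dvd_prime_pow Nat.prime_two).mp
      (Nat.gcd_dvd_right (2 ^ (n - 1) - 2) (2 ^ n))
    rw [hdg] at h6
    rcases Nat.lt_or_ge d 2 with hlt | hge
    · interval_cases d
      · rw [pow_zero, pow_one] at h6
        rw [h6, one_pow]
      · rwa [pow_one] at h6
    · exfalso
      have h4' : 4 ∣ 2 ^ (n - 1) - 2 := ((pow_dvd_pow 2 hge).trans (hdg ▸ Nat.gcd_dvd_left _ _))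
      have h4'' : 4 ∣ 2 ^ (n - 1) := pow_dvd_pow 2 (show 2 ≤ n - 1 by omega)
      omega
  refine sq_eq_one_of_closure f hf htop ?_
  rintro z (rfl | rfl)
  exacts [hx2, hy2]

theorem sq_four : ∀ z : Multiplicative (ZMod 2 × ZMod 2), z ^ 2 = 1 := by decide

variable {G : Type u} [Group G] [Finite G]

/-- A group with a normal 2-complement is solvable, given solvability of odd order subgroups. -/
theorem isSolvable_of_complement
    (hodd : ∀ K : Subgroup G, Odd (Nat.card K) → Group.IsSolvable K)
    (h : Cfsg.HasNormalPComplement 2 G) : Group.IsSolvable G := by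
  have : Fact (Nat.Prime 2) := ⟨Nat.prime_two⟩
  obtain ⟨P, N, hN, hcomp⟩ := h
  have hNodd : Odd (Nat.card N) := Nat.not_even_iff_odd.1 fun he =>
    Cfsg.Agent.Fusion.not_dvd_card_of_isComplement' P hcomp he.two_dvd
  have := hodd N hNodd
  have : Group.IsNilpotent (G ⧸ N) :=
    (Cfsg.Agent.Fusion.isPGroup_quotient_of_isComplement' P hcomp).isNilpotent
  have : Group.IsSolvable (G ⧸ N) := inferInstance
  exact Group.isSolvable_of_ker_le_range N.subtype (QuotientGroup.mk' N)
    (by rw [QuotientGroup.ker_mk', range_subtype])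

/-- Elements of odd order normalising a subgroup on which they act like elements of `S`
centralise it. -/
theorem centralize_of_inner (S : Sylow 2 G) {Q : Subgroup G} {g s : G}
    (hg : g ∈ normalizer (Q : Set G)) (hgo : (orderOf g).Coprime 2) (hs : s ∈ (S : Subgroup G))
    (he : ∀ x ∈ Q, g * x * g⁻¹ = s * x * s⁻¹) : g ∈ centralizer (Q : Set G) := by
  have hit : ∀ k : ℕ, ∀ x ∈ Q, g ^ k * x * (g ^ k)⁻¹ = s ^ k * x * (s ^ k)⁻¹ := by
    intro k
    induction k with
    | zero => simp
    | succ k ih =>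
      intro x hx
      have hx' : g * x * g⁻¹ ∈ Q := (mem_normalizer_iff.mp hg x).mp hx
      calc g ^ (k + 1) * x * (g ^ (k + 1))⁻¹ = g ^ k * (g * x * g⁻¹) * (g ^ k)⁻¹ := by
            rw [pow_succ]; group
        _ = s ^ k * (g * x * g⁻¹) * (s ^ k)⁻¹ := ih _ hx'
        _ = s ^ k * (s * x * s⁻¹) * (s ^ k)⁻¹ := by rw [he x hx]
        _ = _ := by rw [pow_succ]; group
  refine mem_centralizer_iff.mpr fun x hx => ?_
  obtain ⟨j, hj⟩ := S.isPGroup' ⟨s, hs⟩
  have hsj : s ^ 2 ^ j = 1 := congrArg Subtype.val hj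
  have hc : Commute (s ^ orderOf g) x := by
    have := hit (orderOf g) x hx
    rw [pow_orderOf_eq_one, one_mul, inv_one, mul_one] at this
    exact (eq_mul_inv_iff_mul_eq.mp this).symm
  have hsmem : Commute s x := by
    obtain ⟨e, he'⟩ := exists_pow_eq_self_of_coprime (x := s) (n := orderOf g)
      ((hgo.pow_right j).coprime_dvd_right (orderOf_dvd_of_pow_eq_one hsj))
    rw [← he']
    exact hc.pow_left e
  have h1 := he x hx
  rw [hsmem.eq, mul_inv_cancel_right] at h1
  exact (mul_inv_eq_iff_eq_mul.mp h1).symm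

/-- A Sylow 2-subgroup with a cyclic normal subgroup with cyclic quotient of order > 2 forces
solvability, given solvability of odd order subgroups and quotients. -/
theorem isSolvable (hodd : ∀ K : Subgroup G, Odd (Nat.card K) → Group.IsSolvable K)
    (S : Sylow 2 G) (N : Subgroup ↥(S : Subgroup G)) [N.Normal] (hNc : IsCyclic N)
    (hQc : IsCyclic (↥(S : Subgroup G) ⧸ N)) (hQ : 2 < Nat.card (↥(S : Subgroup G) ⧸ N)) :
    Group.IsSolvable G := by
  classical
  have : Fact (Nat.Prime 2) := ⟨Nat.prime_two⟩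
  have hm : Cfsg.IsMetacyclic ↥(S : Subgroup G) := ⟨N, inferInstance, hNc, hQc⟩
  have hnosq : ¬ ∀ c : ↥(S : Subgroup G) ⧸ N, c ^ 2 = 1 := fun h => by
    have := card_le_two_of_sq h
    omega
  by_cases hab : ∀ a b : ↥(S : Subgroup G), a * b = b * a
  · have : IsMulCommutative (S : Subgroup G) := ⟨⟨hab⟩⟩
    by_cases hA : IsPGroup 2 (MulAut ↥(S : Subgroup G))
    · refine isSolvable_of_complement hodd
        (Cfsg.Agent.Fusion.hasNormalPComplement_of_abelian S fun g hg hgo => ?_)
      refine mem_centralizer_iff.mpr fun x hx => ?_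
      let e : MulAut ↥(S : Subgroup G) :=
        (S : Subgroup G).normalizerMonoidHom ⟨g, hg⟩
      have h1 : e ^ orderOf g = 1 := by
        rw [← map_pow, show (⟨g, hg⟩ : normalizer ((S : Subgroup G) : Set G)) ^ orderOf g = 1 from
          Subtype.ext (pow_orderOf_eq_one g), map_one]
      obtain ⟨k, hk⟩ := hA e
      have h2 := pow_gcd_eq_one.2 ⟨h1, hk⟩
      rw [(hgo.pow_right k : (orderOf g).Coprime (2 ^ k)), pow_one] at h2
      have h4 := congrArg Subtype.val (DFunLike.congr_fun h2 (⟨x, hx⟩ : ↥(S : Subgroup G)))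
      have h3 : g * x * g⁻¹ = x := h4
      exact (mul_inv_eq_iff_eq_mul.mp h3).symm
    rcases Cfsg.Agent.S1896.result S.isPGroup' hm hA with ⟨⟨e⟩⟩ | ⟨n, ⟨e⟩⟩
    · exfalso
      refine hnosq (sq_of_quaternion (m := 2) even_two ((QuotientGroup.mk' N).comp e.symm.toMonoidHom)
        ((QuotientGroup.mk'_surjective N).comp e.symm.surjective))
    · let e' : (S : Subgroup G) ≃* Multiplicative (ZMod (2 ^ n) × ZMod (2 ^ n)) :=
        e.trans (MulEquiv.prodMultiplicative _ _).symm
      have hn : 2 ≤ n := by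
        by_contra hlt
        refine hnosq fun c => ?_
        obtain ⟨s, rfl⟩ := QuotientGroup.mk'_surjective N c
        have hsq : s ^ 2 = 1 := e'.injective (by
          rw [map_pow, map_one]
          interval_cases n
          · exact Subsingleton.elim (α := Multiplicative (ZMod 1 × ZMod 1)) _ _
          · exact sq_four _)
        rw [← map_pow, hsq, map_one]
      set O := Cfsg.oddCore G
      have hOodd : Odd (Nat.card O) := Cfsg.Agent.Cores.odd_card_oddCore
      let Sb := S.mapSurjective (QuotientGroup.mk'_surjective O)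
      have hinj : Function.Injective ((QuotientGroup.mk' O).subgroupMap (S : Subgroup G)) := by
        rw [injective_iff_map_eq_one]
        intro s hs
        have hsO : (s : G) ∈ O := (QuotientGroup.eq_one_iff _).mp (congrArg Subtype.val hs)
        obtain ⟨j, hj⟩ := S.isPGroup' s
        have h2 := pow_gcd_eq_one.2 ⟨(congrArg Subtype.val hj : (s : G) ^ 2 ^ j = 1),
          (congrArg Subtype.val (pow_card_eq_one' (x := (⟨s, hsO⟩ : O))) :
            (s : G) ^ Nat.card O = 1)⟩
        rw [((Nat.coprime_two_left.2 hOodd).pow_left j), pow_one] at h2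
        exact Subtype.ext h2
      let eb : (Sb : Subgroup (G ⧸ O)) ≃* Multiplicative (ZMod (2 ^ n) × ZMod (2 ^ n)) :=
        (MulEquiv.ofBijective ((QuotientGroup.mk' O).subgroupMap (S : Subgroup G))
          ⟨hinj, (QuotientGroup.mk' O).subgroupMap_surjective _⟩).symm.trans e'
      have hbot : ∀ K : Subgroup (G ⧸ O), K.Normal → Odd (Nat.card K) → K = ⊥ := fun K hK hKo => by
        have := hK
        refine le_bot_iff.mp ((Cfsg.Agent.Cores.le_oddCore hKo).trans ?_)
        exact le_of_eq (Cfsg.Agent.Cores.pPrimeCore_quotient_pPrimeCore (p := 2))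
      obtain ⟨hSn, -, hidx⟩ := Cfsg.Agent.S0949.result Sb n hn eb hbot
      have := hSn
      have : Group.IsNilpotent (Sb : Subgroup (G ⧸ O)) := Sb.isPGroup'.isNilpotent
      have : Group.IsSolvable (Sb : Subgroup (G ⧸ O)) := inferInstance
      have : Group.IsSolvable ((G ⧸ O) ⧸ (Sb : Subgroup (G ⧸ O))) := by
        rcases hidx with h1 | h3
        · have : Subsingleton ((G ⧸ O) ⧸ (Sb : Subgroup (G ⧸ O))) :=
            (Nat.card_eq_one_iff_unique.mp (by rw [← index_eq_card, h1])).1
          exact inferInstance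
        · have : Fact (Nat.Prime 3) := ⟨Nat.prime_three⟩
          have := (IsPGroup.of_card (p := 3) (n := 1)
            (show Nat.card ((G ⧸ O) ⧸ (Sb : Subgroup (G ⧸ O))) = 3 ^ 1 by
              rw [← index_eq_card, h3, pow_one])).isNilpotent
          exact inferInstance
      have : Group.IsSolvable (G ⧸ O) :=
        Group.isSolvable_of_ker_le_range (Sb : Subgroup (G ⧸ O)).subtype
          (QuotientGroup.mk' (Sb : Subgroup (G ⧸ O))) (by rw [QuotientGroup.ker_mk', range_subtype])
      have := hodd O hOodd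
      exact Group.isSolvable_of_ker_le_range O.subtype (QuotientGroup.mk' O)
        (by rw [QuotientGroup.ker_mk', range_subtype])
  · refine isSolvable_of_complement hodd ((Cfsg.Agent.Fusion.frobenius_criterion S).mpr
      fun Q hQ g hg hgo => ?_)
    have hd : ¬ ∃ m : ℕ, Nonempty (↥(S : Subgroup G) ≃* DihedralGroup m) := fun ⟨m, ⟨e⟩⟩ =>
      hnosq (sq_of_dihedral ((QuotientGroup.mk' N).comp e.symm.toMonoidHom)
        ((QuotientGroup.mk'_surjective N).comp e.symm.surjective))
    have hq : ¬ ∃ m : ℕ, Nonempty (↥(S : Subgroup G) ≃* QuaternionGroup m) := fun ⟨m, ⟨e⟩⟩ => by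
      rcases Nat.even_or_odd m with he | ho
      · exact hnosq (sq_of_quaternion he ((QuotientGroup.mk' N).comp e.symm.toMonoidHom)
          ((QuotientGroup.mk'_surjective N).comp e.symm.surjective))
      · obtain ⟨j, hj⟩ := IsPGroup.iff_card.mp S.isPGroup'
        have : NeZero m := ⟨fun h0 => by rw [h0] at ho; exact absurd ho (by decide)⟩
        have hcard : 4 * m = 2 ^ j := by
          rw [← hj, Nat.card_congr e.toEquiv, Nat.card_eq_fintype_card, QuaternionGroup.card]
        have hm1 : m = 1 := by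
          obtain ⟨i, -, hi⟩ := (Nat.dvd_prime_pow Nat.prime_two).mp
            (show m ∣ 2 ^ j from hcard ▸ dvd_mul_left m 4)
          rcases i with _ | i
          · simpa using hi
          · rw [hi, pow_succ] at ho
            exact absurd ho (by simp [Nat.not_odd_iff_even])
        subst hm1
        refine hab fun a b => e.injective ?_
        rw [map_mul, map_mul]
        generalize e a = x
        generalize e b = y
        revert x y
        decide
    have hsd : ¬ Cfsg.IsQuasiDihedral ↥(S : Subgroup G) := fun h =>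
      hnosq (sq_of_quasiDihedral h (QuotientGroup.mk' N) (QuotientGroup.mk'_surjective N))
    have hh : ¬ ∃ n k : ℕ, Nonempty (↥(S : Subgroup G) ≃* Multiplicative (Fin k → ZMod (2 ^ n))) :=
      fun ⟨n, k, ⟨e⟩⟩ => hab fun a b => e.injective (by rw [map_mul, map_mul, mul_comm])
    have hF := Cfsg.Agent.S5212.result S.isPGroup' _ (Cfsg.Agent.S5076.result 2 S) hm hh hd hq hsd Q
    have hmem : ((MulAut.conj g).toMonoidHom.comp Q.subtype : ↥Q →* G) ∈
        (Cfsg.groupFusionSystem (S : Subgroup G)).Hom Q :=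
      ⟨hQ, fun x => hQ ((mem_normalizer_iff.mp hg x).mp x.2), g, fun _ => rfl⟩
    rw [hF] at hmem
    obtain ⟨-, s, hs, he⟩ := hmem
    exact centralize_of_inner S hg hgo hs fun x hx => he ⟨x, hx⟩

end Cfsg.Agent.H24.MetaSylow
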