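import Cfsg.Agent.BlockBasic.CoverDefect
import Cfsg.Agent.BlockBasic.Kernel

/-!
# Block idempotents live on the centraliser of a normal `p`-subgroup
-/

set_option autoImplicit false

namespace Cfsg.Agent.H24.NormalPSupport

open BlockBasic CharBasic

universe u

variable {G : Type u} [Group G] {p : ℕ} [Fact p.Prime] {M : Ideal AlgInt}

/-- If classes outside the normal subgroup `C` have central characters in the ideal, a block
idempotent is the idempotent of the covered blocks of `C`. -/
theorem blockElem_eq_orbitElem [Fintype G] (hM : IsPModular p M) (C : Subgroup G) [C.Normal]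
    [Fintype C] (hout : ∀ (χ : IrrCharacter G) (g : G), g ∉ C →
      MemLocalIdeal M (centralChar (χ : G → ℂ) g)) {B : Set (IrrCharacter G)}
    (hB : IsPBlock M B) {χ₀ : IrrCharacter G} (hχ₀ : χ₀ ∈ B) {θ : IrrCharacter C}
    (hθ : classInner (fun n : C => (χ₀ : G → ℂ) n) (θ : C → ℂ) ≠ 0) :
    blockElem B = orbitElem C M θ := by
  classical
  obtain ⟨hc, hsupp, hres, -⟩ := orbitElem_spec C hM θ
  refine eq_of_omega_eq (isCentralElt_blockElem B) hc fun χ => ?_
  obtain ⟨φ, hφ⟩ := exists_constituent χ C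
  rw [omega_blockElem, omega_eq_omega_resMap χ φ hφ hc hsupp, hres, omega_blockElem]
  by_cases hχ : χ ∈ B
  · rw [if_pos hχ, if_pos (mem_twistOrbit hM hB hχ₀ hχ hθ hφ)]
  · rw [if_neg hχ, if_neg]
    rintro ⟨d, hd⟩
    apply hχ
    have hθd : classInner (fun n : C => (χ₀ : G → ℂ) n) (H80.conjTwist C θ d : C → ℂ) ≠ 0 := by
      rw [H80.classInner_res_conjTwist C (IsIrr.isClassFunction χ₀.2) θ d]
      exact hθ
    rw [isPBlock_eq_blockOf hM hB hχ₀]
    intro g
    by_cases hg : g ∈ C
    · rw [(classInner_ne_zero_iff_centralChar χ₀ _).1 hθd ⟨g, hg⟩,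
        (classInner_ne_zero_iff_centralChar χ φ).1 hφ ⟨g, hg⟩,
        ← omega_resMap_classSum, ← omega_resMap_classSum]
      exact omega_congr hM (IsIrr.isClassFunction (H80.conjTwist C θ d).2)
        (IsIrr.isClassFunction φ.2) hd (isCentralElt_resMap (isCentralElt_classSum g))
        (isIntElt_resMap (isIntElt_classSum hM g))
    · exact memLocalIdeal_sub hM (hout χ₀ g hg) (hout χ g hg)

/-- A block idempotent vanishes off the centraliser of a normal `p`-subgroup. -/
theorem blockCoeff_eq_zero [Finite G] (hM : IsPModular p M) (R : Subgroup G) [R.Normal]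
    (hR : IsPGroup p R) {B : Set (IrrCharacter G)} (hB : IsPBlock M B) {g : G}
    (hg : g ∉ Subgroup.centralizer (R : Set G)) : blockCoeff B g = 0 := by
  classical
  cases nonempty_fintype G
  haveI := Fintype.ofFinite (Subgroup.centralizer (R : Set G))
  obtain ⟨χ₀, hχ₀⟩ := isPBlock_nonempty hM hB
  obtain ⟨θ, hθ⟩ := exists_constituent χ₀ (Subgroup.centralizer (R : Set G))
  rw [← coeff_blockElem, blockElem_eq_orbitElem hM _
    (fun χ g hg => centralChar_mem_of_not_centralizer hM R hR χ hg) hB hχ₀ hθ]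
  exact (orbitElem_spec _ hM θ).2.1 g hg

end Cfsg.Agent.H24.NormalPSupport
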