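import Cfsg.Agent.PGroups.Basic
import Cfsg.Agent.PGroups.NormalSq
import Mathlib.Algebra.BigOperators.GroupWithZero.Action
import Mathlib.GroupTheory.GroupAction.ConjAct
import Mathlib.GroupTheory.QuotientGroup.Basic
import Mathlib.Data.Nat.Choose.Dvd

/-!
A coprime linear group with a normal `p`-subgroup, `p` odd: for every non-trivial element `a` of that
subgroup some vector is fixed by no conjugate of `a`.
-/

set_option linter.style.haveILetI false

namespace Cfsg.Agent.H24.OrbitAvoid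

open Subgroup

variable {p : ℕ} [hp : Fact p.Prime]

section Perm

variable {P : Type*} [Group P] [Finite P] {I : Type*} [MulAction P I] [Finite I]

/-- An odd `p`-group of permutations has a subset with trivial stabiliser. -/
theorem exists_subset_aux (hP : IsPGroup p P) (hp2 : p ≠ 2) :
    ∀ (n : ℕ) (J : Set I) (Q : Subgroup P), J.ncard ≤ n → (∀ g ∈ Q, ∀ i ∈ J, g • i ∈ J) →
      ∃ S ⊆ J, ∀ g ∈ Q, (∀ i ∈ J, (g • i ∈ S ↔ i ∈ S)) → ∀ i ∈ J, g • i = i
  | 0, J, Q, hn, _ => ⟨∅, Set.empty_subset _, fun g _ _ i hi => by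
      have := (Set.ncard_eq_zero (Set.toFinite J)).mp (by omega)
      simp [this] at hi⟩
  | n + 1, J, Q, hn, hJ => by
    rcases J.eq_empty_or_nonempty with rfl | ⟨i0, hi0⟩
    · exact ⟨∅, le_rfl, fun g _ _ i hi => absurd hi (Set.notMem_empty i)⟩
    set J1 : Set I := {i | ∃ g ∈ Q, g • i0 = i} with hJ1def
    have hJ1 : J1 ⊆ J := by rintro i ⟨g, hg, rfl⟩; exact hJ g hg i0 hi0
    have hJ1inv : ∀ g ∈ Q, ∀ i ∈ J1, g • i ∈ J1 := by
      rintro g hg i ⟨k, hk, rfl⟩; exact ⟨g * k, mul_mem hg hk, mul_smul g k i0⟩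
    have hi0J1 : i0 ∈ J1 := ⟨1, one_mem _, one_smul _ _⟩
    by_cases hne : J1 ≠ J
    · have h1 : J1.ncard < J.ncard :=
        Set.ncard_lt_ncard (lt_of_le_of_ne hJ1 hne) (Set.toFinite J)
      have hlt : J \ J1 ⊂ J := ⟨Set.sdiff_subset, fun h => (h hi0).2 hi0J1⟩
      have h2 : (J \ J1).ncard < J.ncard := Set.ncard_lt_ncard hlt (Set.toFinite J)
      have hinv2 : ∀ g ∈ Q, ∀ i ∈ J \ J1, g • i ∈ J \ J1 := fun g hg i hi =>
        ⟨hJ g hg i hi.1, fun h => hi.2 (by simpa using hJ1inv g⁻¹ (inv_mem hg) _ h)⟩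
      obtain ⟨S1, hS1, k1⟩ := exists_subset_aux hP hp2 n J1 Q (by omega) hJ1inv
      obtain ⟨S2, hS2, k2⟩ := exists_subset_aux hP hp2 n (J \ J1) Q (by omega) hinv2
      refine ⟨S1 ∪ S2, Set.union_subset (hS1.trans hJ1) (hS2.trans Set.sdiff_subset),
        fun g hg hS i hi => ?_⟩
      by_cases hi1 : i ∈ J1
      · refine k1 g hg (fun j hj => ?_) i hi1
        have hn2 : ∀ j ∈ J1, j ∉ S2 := fun j hj h => (hS2 h).2 hj
        have := hS j (hJ1 hj)
        simpa [hn2 j hj, hn2 _ (hJ1inv g hg j hj)] using this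
      · refine k2 g hg (fun j hj => ?_) i ⟨hi, hi1⟩
        have hn1 : ∀ j ∈ J \ J1, j ∉ S1 := fun j hj h => hj.2 (hS1 h)
        have := hS j hj.1
        simpa [hn1 j hj, hn1 _ (hinv2 g hg j hj)] using this
    push Not at hne
    by_cases hfix : ∀ g ∈ Q, g • i0 = i0
    · refine ⟨∅, Set.empty_subset _, fun g hg _ i hi => ?_⟩
      obtain ⟨k, hk, rfl⟩ := (hne ▸ hi : i ∈ J1)
      rw [hfix k hk, hfix g hg]
    obtain ⟨M', hM'co, hM'⟩ := (eq_top_or_exists_le_coatom
      ((MulAction.stabilizer P i0).subgroupOf Q)).resolve_left fun h => hfix fun g hg =>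
        (h ▸ mem_top (⟨g, hg⟩ : Q) : (⟨g, hg⟩ : Q) ∈ (MulAction.stabilizer P i0).subgroupOf Q)
    have hidx : M'.index = p := PGroups.index_eq_of_isCoatom (hP.to_subgroup Q) hM'co
    haveI hM'n : M'.Normal := PGroups.normal_of_isCoatom (hP.to_subgroup Q) hM'co
    obtain ⟨x, hx⟩ : ∃ x : Q, x ∉ M' := by
      by_contra h; push Not at h
      exact hM'co.1 (eq_top_iff.mpr fun g _ => h g)
    have hcardq : Nat.card (Q ⧸ M') = p := by rw [← index_eq_card, hidx]
    have hdec : ∀ q : Q, ∃ k < p, (x ^ k)⁻¹ * q ∈ M' := by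
      intro q
      have hx' : (x : Q ⧸ M') ≠ 1 := by rwa [Ne, QuotientGroup.eq_one_iff]
      have := mem_zpowers_of_prime_card hcardq hx' (g' := (q : Q ⧸ M'))
      rw [← mem_powers_iff_mem_zpowers, Submonoid.mem_powers_iff] at this
      obtain ⟨k, hk⟩ := this
      have ho : orderOf (x : Q ⧸ M') = p := orderOf_eq_prime (by rw [← hcardq, pow_card_eq_one']) hx'
      refine ⟨k % p, Nat.mod_lt _ hp.out.pos, ?_⟩
      rw [← QuotientGroup.eq, QuotientGroup.mk_pow, ← ho, pow_mod_orderOf, hk]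
    have hmemx : ∀ k : ℕ, k < p → x ^ k ∈ M' → k = 0 := by
      intro k hk hm
      have hx' : (x : Q ⧸ M') ≠ 1 := by rwa [Ne, QuotientGroup.eq_one_iff]
      have ho : orderOf (x : Q ⧸ M') = p := orderOf_eq_prime (by rw [← hcardq, pow_card_eq_one']) hx'
      rw [← QuotientGroup.eq_one_iff, QuotientGroup.mk_pow, ← orderOf_dvd_iff_pow_eq_one, ho] at hm
      exact Nat.eq_zero_of_dvd_of_lt hm hk
    set M := M'.map Q.subtype
    set B : Set I := MulAction.orbit M i0 with hBdef
    have hBJ : B ⊆ J := by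
      rintro i ⟨⟨m, hm⟩, rfl⟩
      exact hJ m (map_subtype_le _ hm) i0 hi0
    have hBinv : ∀ g ∈ M, ∀ i ∈ B, g • i ∈ B := fun g hg i hi => by
      have := MulAction.mem_orbit i (⟨g, hg⟩ : M)
      rw [MulAction.orbit_eq_iff.mpr hi] at this
      exact this
    have hblock : ∀ g : Q, ∀ i ∈ B, (g : P) • i ∈ B → g ∈ M' := by
      rintro g i ⟨⟨m1, m1', hm1, rfl⟩, rfl⟩ ⟨⟨m2, m2', hm2, rfl⟩, e⟩
      simp only [Subgroup.mk_smul, coe_subtype] at e
      have : (m2'⁻¹ * g * m1' : Q) ∈ (MulAction.stabilizer P i0).subgroupOf Q := by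
        rw [mem_subgroupOf, MulAction.mem_stabilizer_iff]
        push_cast
        rw [mul_smul, mul_smul, ← e, inv_smul_smul]
      have h3 := mul_mem (mul_mem hm2 (hM' this)) (inv_mem hm1)
      simpa [mul_assoc] using h3
    have hcov : ∀ i ∈ J, ∃ k < p, ((x : P) ^ k)⁻¹ • i ∈ B := by
      intro i hi
      obtain ⟨g, hg, rfl⟩ := (hne ▸ hi : i ∈ J1)
      obtain ⟨k, hk, hm⟩ := hdec ⟨g, hg⟩
      refine ⟨k, hk, ⟨⟨_, _, hm, rfl⟩, ?_⟩⟩
      simp [mul_smul]
    have hBlt : B.ncard < J.ncard := by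
      refine Set.ncard_lt_ncard ⟨hBJ, fun h => hx (hblock x i0 (MulAction.mem_orbit_self _) ?_)⟩
        (Set.toFinite J)
      exact h (hJ _ x.2 i0 hi0)
    obtain ⟨S0, hS0B, k0⟩ := exists_subset_aux hP hp2 n B M (by omega) hBinv
    have hodd : Odd B.ncard := by
      obtain ⟨e, he⟩ := (hP.to_subgroup M).card_orbit i0
      rw [← Nat.card_coe_set_eq, hBdef, he]
      exact (hp.out.odd_of_ne_two hp2).pow
    refine ⟨{i | i ∈ J ∧ (i ∈ S0 ∨ ∃ k, 0 < k ∧ k < p ∧ ((x : P) ^ k)⁻¹ • i ∈ B \ S0)},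
      fun i hi => hi.1, fun g hg hS i hi => ?_⟩
    have hxk : ∀ k : ℕ, (x : P) ^ k ∈ Q := fun k => pow_mem x.2 k
    have key : ∀ k < p, ∀ i ∈ B, ((x : P) ^ k • i ∈
        {i | i ∈ J ∧ (i ∈ S0 ∨ ∃ k, 0 < k ∧ k < p ∧ ((x : P) ^ k)⁻¹ • i ∈ B \ S0)} ↔
        if k = 0 then i ∈ S0 else i ∈ B \ S0) := by
      intro k hk i hi
      have huniq : ∀ l < p, ((x : P) ^ l)⁻¹ • (x : P) ^ k • i ∈ B → l = k := by
        intro l hl hm
        rw [← mul_smul] at hm
        have hm' : (x ^ l)⁻¹ * x ^ k ∈ M' := hblock _ i hi (by push_cast; exact hm)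
        rcases le_total l k with hle | hle
        · rw [← Nat.add_sub_cancel' hle, pow_add, inv_mul_cancel_left] at hm'
          have := hmemx _ (by omega) hm'
          omega
        · have hm'' := inv_mem hm'
          rw [mul_inv_rev, inv_inv, ← Nat.add_sub_cancel' hle, pow_add, inv_mul_cancel_left] at hm''
          have := hmemx _ (by omega) hm''
          omega
      constructor
      · rintro ⟨-, h | ⟨l, hl0, hl, h⟩⟩
        · have := huniq 0 hp.out.pos (by simpa using hS0B h)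
          subst this
          simpa using h
        · have := huniq l hl h.1
          subst this
          rw [if_neg hl0.ne', inv_smul_smul] at *
          exact h
      · intro h
        refine ⟨hJ _ (hxk k) i (hBJ hi), ?_⟩
        split_ifs at h with h0
        · subst h0; simpa using Or.inl h
        · exact Or.inr ⟨k, Nat.pos_of_ne_zero h0, hk, by rwa [inv_smul_smul]⟩
    obtain ⟨k, hk, hm⟩ := hdec ⟨g, hg⟩
    have hm' : ((x : P) ^ k)⁻¹ * g ∈ M := ⟨_, hm, by simp⟩
    by_cases h0 : k = 0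
    · subst h0
      rw [pow_zero, inv_one, one_mul] at hm hm'
      obtain ⟨l, hl, hli⟩ := hcov i hi
      set g' := ((x : P) ^ l)⁻¹ * g * (x : P) ^ l with hg'
      have hg'M : g' ∈ M := ⟨_, hM'n.conj_mem _ hm (x ^ l)⁻¹, by simp [hg']⟩
      have := k0 g' hg'M (fun j hj => ?_) _ hli
      · rw [hg', mul_smul, mul_smul, smul_inv_smul] at this
        exact MulAction.injective _ this
      · have h1 := hS ((x : P) ^ l • j) (hJ _ (hxk l) j (hBJ hj))
        have e : g • (x : P) ^ l • j = (x : P) ^ l • g' • j := by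
          rw [hg', ← mul_smul, ← mul_smul]; group
        rw [e, key l hl _ (hBinv g' hg'M j hj), key l hl j hj] at h1
        split_ifs at h1
        · exact h1
        · have := hBinv g' hg'M j hj
          simp only [Set.mem_sdiff, this, hj, true_and] at h1
          exact not_iff_not.mp h1
    · exfalso
      set m := ((x : P) ^ k)⁻¹ * g
      have himg : (fun j => m • j) '' S0 = B \ S0 := by
        have h1 : ∀ j ∈ B, (m • j ∈ B \ S0 ↔ j ∈ S0) := fun j hj => by
          have h1 := hS j (hBJ hj)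
          have e : g • j = (x : P) ^ k • m • j := by
            rw [← mul_smul (_ : P) m, mul_inv_cancel_left]
          rw [e, key k hk _ (hBinv m hm' j hj), if_neg h0] at h1
          have h2 := key 0 hp.out.pos j hj
          rw [pow_zero, one_smul, if_pos rfl] at h2
          exact h1.trans h2
        ext j
        constructor
        · rintro ⟨j', hj', rfl⟩; exact (h1 j' (hS0B hj')).mpr hj'
        · intro hj
          refine ⟨m⁻¹ • j, (h1 _ (hBinv _ (inv_mem hm') j hj.1)).mp ?_, smul_inv_smul _ _⟩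
          rwa [smul_inv_smul]
      have hc := congrArg Set.ncard himg
      rw [Set.ncard_image_of_injective _ (MulAction.injective m)] at hc
      have := Set.ncard_sdiff_add_ncard_of_subset hS0B (Set.toFinite B)
      obtain ⟨c, hc'⟩ := hodd
      omega

end Perm

section Coprime

variable {H V : Type*} [Group H] [AddCommGroup V] [Finite V] [DistribMulAction H V]

theorem eq_zero_of_nsmul (hV : ¬ p ∣ Nat.card V) {v : V} (h : p • v = 0) : v = 0 := by
  rcases (Nat.dvd_prime hp.out).mp (addOrderOf_dvd_of_nsmul_eq_zero h) with h1 | h1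
  · exact AddMonoid.addOrderOf_eq_one_iff.mp h1
  · exact absurd (h1 ▸ addOrderOf_dvd_natCard v) hV

theorem eq_of_nsmul (hV : ¬ p ∣ Nat.card V) {v w : V} (h : p • v = p • w) : v = w :=
  sub_eq_zero.mp (eq_zero_of_nsmul hV (by rw [smul_sub, h, sub_self]))

/-- The sum of the images of `v` under the powers of `g`. -/
def norm (p : ℕ) (g : H) (v : V) : V := ∑ i ∈ Finset.range p, g ^ i • v

theorem norm_of_fixed {g : H} {v : V} (h : g • v = v) : norm p g v = p • v := by
  have : ∀ i ∈ Finset.range p, g ^ i • v = v := fun i _ =>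
    (pow_mem (show g ∈ MulAction.stabilizer H v from h) i : g ^ i ∈ MulAction.stabilizer H v)
  rw [norm, Finset.sum_congr rfl this, Finset.sum_const, Finset.card_range]

theorem norm_fixed {g : H} (hg : g ^ p = 1) (v : V) : g • norm p g v = norm p g v := by
  have h := Finset.sum_range_succ (fun i => g ^ i • v) p
  rw [Finset.sum_range_succ', hg, pow_zero] at h
  have h' := add_right_cancel h
  rw [norm, Finset.smul_sum]
  convert h' using 2 with i hi
  rw [← mul_smul, ← pow_succ']

theorem norm_commute {g c : H} (hc : Commute c g) (v : V) : c • norm p g v = norm p g (c • v) := by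
  rw [norm, norm, Finset.smul_sum]
  refine Finset.sum_congr rfl fun i _ => ?_
  rw [← mul_smul, ← mul_smul, (hc.pow_right i).eq]

theorem norm_add (g : H) (v w : V) : norm p g (v + w) = norm p g v + norm p g w := by
  simp [norm, smul_add, Finset.sum_add_distrib]

theorem smul_eq_of_zpow {z : H} (hz : z ^ p = 1) {k : ℤ} (hk : ¬ (p : ℤ) ∣ k) {u : V}
    (h : z ^ k • u = u) : z • u = u := by
  obtain ⟨a, b, hab⟩ := ((Nat.prime_iff_prime_int.mp hp.out).coprime_iff_not_dvd).mpr hk
  have e : z = (z ^ k) ^ b := by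
    conv_lhs => rw [← zpow_one z, ← hab]
    rw [zpow_add, mul_comm a, zpow_mul, zpow_natCast, hz, one_zpow, one_mul, mul_comm, zpow_mul]
  have : (z ^ k) ^ b ∈ MulAction.stabilizer H u := zpow_mem (MulAction.mem_stabilizer_iff.mpr h) b
  rw [← e] at this
  exact this

theorem exists_norm_ne_zero (hV : ¬ p ∣ Nat.card V) {z b : H} (hz : z ^ p = 1) (hzb : Commute z b)
    (hfpf : ∀ u : V, z • u = u → u = 0) {w : V} (hw : w ≠ 0) :
    ∃ k : ℕ, norm p (z ^ k * b) w ≠ 0 := by
  by_contra h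
  push Not at h
  refine hw (eq_zero_of_nsmul hV ?_)
  have h1 : ∑ k ∈ Finset.range p, norm p (z ^ k * b) w = 0 := Finset.sum_eq_zero fun k _ => h k
  simp only [norm] at h1
  rw [Finset.sum_comm] at h1
  have h2 : ∀ i ∈ Finset.range p, i ≠ 0 → ∑ k ∈ Finset.range p, (z ^ k * b) ^ i • w = 0 := by
    intro i hi hi0
    have e : ∀ k, (z ^ k * b) ^ i • w = (z ^ i) ^ k • (b ^ i • w) := fun k => by
      rw [← mul_smul, (hzb.pow_left k).mul_pow, ← pow_mul, ← pow_mul, mul_comm k i]
    simp only [e]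
    change norm p (z ^ i) (b ^ i • w) = 0
    refine hfpf _ (smul_eq_of_zpow (p := p) hz (k := (i : ℤ)) ?_ ?_)
    · rw [Int.natCast_dvd_natCast]
      exact fun hd => hi0 (Nat.eq_zero_of_dvd_of_lt hd (Finset.mem_range.mp hi))
    · rw [zpow_natCast]
      exact norm_fixed (by rw [← pow_mul, mul_comm, pow_mul, hz, one_pow]) _
  rw [Finset.sum_eq_single 0 h2 (fun h0 => absurd (Finset.mem_range.mpr hp.out.pos) h0)] at h1
  simpa using h1

theorem zpow_conj_of_twist {a b z : H} (hza : Commute z a) {k : ℤ}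
    (h : a * b = z ^ k * (b * a)) (j : ℤ) : a ^ j * b = z ^ (k * j) * (b * a ^ j) := by
  have h1 : b * a * b⁻¹ = z ^ (-k) * a := by
    rw [zpow_neg, eq_inv_mul_iff_mul_eq, ← mul_assoc, ← mul_assoc, mul_assoc _ b a, ← h,
      mul_inv_cancel_right]
  have h2 : b * a ^ j * b⁻¹ = z ^ (-k * j) * a ^ j := by
    rw [← conj_zpow, h1, (hza.zpow_left (-k)).mul_zpow, ← zpow_mul]
  rw [mul_inv_eq_iff_eq_mul] at h2
  rw [h2, ← mul_assoc, ← mul_assoc, ← zpow_add, neg_mul, add_neg_cancel, zpow_zero, one_mul]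

variable {z : H}

/-- A group of exponent `p` with commutators in a fixed point free central subgroup of order `p`,
and with nothing else central, has a regular orbit. -/
theorem exists_regular (hV : ¬ p ∣ Nat.card V) (hp2 : p ≠ 2) (hz : z ^ p = 1)
    (hfpf : ∀ u : V, z • u = u → u = 0) :
    ∀ (n : ℕ) (W : AddSubgroup V) (Q : Subgroup H), Nat.card W ≤ n → W ≠ ⊥ → z ∈ Q →
      (∀ g ∈ Q, Commute z g) → (∀ g ∈ Q, ∀ w ∈ W, g • w ∈ W) → (∀ g ∈ Q, g ^ p = 1) →
      (∀ g ∈ Q, ∀ y ∈ Q, ∃ k : ℤ, g * y = z ^ k * (y * g)) →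
      (∀ g ∈ Q, (∀ y ∈ Q, Commute g y) → ∃ k : ℤ, ∀ w ∈ W, g • w = z ^ k • w) →
      ∃ v ∈ W, ∀ g ∈ Q, g • v = v → ∀ w ∈ W, g • w = w
  | 0, W, _, hn, _, _, _, _, _, _, _ => absurd Nat.card_pos (not_lt.mpr hn)
  | n + 1, W, Q, hn, hW, hzQ, hzc, hWinv, hexp, htw, hcen => by
    obtain ⟨w0, hw0W, hw0⟩ : ∃ w ∈ W, w ≠ 0 := by
      by_contra h; push Not at h
      exact hW (eq_bot_iff.mpr fun w hw => AddSubgroup.mem_bot.mpr (h w hw))
    by_cases hab : ∀ g ∈ Q, ∀ y ∈ Q, Commute g y
    · refine ⟨w0, hw0W, fun g hg hgw w hw => ?_⟩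
      obtain ⟨k, hk⟩ := hcen g hg (hab g hg)
      rw [hk w hw]
      rw [hk w0 hw0W] at hgw
      by_cases hd : (p : ℤ) ∣ k
      · obtain ⟨l, rfl⟩ := hd
        rw [zpow_mul, zpow_natCast, hz, one_zpow, one_smul]
      · exact absurd (hfpf _ (smul_eq_of_zpow hz hd hgw)) hw0
    push Not at hab
    obtain ⟨x, hx, b, hb, hxb⟩ := hab
    obtain ⟨c, hc⟩ := htw x hx b hb
    have hcne : ¬ (p : ℤ) ∣ c := by
      rintro ⟨l, rfl⟩
      rw [zpow_mul, zpow_natCast, hz, one_zpow, one_mul] at hc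
      exact hxb hc
    have hbp := hexp b hb
    have hzb := hzc b hb
    have hpow : ∀ k : ℤ, (z ^ k * b) ^ p = 1 := fun k => by
      rw [(hzb.zpow_left k).mul_pow, hbp, mul_one, ← zpow_natCast, ← zpow_mul, mul_comm, zpow_mul,
        zpow_natCast, hz, one_zpow]
    have hcomm : ∀ k l : ℤ, Commute (z ^ k * b) (z ^ l * b) := fun k l =>
      Commute.mul_left ((Commute.refl z).zpow_zpow k l |>.mul_right (hzb.zpow_left k))
        (((hzb.zpow_left l).symm).mul_right (Commute.refl b))
    -- vectors fixed by two different twists of `b` vanish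
    have hzero : ∀ (k l : ℤ) (u : V), ¬ (p : ℤ) ∣ k - l → (z ^ l * b) • u = u →
        norm p (z ^ k * b) u = 0 := by
      intro k l u hkl hu
      set t := norm p (z ^ k * b) u
      have h1 : (z ^ k * b) • t = t := norm_fixed (hpow k) u
      have h2 : (z ^ l * b) • t = t := by
        rw [norm_commute (hcomm l k), hu]
      refine hfpf t (smul_eq_of_zpow hz hkl ?_)
      rw [sub_eq_neg_add, zpow_add]
      conv_lhs => rw [← h2, ← mul_smul, ← mul_assoc, mul_assoc (z ^ (-l)), ← zpow_add]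
      rw [add_comm k l, zpow_add, ← mul_assoc (z ^ (-l)), ← zpow_add, neg_add_cancel, zpow_zero,
        one_mul, h1]
    have hmove : ∀ (g : H), g ∈ Q → ∀ (e : ℤ), g * b = z ^ e * (b * g) → ∀ (l : ℤ) (u : V),
        (z ^ l * b) • u = u → (z ^ (l + e) * b) • (g • u) = g • u := by
      intro g hg e he l u hu
      conv_rhs => rw [← hu]
      rw [← mul_smul, ← mul_smul]
      congr 1
      calc z ^ (l + e) * b * g = z ^ l * (z ^ e * (b * g)) := by
            rw [zpow_add, mul_assoc, mul_assoc]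
        _ = g * (z ^ l * b) := by
            rw [← he, ← mul_assoc, ← mul_assoc, ((hzc g hg).zpow_left l).eq]
    set W0 : AddSubgroup V :=
      { carrier := {w | w ∈ W ∧ b • w = w}
        zero_mem' := ⟨W.zero_mem, smul_zero b⟩
        add_mem' := fun {u v} hu hv => ⟨W.add_mem hu.1 hv.1, by rw [smul_add, hu.2, hv.2]⟩
        neg_mem' := fun {u} hu => ⟨W.neg_mem hu.1, by rw [smul_neg, hu.2]⟩ } with hW0def
    obtain ⟨u, t, hut⟩ := ((Nat.prime_iff_prime_int.mp hp.out).coprime_iff_not_dvd).mpr hcne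
    -- `u * p + t * c = 1`
    have hW0ne : W0 ≠ ⊥ := by
      obtain ⟨k, hk⟩ := exists_norm_ne_zero hV hz hzb hfpf hw0
      set w1 := norm p (z ^ k * b) w0
      have hw1W : w1 ∈ W := W.sum_mem fun i _ =>
        hWinv _ (pow_mem (mul_mem (pow_mem hzQ k) hb) i) _ hw0W
      have hw1 : (z ^ (k : ℤ) * b) • w1 = w1 := by
        rw [zpow_natCast]
        refine norm_fixed ?_ w0
        have := hpow k
        rwa [zpow_natCast] at this
      set j : ℤ := -(k : ℤ) * t
      have h2 := hmove (x ^ j) (zpow_mem hx j) (c * j) (zpow_conj_of_twist (hzc x hx) hc j) k w1 hw1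
      have hd : z ^ ((k : ℤ) + c * j) = 1 := by
        rw [show (k : ℤ) + c * j = (p : ℤ) * (u * k) by
          simp only [j]; linear_combination (-(k : ℤ)) * hut,
          zpow_mul, zpow_natCast, hz, one_zpow]
      rw [hd, one_mul] at h2
      intro hbot
      have hmem : x ^ j • w1 ∈ W0 := ⟨hWinv _ (zpow_mem hx j) _ hw1W, h2⟩
      rw [hbot, AddSubgroup.mem_bot, smul_eq_zero_iff_eq] at hmem
      exact hk hmem
    have hW0lt : Nat.card W0 < Nat.card W := by
      have hle : W0 ≤ W := fun w hw => hw.1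
      refine lt_of_le_of_ne (AddSubgroup.card_le_of_le hle) fun he => ?_
      have heq : W0 = W := AddSubgroup.eq_of_le_of_card_ge hle he.ge
      have hfix : ∀ w ∈ W, b • w = w := fun w hw => (heq.symm ▸ hw : w ∈ W0).2
      refine hw0 (hfpf _ (smul_eq_of_zpow hz hcne ?_))
      have h1 : (x * b) • w0 = x • w0 := by rw [mul_smul, hfix w0 hw0W]
      rw [hc, mul_smul, mul_smul, hfix _ (hWinv x hx _ hw0W)] at h1
      have h2 : z ^ c • w0 = w0 := by
        apply MulAction.injective x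
        show x • z ^ c • w0 = x • w0
        rw [← mul_smul x (z ^ c), ← ((hzc x hx).zpow_left c).eq, mul_smul]
        exact h1
      exact h2
    set Q' := Q ⊓ centralizer ({b} : Set H) with hQ'def
    have hQ'mem : ∀ g, g ∈ Q' ↔ g ∈ Q ∧ Commute g b := fun g => by
      rw [hQ'def, mem_inf, mem_centralizer_singleton_iff]
      exact Iff.rfl
    -- a central element of `Q'` is central in `Q` up to a power of `b`
    have hadj : ∀ g ∈ Q', (∀ y ∈ Q', Commute g y) →
        ∃ i k : ℤ, ∀ w ∈ W, (g * b ^ i) • w = z ^ k • w := by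
      intro g hg hgc
      obtain ⟨hgQ, hgb⟩ := (hQ'mem g).mp hg
      obtain ⟨d, hd⟩ := htw g hgQ x hx
      refine ⟨d * t, hcen _ (mul_mem hgQ (zpow_mem hb _)) fun y hy => ?_⟩
      have hcx : Commute (g * b ^ (d * t)) x := by
        have hbx : b * x = z ^ (-c) * (x * b) := by
          rw [hc, ← mul_assoc, ← zpow_add, neg_add_cancel, zpow_zero, one_mul]
        have h1 := zpow_conj_of_twist hzb hbx (d * t)
        show g * b ^ (d * t) * x = x * (g * b ^ (d * t))
        rw [mul_assoc, h1, ← mul_assoc g, ← ((hzc g hgQ).zpow_left _).eq, mul_assoc, ← mul_assoc g,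
          hd, mul_assoc (z ^ d), ← mul_assoc, ← zpow_add]
        rw [show -c * (d * t) + d = (p : ℤ) * (u * d) by linear_combination (-d) * hut, zpow_mul,
          zpow_natCast, hz, one_zpow, one_mul, mul_assoc]
      obtain ⟨f, hf⟩ := htw y hy b hb
      set j : ℤ := -f * t
      have hy' : y * x ^ j ∈ Q' := (hQ'mem _).mpr ⟨mul_mem hy (zpow_mem hx j), by
        show y * x ^ j * b = b * (y * x ^ j)
        rw [mul_assoc, zpow_conj_of_twist (hzc x hx) hc j, ← mul_assoc y,
          ← ((hzc y hy).zpow_left _).eq, mul_assoc, ← mul_assoc y, hf, mul_assoc (z ^ f),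
          ← mul_assoc, ← zpow_add]
        rw [show c * j + f = (p : ℤ) * (u * f) by
            simp only [j]; linear_combination (-f) * hut, zpow_mul, zpow_natCast, hz, one_zpow,
          one_mul, mul_assoc]⟩
      have hy1 : Commute (g * b ^ (d * t)) (y * x ^ j) :=
        (hgc _ hy').mul_left ((((hQ'mem _).mp hy').2).symm.zpow_left _)
      have := hy1.mul_right (hcx.zpow_right (-j))
      rwa [mul_assoc, ← zpow_add, add_neg_cancel, zpow_zero, mul_one] at this
    have hzQ' : z ∈ Q' := (hQ'mem z).mpr ⟨hzQ, hzb⟩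
    obtain ⟨v0, hv0, hreg⟩ := exists_regular hV hp2 hz hfpf n W0 Q' (by omega) hW0ne hzQ'
      (fun g hg => hzc g ((hQ'mem g).mp hg).1)
      (fun g hg w hw => ⟨hWinv g ((hQ'mem g).mp hg).1 w hw.1, by
        rw [← mul_smul, ← ((hQ'mem g).mp hg).2.eq, mul_smul, hw.2]⟩)
      (fun g hg => hexp g ((hQ'mem g).mp hg).1)
      (fun g hg y hy => htw g ((hQ'mem g).mp hg).1 y ((hQ'mem y).mp hy).1)
      (fun g hg hgc => by
        obtain ⟨i, k, hk⟩ := hadj g hg hgc
        refine ⟨k, fun w hw => ?_⟩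
        rw [← hk w hw.1, mul_smul]
        have : b ^ i • w = w :=
          zpow_mem (show b ∈ MulAction.stabilizer H w from hw.2) i
        rw [this])
    obtain ⟨w2, hw2, hw2ne⟩ : ∃ w ∈ W0, w ≠ 0 := by
      by_contra h; push Not at h
      exact hW0ne (eq_bot_iff.mpr fun w hw => AddSubgroup.mem_bot.mpr (h w hw))
    have hv0ne : v0 ≠ 0 := fun h0 => by
      have := hreg z hzQ' (by rw [h0, smul_zero]) w2 hw2
      exact hw2ne (hfpf _ this)
    set v1 := x • v0
    have hv0b : (z ^ (0 : ℤ) * b) • v0 = v0 := by rw [zpow_zero, one_mul]; exact hv0.2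
    have hv1b : (z ^ c * b) • v1 = v1 := by
      have := hmove x hx c hc 0 v0 hv0b
      rwa [zero_add] at this
    refine ⟨v0 + v1, W.add_mem hv0.1 (hWinv x hx _ hv0.1), fun g hg hgv w hw => ?_⟩
    obtain ⟨e, he⟩ := htw g hg b hb
    have hg0 := hmove g hg e he 0 v0 hv0b
    have hg1 := hmove g hg e he c v1 hv1b
    rw [zero_add] at hg0
    rw [smul_add] at hgv
    have hv1ne : v1 ≠ 0 := fun h => hv0ne (by rwa [smul_eq_zero_iff_eq] at h)
    have he0 : (p : ℤ) ∣ e := by
      by_contra hne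
      have h1 : (p : ℤ) ∣ c + e := by
        by_contra h1
        apply hv0ne
        refine eq_zero_of_nsmul hV ?_
        have := congrArg (norm p (z ^ (0 : ℤ) * b)) hgv
        rw [norm_add, norm_add, hzero 0 e _ (by simpa using hne) hg0,
          hzero 0 (c + e) _ (by rwa [zero_sub, dvd_neg]) hg1,
          hzero 0 c v1 (by simpa using hcne) hv1b, norm_of_fixed hv0b, zero_add, add_zero] at this
        exact this.symm
      have h2 : (p : ℤ) ∣ c - e := by
        by_contra h2
        apply hv1ne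
        refine eq_zero_of_nsmul hV ?_
        have := congrArg (norm p (z ^ c * b)) hgv
        rw [norm_add, norm_add, hzero c e _ h2 hg0,
          hzero c (c + e) _ (by simpa using hne) hg1,
          hzero c 0 v0 (by simpa using hcne) hv0b, norm_of_fixed hv1b, zero_add, zero_add] at this
        exact this.symm
      have h3 : (p : ℤ) ∣ 2 * c := by
        have := h1.add h2
        rwa [show c + e + (c - e) = 2 * c by ring] at this
      rcases (Nat.prime_iff_prime_int.mp hp.out).dvd_or_dvd h3 with h4 | h4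
      · have : p ∣ 2 := by exact_mod_cast h4
        exact hp2 ((Nat.prime_dvd_prime_iff_eq hp.out Nat.prime_two).mp this)
      · exact hcne h4
    obtain ⟨e', rfl⟩ := he0
    rw [zpow_mul, zpow_natCast, hz, one_zpow, one_mul] at he hg0
    have hgQ' : g ∈ Q' := (hQ'mem g).mpr ⟨hg, he⟩
    have hgv0 : g • v0 = v0 := by
      refine eq_of_nsmul hV ?_
      have := congrArg (norm p (z ^ (0 : ℤ) * b)) hgv
      rw [norm_add, norm_add,
        hzero 0 (c + (p : ℤ) * e') _ (fun hd => hcne (by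
          have := hd.add (dvd_mul_right (p : ℤ) e')
          rw [show 0 - (c + (p : ℤ) * e') + (p : ℤ) * e' = -c by ring, dvd_neg] at this
          exact this)) hg1,
        hzero 0 c v1 (by simpa using hcne) hv1b, norm_of_fixed hv0b,
        norm_of_fixed (by rwa [zpow_zero, one_mul]), add_zero, add_zero] at this
      exact this
    have hgW0 := hreg g hgQ' hgv0
    have hgv1 : g • v1 = v1 := by rwa [hgv0, add_left_cancel_iff] at hgv
    have hgcen : ∀ y ∈ Q', Commute g y := by
      intro y hy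
      obtain ⟨k, hk⟩ := htw g hg y ((hQ'mem y).mp hy).1
      by_cases hd : (p : ℤ) ∣ k
      · obtain ⟨l, rfl⟩ := hd
        rw [zpow_mul, zpow_natCast, hz, one_zpow, one_mul] at hk
        exact hk
      · exfalso
        have hyv : y • v0 ∈ W0 := ⟨hWinv y ((hQ'mem y).mp hy).1 _ hv0.1, by
          rw [← mul_smul, ← ((hQ'mem y).mp hy).2.eq, mul_smul, hv0.2]⟩
        have h1 : (g * y) • v0 = y • v0 := by rw [mul_smul, hgW0 _ hyv]
        rw [hk, mul_smul, mul_smul, hgv0] at h1
        exact hv0ne (by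
          have := hfpf _ (smul_eq_of_zpow hz hd h1)
          rwa [smul_eq_zero_iff_eq] at this)
    obtain ⟨i, k, hk⟩ := hadj g hgQ' hgcen
    have hbfix : ∀ i : ℤ, b ^ i • v0 = v0 := fun i =>
      zpow_mem (show b ∈ MulAction.stabilizer H v0 from hv0.2) i
    have hk0 : (p : ℤ) ∣ k := by
      by_contra hne
      have := hk v0 hv0.1
      rw [mul_smul, hbfix, hgv0] at this
      exact hv0ne (hfpf _ (smul_eq_of_zpow hz hne this.symm))
    have hgb : ∀ w ∈ W, g • b ^ i • w = w := fun w hw => by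
      obtain ⟨l, rfl⟩ := hk0
      rw [← mul_smul, hk w hw, zpow_mul, zpow_natCast, hz, one_zpow, one_smul]
    have hbi : (p : ℤ) ∣ i := by
      by_contra hne
      have h1 := hgb v1 (hWinv x hx _ hv0.1)
      rw [← mul_smul, ((((hQ'mem g).mp hgQ').2).zpow_right i).eq, mul_smul, hgv1] at h1
      have h2 := smul_eq_of_zpow hbp hne h1
      have h3 : z ^ c • v1 = v1 := by
        conv_rhs => rw [← hv1b, mul_smul, h2]
      exact hv1ne (hfpf _ (smul_eq_of_zpow hz hcne h3))
    obtain ⟨l, rfl⟩ := hbi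
    have := hgb w hw
    rwa [zpow_mul, zpow_natCast, hbp, one_zpow, one_smul] at this

end Coprime

section Twist

variable {H : Type*} [Group H] {z : H}

theorem mul_pow_twist {a b : H} (hza : Commute z a) (hzb : Commute z b) {k : ℤ}
    (h : b * a = z ^ k * (a * b)) : ∀ n : ℕ, (a * b) ^ n = z ^ (k * (n.choose 2 : ℤ)) * (a ^ n * b ^ n)
  | 0 => by simp
  | n + 1 => by
    have h1 : b ^ n * a = z ^ (k * n) * (a * b ^ n) := by
      have := zpow_conj_of_twist hzb h (n : ℤ)
      rwa [zpow_natCast] at this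
    have hc : Commute (z ^ (k * n)) (a ^ n) := (hza.zpow_left _).pow_right n
    rw [pow_succ, mul_pow_twist hza hzb h n, mul_assoc, mul_assoc (a ^ n), ← mul_assoc (b ^ n), h1,
      mul_assoc (z ^ (k * (n : ℤ))), ← mul_assoc (a ^ n), ← hc.eq, mul_assoc, ← mul_assoc, ← zpow_add,
      show (n + 1).choose 2 = n + n.choose 2 by simp [Nat.choose_succ_succ, Nat.choose_one_right],
      pow_succ, pow_succ]
    push_cast
    rw [mul_add, add_comm (k * ((n.choose 2 : ℕ) : ℤ))]
    simp only [mul_assoc]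

theorem mul_pow_eq_one (hp2 : p ≠ 2) (hz : z ^ p = 1) {a b : H} (hza : Commute z a) (hzb : Commute z b)
    (ha : a ^ p = 1) (hb : b ^ p = 1) (h : ∃ k : ℤ, b * a = z ^ k * (a * b)) : (a * b) ^ p = 1 := by
  obtain ⟨k, hk⟩ := h
  obtain ⟨c, hc⟩ : p ∣ p.choose 2 :=
    hp.out.dvd_choose_self two_ne_zero (lt_of_le_of_ne hp.out.two_le (Ne.symm hp2))
  rw [mul_pow_twist hza hzb hk, ha, hb, one_mul, mul_one, hc, Nat.cast_mul, mul_left_comm, zpow_mul,
    zpow_natCast, hz, one_zpow]

/-- Double centraliser bound in a group with commutators in a central subgroup of order `p`. -/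
theorem centralizer_bound {O : Type*} [Group O] [Finite O] (hO : IsPGroup p O) {w : O}
    (hwo : orderOf w = p) (hwc : w ∈ center O)
    (htw : ∀ x y : O, ∃ k : ℤ, x * y = w ^ k * (y * x)) :
    ∀ (n : ℕ) (X : Subgroup O), Nat.card X ≤ n → w ∈ X →
      Nat.card O * p ≤ Nat.card (centralizer (X : Set O)) * Nat.card X
  | 0, X, hn, _ => absurd Nat.card_pos (not_lt.mpr hn)
  | n + 1, X, hn, hwX => by
    by_cases hX : X = zpowers w
    · subst hX
      rw [centralizer_eq_top_iff_subset.mpr (fun g hg => (zpowers_le.mpr hwc) hg), card_top,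
        Nat.card_zpowers, hwo]
    · obtain ⟨M', hM'co, hM'⟩ := (eq_top_or_exists_le_coatom ((zpowers w).subgroupOf X)).resolve_left
        fun h => hX (le_antisymm (subgroupOf_eq_top.mp h) (zpowers_le.mpr hwX))
      have hidx : M'.index = p := PGroups.index_eq_of_isCoatom (hO.to_subgroup X) hM'co
      set M := M'.map X.subtype
      have hcardM : Nat.card M * p = Nat.card X := by
        rw [card_map_of_injective X.subtype_injective, ← hidx, card_mul_index]
      have hwM : w ∈ M := ⟨⟨w, hwX⟩, hM' (mem_subgroupOf.mpr (mem_zpowers w)), rfl⟩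
      have hlt : Nat.card M < Nat.card X := by
        rw [← hcardM]
        exact lt_mul_of_one_lt_right Nat.card_pos hp.out.one_lt
      have ih := centralizer_bound hO hwo hwc htw n M (by omega) hwM
      obtain ⟨y, hy⟩ : ∃ y : X, y ∉ M' := by
        by_contra h; push Not at h
        exact hM'co.1 (eq_top_iff.mpr fun g _ => h g)
      -- the commutator with `y` is a homomorphism on the centraliser of `M`
      set C := centralizer (M : Set O)
      let ψ : C →* zpowers w := MonoidHom.mk'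
        (fun c => ⟨(c : O) * y * (c : O)⁻¹ * (y : O)⁻¹, by
          obtain ⟨k, hk⟩ := htw c y
          refine ⟨k, ?_⟩
          show w ^ k = _
          rw [hk]; group⟩)
        fun c d => Subtype.ext (by
          obtain ⟨k, hk⟩ := htw d y
          show (c * d : O) * y * (c * d : O)⁻¹ * (y : O)⁻¹
            = ((c : O) * y * (c : O)⁻¹ * (y : O)⁻¹) * ((d : O) * y * (d : O)⁻¹ * (y : O)⁻¹)
          have hz' : ∀ g : O, g * w ^ k = w ^ k * g := fun g =>
            mem_center_iff.mp (zpow_mem hwc k) g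
          rw [show (d : O) * y * (d : O)⁻¹ * (y : O)⁻¹ = w ^ k by rw [hk]; group,
            show (c * d : O) * y * (c * d : O)⁻¹ * (y : O)⁻¹
              = (c : O) * ((d : O) * y) * (d : O)⁻¹ * (c : O)⁻¹ * (y : O)⁻¹ by group, hk,
            ← mul_assoc (c : O), hz', hz' ((c : O) * y * (c : O)⁻¹ * (y : O)⁻¹)]
          group)
      have hker : ψ.ker.map C.subtype ≤ centralizer (X : Set O) := by
        rintro - ⟨c, hc, rfl⟩
        have hle : X.subgroupOf X ≤ (centralizer ({(c : O)} : Set O)).subgroupOf X := by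
          intro g _
          have hMy : M' < M' ⊔ zpowers y := lt_of_le_of_ne le_sup_left fun he =>
            hy (he ▸ mem_sup_right (mem_zpowers y) : y ∈ M')
          have htop := hM'co.2 _ hMy
          have hle2 : M' ⊔ zpowers y ≤ (centralizer ({(c : O)} : Set O)).subgroupOf X := by
            refine sup_le (fun m hm => ?_) (zpowers_le.mpr ?_)
            · rw [mem_subgroupOf, mem_centralizer_singleton_iff]
              exact mem_centralizer_iff.mp c.2 (m : O) ⟨m, hm, rfl⟩
            · rw [mem_subgroupOf, mem_centralizer_singleton_iff]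
              have h1 : (c : O) * y * (c : O)⁻¹ * (y : O)⁻¹ = 1 := congrArg Subtype.val hc
              rw [mul_inv_eq_one, mul_inv_eq_iff_eq_mul] at h1
              exact h1.symm
          exact hle2 (htop ▸ mem_top g)
        exact mem_centralizer_iff.mpr fun g hg =>
          mem_centralizer_singleton_iff.mp (hle (x := ⟨g, hg⟩) (mem_subgroupOf.mpr hg))
      have h1 := card_le_of_le hker
      rw [card_map_of_injective C.subtype_injective] at h1
      have h2 := card_mul_index ψ.ker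
      rw [index_ker] at h2
      have h3 : Nat.card ψ.range ≤ p := by
        refine (Nat.le_of_dvd Nat.card_pos (card_subgroup_dvd_card ψ.range)).trans ?_
        rw [Nat.card_zpowers, hwo]
      calc Nat.card O * p ≤ Nat.card C * Nat.card M := ih
        _ = Nat.card ψ.ker * Nat.card ψ.range * Nat.card M := by rw [h2]
        _ ≤ Nat.card (centralizer (X : Set O)) * p * Nat.card M :=
            Nat.mul_le_mul_right _ (Nat.mul_le_mul h1 h3)
        _ = Nat.card (centralizer (X : Set O)) * Nat.card X := by rw [← hcardM]; ring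

/-- An element twisting `Ω` into `⟨z⟩` can be moved into the centraliser of `Ω` by an element of `Ω`. -/
theorem exists_adjust [Finite H] (hp2 : p ≠ 2) (z : H) (hzo : orderOf z = p) (Ω : Subgroup H) (hzΩ : z ∈ Ω)
    (hzc : ∀ y ∈ Ω, Commute z y)
    (htw : ∀ x ∈ Ω, ∀ y ∈ Ω, ∃ k : ℤ, x * y = z ^ k * (y * x)) (hexp : ∀ x ∈ Ω, x ^ p = 1)
    (hcen : ∀ x ∈ Ω, (∀ y ∈ Ω, Commute x y) → x ∈ zpowers z) (g : H) (hzg : Commute z g)
    (hg : ∀ y ∈ Ω, ∃ k : ℤ, g * y = z ^ k * (y * g)) :
    ∃ u ∈ Ω, ∀ y ∈ Ω, Commute (g * u) y := by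
  by_cases hall : ∀ y ∈ Ω, Commute g y
  · exact ⟨1, one_mem _, fun y hy => by rw [mul_one]; exact hall y hy⟩
  push Not at hall
  obtain ⟨y0, hy0, hy0g⟩ := hall
  have hz : z ^ p = 1 := by rw [← hzo]; exact pow_orderOf_eq_one z
  set w : Ω := ⟨z, hzΩ⟩
  have hwo : orderOf w = p := by rw [← orderOf_coe]; exact hzo
  have hwc : w ∈ center Ω := mem_center_iff.mpr fun x => Subtype.ext (hzc x x.2).eq.symm
  have hΩp : IsPGroup p Ω := fun x => ⟨1, Subtype.ext (by simpa using hexp x x.2)⟩
  have htwO : ∀ x y : Ω, ∃ k : ℤ, x * y = w ^ k * (y * x) := fun x y => by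
    obtain ⟨k, hk⟩ := htw x x.2 y y.2
    exact ⟨k, Subtype.ext (by simpa [w] using hk)⟩
  let φ : Ω →* zpowers z := MonoidHom.mk'
    (fun y => ⟨g * y * g⁻¹ * (y : H)⁻¹, by
      obtain ⟨k, hk⟩ := hg y y.2
      refine ⟨k, ?_⟩
      show z ^ k = _
      rw [hk]; group⟩)
    fun x y => Subtype.ext (by
      obtain ⟨k, hk⟩ := hg x x.2
      obtain ⟨l, hl⟩ := hg y y.2
      show g * (x * y : H) * g⁻¹ * (x * y : H)⁻¹
        = (g * x * g⁻¹ * (x : H)⁻¹) * (g * y * g⁻¹ * (y : H)⁻¹)
      rw [show g * (x : H) * g⁻¹ * (x : H)⁻¹ = z ^ k by rw [hk]; group,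
        show g * (y : H) * g⁻¹ * (y : H)⁻¹ = z ^ l by rw [hl]; group, mul_inv_rev, ← mul_assoc g, hk,
        mul_assoc (z ^ k), mul_assoc (x : H), hl, ← mul_assoc (x : H), ← ((hzc x x.2).zpow_left l).eq]
      group)
  set D := φ.ker
  have hDmem : ∀ y : Ω, y ∈ D ↔ Commute g y := fun y => by
    rw [MonoidHom.mem_ker, ← Subtype.coe_inj]
    show g * y * g⁻¹ * (y : H)⁻¹ = 1 ↔ g * y = y * g
    rw [mul_inv_eq_one, mul_inv_eq_iff_eq_mul]
  have hidx : D.index = p := by
    rw [index_ker]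
    have h1 := card_subgroup_dvd_card φ.range
    rw [Nat.card_zpowers, hzo] at h1
    refine ((Nat.dvd_prime hp.out).mp h1).resolve_left fun h => hy0g ?_
    refine (hDmem ⟨y0, hy0⟩).mp ?_
    rw [MonoidHom.mem_ker, ← mem_bot, ← card_eq_one.mp h]
    exact ⟨_, rfl⟩
  have hwD : w ∈ D := (hDmem w).mpr hzg.symm
  have hb := centralizer_bound hΩp hwo hwc htwO _ D le_rfl hwD
  rw [← card_mul_index D, hidx, mul_assoc, mul_comm (Nat.card D)] at hb
  have hC : p * p ≤ Nat.card (centralizer (D : Set Ω)) := Nat.le_of_mul_le_mul_right hb Nat.card_pos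
  obtain ⟨u, huD, huw⟩ : ∃ u ∈ centralizer (D : Set Ω), u ∉ zpowers w := by
    by_contra h; push Not at h
    have := card_le_of_le (h : centralizer (D : Set Ω) ≤ zpowers w)
    rw [Nat.card_zpowers, hwo] at this
    nlinarith [hp.out.two_le]
  obtain ⟨y1, hy1, hy1u⟩ : ∃ y ∈ Ω, ¬ Commute (u : H) y := by
    by_contra h; push Not at h
    obtain ⟨k, hk⟩ := hcen u u.2 h
    exact huw ⟨k, Subtype.ext (by simpa [w] using hk)⟩
  obtain ⟨d, hd⟩ := hg y1 hy1
  obtain ⟨c, hc⟩ := htw u u.2 y1 hy1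
  have hcne : ¬ (p : ℤ) ∣ c := by
    rintro ⟨l, rfl⟩
    rw [zpow_mul, zpow_natCast, hz, one_zpow, one_mul] at hc
    exact hy1u hc
  obtain ⟨a, t, hat⟩ := ((Nat.prime_iff_prime_int.mp hp.out).coprime_iff_not_dvd).mpr hcne
  refine ⟨(u : H) ^ (-d * t), zpow_mem u.2 _, fun y hy => ?_⟩
  set g' := g * (u : H) ^ (-d * t)
  have h1 : Commute g' y1 := by
    show g * (u : H) ^ (-d * t) * y1 = y1 * (g * (u : H) ^ (-d * t))
    rw [mul_assoc, zpow_conj_of_twist (hzc u u.2) hc, ← mul_assoc g, ← (hzg.zpow_left _).eq,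
      mul_assoc, ← mul_assoc g y1, hd, mul_assoc (z ^ d), ← mul_assoc, ← zpow_add,
      show c * (-d * t) + d = (p : ℤ) * (a * d) by linear_combination (-d) * hat, zpow_mul,
      zpow_natCast, hz, one_zpow, one_mul, mul_assoc]
  have hD' : ∀ x : Ω, x ∈ D → Commute g' x := fun x hx =>
    ((hDmem x).mp hx).mul_left (Commute.zpow_left
      (congrArg Subtype.val (mem_centralizer_iff.mp huD x hx)).symm _)
  have hy1D : (⟨y1, hy1⟩ : Ω) ∉ D := fun h =>
    hy1u (congrArg Subtype.val (mem_centralizer_iff.mp huD ⟨y1, hy1⟩ h)).symm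
  have htop : D ⊔ zpowers (⟨y1, hy1⟩ : Ω) = ⊤ := by
    have hco : IsCoatom D := by
      haveI := PGroups.normal_of_index_eq hΩp hidx
      refine ⟨fun h => hp.out.one_lt.ne (by rw [← hidx, h, index_top]), fun K hK => ?_⟩
      have h := relIndex_mul_index hK.le
      rw [hidx] at h
      rcases hp.out.eq_one_or_self_of_dvd K.index (Dvd.intro_left _ h) with h1 | h1
      · exact index_eq_one.mp h1
      · rw [h1] at h
        exact absurd (relIndex_eq_one.mp (Nat.eq_of_mul_eq_mul_right hp.out.pos (by rw [h, one_mul])))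
          (not_le_of_gt hK)
    exact hco.2 _ (lt_of_le_of_ne le_sup_left fun h => hy1D (h ▸ mem_sup_right (mem_zpowers _)))
  have hle : D ⊔ zpowers (⟨y1, hy1⟩ : Ω) ≤ (centralizer ({g'} : Set H)).subgroupOf Ω := by
    refine sup_le (fun x hx => ?_) (zpowers_le.mpr ?_)
    · rw [mem_subgroupOf, mem_centralizer_singleton_iff]; exact (hD' x hx).eq.symm
    · rw [mem_subgroupOf, mem_centralizer_singleton_iff]; exact h1.eq.symm
  exact (mem_centralizer_singleton_iff.mp (hle (htop ▸ mem_top (⟨y, hy⟩ : Ω)))).symm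

end Twist

end Cfsg.Agent.H24.OrbitAvoid
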