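import Cfsg.Agent.H24.OrbitAvoid
import Mathlib.Algebra.GroupWithZero.Action.End
import Mathlib.Algebra.Module.LinearMap.End
import Mathlib.GroupTheory.Subgroup.Centralizer

/-!
Main theorem: reduction of `OrbitAvoid` to irreducible faithful modules.
-/

set_option linter.style.haveILetI false

namespace Cfsg.Agent.H24.OrbitAvoid

open Subgroup

universe u

variable {p : ℕ} [hp : Fact p.Prime]

/-- The conclusion for all coprime linear groups on modules of order at most `n`. -/
def Avoids (p n : ℕ) : Prop :=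
  ∀ (H V : Type u) [Group H] [Finite H] [AddCommGroup V] [Finite V] [DistribMulAction H V]
    (P : Subgroup H), P.Normal → IsPGroup p P → ¬ p ∣ Nat.card V → Nat.card V ≤ n →
    ∀ a ∈ P, (∃ v : V, a • v ≠ v) → ∃ v : V, ∀ h : H, (h * a * h⁻¹) • v ≠ v

section Irreducible

variable {H V : Type u} [Group H] [Finite H] [AddCommGroup V] [Finite V] [DistribMulAction H V]

/-- The vectors fixed by `M`. -/
def fixedBy (V : Type u) [AddCommGroup V] [DistribMulAction H V] (M : Subgroup H) : AddSubgroup V where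
  carrier := {v | ∀ m ∈ M, m • v = v}
  zero_mem' m _ := smul_zero m
  add_mem' hu hv m hm := by rw [smul_add, hu m hm, hv m hm]
  neg_mem' hu m hm := by rw [smul_neg, hu m hm]

theorem fixedBy_eq_bot (hirr : ∀ U : AddSubgroup V, (∀ h : H, ∀ u ∈ U, h • u ∈ U) → U = ⊥ ∨ U = ⊤)
    (hfaith : ∀ h : H, (∀ v : V, h • v = v) → h = 1) (E : Subgroup H) [hE : E.Normal]
    (hne : E ≠ ⊥) : fixedBy V E = ⊥ := by
  refine (hirr (fixedBy V E) (fun h u (hu : ∀ m ∈ E, m • u = u) => ?_)).resolve_right fun htop => hne ?_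
  · intro e he
    have h1 : h⁻¹ * e * h⁻¹⁻¹ ∈ E := hE.conj_mem e he h⁻¹
    have h2 := hu _ h1
    rw [inv_inv, mul_smul, mul_smul, inv_smul_eq_iff] at h2
    exact h2
  · refine eq_bot_iff.mpr fun e he => mem_bot.mpr (hfaith e fun v => ?_)
    have : v ∈ fixedBy V E := htop ▸ AddSubgroup.mem_top v
    exact this e he

/-- A normal elementary abelian non-cyclic `p`-subgroup gives a decomposition. -/
theorem avoid_of_decomposition {n : ℕ} (ih : Avoids.{u} p n) (hn : Nat.card V ≤ n + 1)
    (hp2 : p ≠ 2) (hV : ¬ p ∣ Nat.card V)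
    (hirr : ∀ U : AddSubgroup V, (∀ h : H, ∀ u ∈ U, h • u ∈ U) → U = ⊥ ∨ U = ⊤)
    (hfaith : ∀ h : H, (∀ v : V, h • v = v) → h = 1)
    (P : Subgroup H) (hPn : P.Normal) (hP : IsPGroup p P) (a : H) (ha : a ∈ P) (ha1 : a ≠ 1)
    (E : Subgroup H) (hEn : E.Normal) (hEc : ∀ g ∈ E, ∀ y ∈ E, Commute g y)
    (hEp : ∀ g ∈ E, g ^ p = 1) {e1 e2 : H} (he1 : e1 ∈ E) (he2 : e2 ∈ E) (he1ne : e1 ≠ 1)
    (he12 : e2 ∉ zpowers e1) :
    ∃ v : V, ∀ h : H, (h * a * h⁻¹) • v ≠ v := by
  classical
  have hne : E ≠ ⊥ := fun h => he1ne (by rwa [h, mem_bot] at he1)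
  have hEbot : fixedBy V E = ⊥ := fixedBy_eq_bot hirr hfaith E hne
  have hEg : IsPGroup p E := fun g => ⟨1, Subtype.ext (by simpa using hEp g g.2)⟩
  set IsComp : Subgroup H → Prop := fun M => M ≤ E ∧ fixedBy V M ≠ ⊥ ∧
    ∀ M' : Subgroup H, M < M' → M' ≤ E → fixedBy V M' = ⊥
  let I := {M : Subgroup H // IsComp M}
  have hcard : ∀ M : I, ∃ k, Nat.card (M.1 : Subgroup H) = p ^ k := fun M =>
    IsPGroup.iff_card.mp (hEg.to_le M.2.1)
  -- conjugation
  let conjS : H → Subgroup H → Subgroup H := fun h M => M.map (MulAut.conj h).toMonoidHom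
  have hmemS : ∀ h M m, m ∈ conjS h M ↔ h⁻¹ * m * h ∈ M := fun h M m => by
    constructor
    · rintro ⟨m', hm', rfl⟩
      simpa [mul_assoc] using hm'
    · exact fun hm => ⟨_, hm, by simp [mul_assoc]⟩
  have hfix : ∀ h M v, v ∈ fixedBy V (conjS h M) ↔ h⁻¹ • v ∈ fixedBy V M := by
    intro h M v
    constructor
    · intro hv m hm
      have := hv (h * m * h⁻¹) ((hmemS h M _).mpr (by simpa [mul_assoc] using hm))
      rw [mul_smul, mul_smul] at this
      rw [eq_inv_smul_iff]
      exact this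
    · intro hv m hm
      have := hv _ ((hmemS h M m).mp hm)
      rw [mul_smul, mul_smul, smul_inv_smul] at this
      exact MulAction.injective h⁻¹ this
  have hone : ∀ M, conjS 1 M = M := fun M => by ext m; rw [hmemS]; simp
  have hmul : ∀ g h M, conjS (g * h) M = conjS g (conjS h M) := fun g h M => by
    ext m; rw [hmemS, hmemS, hmemS]; simp [mul_assoc]
  have hmono : ∀ h {M M' : Subgroup H}, M ≤ M' → conjS h M ≤ conjS h M' := fun h _ _ hle =>
    map_mono hle
  have hEconj : ∀ h, conjS h E = E := fun h => by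
    ext m
    rw [hmemS]
    refine ⟨fun hm => ?_, fun hm => ?_⟩
    · have := hEn.conj_mem _ hm h; simpa [mul_assoc] using this
    · have := hEn.conj_mem _ hm h⁻¹; simpa [mul_assoc] using this
  have hcompconj : ∀ h M, IsComp M → IsComp (conjS h M) := by
    intro h M hM
    refine ⟨(hmono h hM.1).trans (hEconj h).le, fun hb => hM.2.1 ?_, fun M' hlt hle => ?_⟩
    · refine (AddSubgroup.eq_bot_iff_forall _).mpr fun v hv => ?_
      have : h • v ∈ fixedBy V (conjS h M) := (hfix h M _).mpr (by rwa [inv_smul_smul])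
      rw [hb, AddSubgroup.mem_bot, smul_eq_zero_iff_eq] at this
      exact this
    · have h1 : M < conjS h⁻¹ M' := by
        refine lt_of_le_of_ne ?_ fun heq => hlt.ne ?_
        · have := hmono h⁻¹ hlt.le
          rwa [← hmul, inv_mul_cancel, hone] at this
        · rw [heq, ← hmul, mul_inv_cancel, hone]
      have h2 : conjS h⁻¹ M' ≤ E := (hmono _ hle).trans (hEconj _).le
      have h3 := hM.2.2 _ h1 h2
      refine (AddSubgroup.eq_bot_iff_forall _).mpr fun v hv => ?_
      have : h⁻¹ • v ∈ fixedBy V (conjS h⁻¹ M') := (hfix _ _ _).mpr (by rwa [inv_inv, smul_inv_smul])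
      rw [h3, AddSubgroup.mem_bot, smul_eq_zero_iff_eq] at this
      exact this
  letI actI : MulAction H I :=
    { smul := fun h M => ⟨conjS h M.1, hcompconj h M.1 M.2⟩
      one_smul := fun M => Subtype.ext (hone M.1)
      mul_smul := fun g h M => Subtype.ext (hmul g h M.1) }
  have hfixI : ∀ (h : H) (M : I) (v : V), v ∈ fixedBy V M.1 → h • v ∈ fixedBy V (h • M).1 := by
    intro h M v hv
    exact (hfix h M.1 _).mpr (by rwa [inv_smul_smul])
  haveI : Fintype H := Fintype.ofFinite H
  haveI : Fintype I := Fintype.ofFinite I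
  -- the projection to a component
  let T : I → V → V := fun M v => ∑ m : M.1, (m : H) • v
  have hTsum : ∀ M (f : I → V), T M (∑ N, f N) = ∑ N, T M (f N) := fun M f => by
    simp only [T, Finset.smul_sum]
    exact Finset.sum_comm
  have hTother : ∀ M N : I, M ≠ N → ∀ v ∈ fixedBy V N.1, T M v = 0 := by
    intro M N hMN v hv
    have h1 : ∀ m ∈ M.1, m • T M v = T M v := fun m hm => by
      simp only [T, Finset.smul_sum, ← mul_smul]
      exact Fintype.sum_equiv (Equiv.mulLeft (⟨m, hm⟩ : M.1)) (fun x : M.1 => (m * (x : H)) • v)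
        (fun x : M.1 => (x : H) • v) fun x => rfl
    have h2 : ∀ m ∈ N.1, m • T M v = T M v := fun m hm => by
      simp only [T, Finset.smul_sum]
      refine Finset.sum_congr rfl fun x _ => ?_
      rw [← mul_smul, (hEc m (N.2.1 hm) _ (M.2.1 x.2)).eq, mul_smul, hv m hm]
    have hlt : N.1 < M.1 ⊔ N.1 := by
      refine lt_of_le_of_ne le_sup_right fun he => hMN (Subtype.ext ?_)
      rcases eq_or_lt_of_le (he ▸ le_sup_left : M.1 ≤ N.1) with h | h
      · exact h
      · exact absurd (M.2.2.2 _ h N.2.1) N.2.2.1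
    have h3 := N.2.2.2 _ hlt (sup_le M.2.1 N.2.1)
    have h4 : T M v ∈ fixedBy V (M.1 ⊔ N.1) := by
      intro m hm
      have : M.1 ⊔ N.1 ≤ MulAction.stabilizer H (T M v) := sup_le h1 h2
      exact this hm
    rwa [h3, AddSubgroup.mem_bot] at h4
  have hTsingle : ∀ (M : I) (f : I → V), (∀ N, f N ∈ fixedBy V N.1) →
      T M (∑ N, f N) = Nat.card M.1 • f M := by
    intro M f hf
    rw [hTsum, Finset.sum_eq_single M (fun N _ hN => hTother M N (Ne.symm hN) _ (hf N))
      (fun h => absurd (Finset.mem_univ M) h)]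
    simp only [T]
    rw [Finset.sum_congr rfl fun (x : M.1) _ => hf M (x : H) x.2, Finset.sum_const, Finset.card_univ,
      Nat.card_eq_fintype_card]
  have hpinj : ∀ (k : ℕ) (v w : V), p ^ k • v = p ^ k • w → v = w := by
    intro k
    induction k with
    | zero => simp
    | succ k ih =>
      intro v w h
      rw [pow_succ, mul_smul, mul_smul] at h
      exact eq_of_nsmul hV (ih _ _ h)
  have huniq : ∀ (f g : I → V), (∀ N, f N ∈ fixedBy V N.1) → (∀ N, g N ∈ fixedBy V N.1) →
      ∑ N, f N = ∑ N, g N → f = g := by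
    intro f g hf hg he
    funext M
    obtain ⟨k, hk⟩ := hcard M
    refine hpinj k _ _ ?_
    rw [← hk, ← hTsingle M f hf, ← hTsingle M g hg, he]
  have hperm : ∀ (b : H) (f : I → V), (∀ N, f N ∈ fixedBy V N.1) →
      b • (∑ N, f N) = ∑ N, f N → ∀ N, b • f N = f (b • N) := by
    intro b f hf he N
    have h1 : b • (∑ N, f N) = ∑ N, b • f (b⁻¹ • N) := by
      rw [Finset.smul_sum]
      exact Fintype.sum_equiv (MulAction.toPerm b) _ _ fun N => by simp
    have h2 := huniq (fun N => b • f (b⁻¹ • N)) f (fun N => by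
      have := hfixI b _ _ (hf (b⁻¹ • N))
      rwa [smul_inv_smul] at this) hf (h1.symm.trans he)
    have h3 := congrFun h2 (b • N)
    simpa using h3
  -- there is a component, and the components span
  have hexI : ∀ (M0 : Subgroup H), M0 ≤ E → fixedBy V M0 ≠ ⊥ → ∃ M : I, M0 ≤ M.1 := by
    intro M0 hM0 h0
    obtain ⟨M, hle, hM⟩ := Finite.exists_le_maximal
      (p := fun M : Subgroup H => M ≤ E ∧ fixedBy V M ≠ ⊥) ⟨hM0, h0⟩
    refine ⟨⟨M, hM.1.1, hM.1.2, fun M' hlt hle' => ?_⟩, hle⟩
    by_contra hb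
    exact hlt.not_ge (hM.2 ⟨hle', hb⟩ hlt.le)
  have hVne : (⊤ : AddSubgroup V) ≠ ⊥ := fun h => ha1 (hfaith a fun v => by
    have : v ∈ (⊥ : AddSubgroup V) := h ▸ AddSubgroup.mem_top v
    rw [AddSubgroup.mem_bot] at this
    rw [this, smul_zero])
  obtain ⟨M1, -⟩ := hexI ⊥ bot_le (fun h => hVne (eq_bot_iff.mpr fun v _ => by
    have : v ∈ fixedBy V (⊥ : Subgroup H) := fun m hm => by rw [mem_bot.mp hm, one_smul]
    rwa [h] at this))
  have hspan : ∀ g : H, (∀ (M : I) (v : V), v ∈ fixedBy V M.1 → g • v = v) → g = 1 := by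
    intro g hg
    refine hfaith g fun v => ?_
    set U : AddSubgroup V := ⨆ M : I, fixedBy V M.1
    have hU : U = ⊤ := by
      refine (hirr U fun h u hu => ?_).resolve_left fun hb => M1.2.2.1 ?_
      · refine AddSubgroup.iSup_induction (C := fun u => h • u ∈ U) (fun M : I => fixedBy V M.1) hu
          (fun M u hu => AddSubgroup.mem_iSup_of_mem (h • M) (hfixI h M u hu)) ?_ ?_
        · rw [smul_zero]; exact U.zero_mem
        · intro x y hx hy; rw [smul_add]; exact U.add_mem hx hy
      · exact le_bot_iff.mp (hb ▸ le_iSup (fun M : I => fixedBy V M.1) M1)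
    refine AddSubgroup.iSup_induction (C := fun u => g • u = u) (fun M : I => fixedBy V M.1)
      (show v ∈ U from hU ▸ AddSubgroup.mem_top v) hg (smul_zero g) ?_
    intro x y hx hy; rw [smul_add, hx, hy]
  by_cases hK : ∀ M : I, a • M = M
  · obtain ⟨M0, w, hw, hwa⟩ : ∃ (M : I) (w : V), w ∈ fixedBy V M.1 ∧ a • w ≠ w := by
      by_contra h
      push Not at h
      exact ha1 (hspan a h)
    set H0 := MulAction.stabilizer H M0
    set W := fixedBy V M0.1
    have hW : ∀ (h : H0) (v : V), v ∈ W → (h : H) • v ∈ W := fun h v hv => by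
      have := hfixI h M0 v hv
      rwa [show (h : H) • M0 = M0 from h.2] at this
    letI : DistribMulAction H0 W :=
      { smul := fun h v => ⟨(h : H) • (v : V), hW h v v.2⟩
        one_smul := fun v => Subtype.ext (one_smul H (v : V))
        mul_smul := fun g h v => Subtype.ext (mul_smul (g : H) (h : H) (v : V))
        smul_zero := fun h => Subtype.ext (smul_zero (h : H))
        smul_add := fun h v v' => Subtype.ext (smul_add (h : H) (v : V) (v' : V)) }
    have hWlt : W ≠ ⊤ := by
      intro htop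
      have hM0bot : M0.1 = ⊥ := eq_bot_iff.mpr fun m hm => mem_bot.mpr (hfaith m fun v =>
        (htop.symm ▸ AddSubgroup.mem_top v : v ∈ W) m hm)
      have hfpf : ∀ e ∈ E, e ≠ 1 → ∀ u : V, e • u = u → u = 0 := by
        intro e he hne1 u hu
        have h1 := M0.2.2.2 (zpowers e) (by rw [hM0bot, bot_lt_iff_ne_bot, Ne, zpowers_eq_bot]; exact hne1)
          (zpowers_le.mpr he)
        have h2 : u ∈ fixedBy V (zpowers e) := fun m hm => by
          have : zpowers e ≤ MulAction.stabilizer H u := zpowers_le.mpr hu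
          exact this hm
        rwa [h1, AddSubgroup.mem_bot] at h2
      obtain ⟨w, -, hw⟩ : ∃ w ∈ (⊤ : AddSubgroup V), w ≠ 0 := by
        by_contra h; push Not at h
        exact hVne (eq_bot_iff.mpr fun w hw => AddSubgroup.mem_bot.mpr (h w hw))
      have hcm : Commute e1 e2 := hEc e1 he1 e2 he2
      obtain ⟨k, hk⟩ := exists_norm_ne_zero hV (hEp e1 he1) hcm (hfpf e1 he1 he1ne) hw
      have hne2 : e1 ^ k * e2 ≠ 1 := fun h => he12 (by
        rw [eq_inv_of_mul_eq_one_right h]
        exact inv_mem (pow_mem (mem_zpowers e1) k))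
      exact hk (hfpf _ (mul_mem (pow_mem he1 k) he2) hne2 _
        (norm_fixed (hEp _ (mul_mem (pow_mem he1 k) he2)) w))
    have hlt : Nat.card W < Nat.card V := by
      refine lt_of_le_of_ne (Nat.le_of_dvd Nat.card_pos (AddSubgroup.card_addSubgroup_dvd_card W)) fun h => hWlt ?_
      exact AddSubgroup.eq_top_of_card_eq W h
    haveI := hPn
    obtain ⟨v0, hv0⟩ := ih H0 W (P.subgroupOf H0) inferInstance (hP.comap_of_injective _ H0.subtype_injective)
      (fun hd => hV (hd.trans (AddSubgroup.card_addSubgroup_dvd_card W))) (by omega)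
      ⟨a, hK M0⟩ ha ⟨⟨w, hw⟩, fun e => hwa (congrArg Subtype.val e)⟩
    let f : I → V := fun M => if hM : ∃ t : H, t • M0 = M then hM.choose • (v0 : V) else 0
    have hf : ∀ M, f M ∈ fixedBy V M.1 := by
      intro M
      simp only [f]
      split_ifs with hM
      · have := hfixI hM.choose M0 _ v0.2
        rwa [hM.choose_spec] at this
      · exact AddSubgroup.zero_mem _
    refine ⟨∑ N, f N, fun h hb => ?_⟩
    have hM : ∃ t : H, t • M0 = h • M0 := ⟨h, rfl⟩
    have hbM : (h * a * h⁻¹) • (h • M0) = h • M0 := by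
      rw [mul_smul, mul_smul, inv_smul_smul, hK M0]
    have h1 := hperm _ f hf hb (h • M0)
    rw [hbM] at h1
    simp only [f, dif_pos hM] at h1
    set t := hM.choose with ht
    have htM : t • M0 = h • M0 := hM.choose_spec
    have hs : t⁻¹ * h ∈ H0 := by
      show (t⁻¹ * h) • M0 = M0
      rw [mul_smul, ← htM, inv_smul_smul]
    refine hv0 ⟨t⁻¹ * h, hs⟩ (Subtype.ext ?_)
    show ((t⁻¹ * h) * a * (t⁻¹ * h)⁻¹) • (v0 : V) = v0
    rw [show (t⁻¹ * h) * a * (t⁻¹ * h)⁻¹ = t⁻¹ * (h * a * h⁻¹) * t by group, mul_smul, mul_smul, h1,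
      inv_smul_smul]
  · push Not at hK
    obtain ⟨S, -, hS⟩ := exists_subset_aux (I := I) hP hp2
      (Set.univ : Set I).ncard Set.univ ⊤ le_rfl (fun _ _ _ _ => Set.mem_univ _)
    have hnz : ∀ M : I, ∃ w ∈ fixedBy V M.1, w ≠ 0 := fun M => by
      by_contra h; push Not at h
      exact M.2.2.1 (eq_bot_iff.mpr fun w hw => AddSubgroup.mem_bot.mpr (h w hw))
    choose w hw hwne using hnz
    let f : I → V := fun M => if M ∈ S then w M else 0
    have hf : ∀ M, f M ∈ fixedBy V M.1 := fun M => by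
      simp only [f]; split_ifs
      · exact hw M
      · exact AddSubgroup.zero_mem _
    refine ⟨∑ N, f N, fun h hb => ?_⟩
    have hbP : h * a * h⁻¹ ∈ P := hPn.conj_mem a ha h
    have h1 := hperm _ f hf hb
    have hstab : ∀ N : I, (h * a * h⁻¹) • N ∈ S ↔ N ∈ S := by
      intro N
      have h2 := h1 N
      simp only [f] at h2
      constructor <;> intro hN
      · by_contra hN'
        rw [if_pos hN, if_neg hN', smul_zero] at h2
        exact hwne _ h2.symm
      · by_contra hN'
        rw [if_neg hN', if_pos hN, smul_eq_zero_iff_eq] at h2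
        exact hwne _ h2
    obtain ⟨M, hM⟩ := hK
    have h3 : (h * a * h⁻¹) • (h • M) = h • M :=
      hS ⟨_, hbP⟩ (mem_top _) (fun N _ => hstab N) (h • M) (Set.mem_univ _)
    rw [mul_smul, mul_smul, inv_smul_smul] at h3
    exact hM (MulAction.injective h h3)

/-- The twist subgroup `Ω`. -/
def omega (P : Subgroup H) (hp2 : p ≠ 2) (z : H) (hz : z ^ p = 1)
    (hzc : ∀ g ∈ P, Commute z g) : Subgroup H where
  carrier := {g | g ∈ P ∧ g ^ p = 1 ∧ ∀ y ∈ P, ∃ k : ℤ, g * y = z ^ k * (y * g)}
  one_mem' := ⟨one_mem P, one_pow p, fun y _ => ⟨0, by simp⟩⟩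
  mul_mem' := by
    rintro g g' ⟨hg, hgp, hgt⟩ ⟨hg', hgp', hgt'⟩
    refine ⟨mul_mem hg hg', mul_pow_eq_one hp2 hz (hzc g hg) (hzc g' hg') hgp hgp' (hgt' g hg),
      fun y hy => ?_⟩
    obtain ⟨k, hk⟩ := hgt y hy
    obtain ⟨l, hl⟩ := hgt' y hy
    refine ⟨l + k, ?_⟩
    rw [mul_assoc, hl, ← mul_assoc, ← ((hzc g hg).zpow_left l).eq, mul_assoc, ← mul_assoc g y, hk,
      zpow_add]
    simp only [mul_assoc]
  inv_mem' := by
    rintro g ⟨hg, hgp, hgt⟩
    refine ⟨inv_mem hg, by rw [inv_pow, hgp, inv_one], fun y hy => ?_⟩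
    obtain ⟨k, hk⟩ := hgt y hy
    refine ⟨-k, ?_⟩
    have h1 := zpow_conj_of_twist (hzc g hg) hk (-1)
    rw [zpow_neg_one, mul_neg_one] at h1
    exact h1

/-- The irreducible faithful case, for an element of order `p`. -/
theorem avoid_irreducible {n : ℕ} (ih : Avoids.{u} p n) (hn : Nat.card V ≤ n + 1)
    (hp2 : p ≠ 2) (hV : ¬ p ∣ Nat.card V)
    (hirr : ∀ U : AddSubgroup V, (∀ h : H, ∀ u ∈ U, h • u ∈ U) → U = ⊥ ∨ U = ⊤)
    (hfaith : ∀ h : H, (∀ v : V, h • v = v) → h = 1)
    (P : Subgroup H) (hPn : P.Normal) (hP : IsPGroup p P) (a : H) (ha : a ∈ P) (ha1 : a ≠ 1)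
    (hap : a ^ p = 1) : ∃ v : V, ∀ h : H, (h * a * h⁻¹) • v ≠ v := by
  have hPne : (⊤ : Subgroup P) ≠ ⊥ := fun h => ha1 (by
    have : (⟨a, ha⟩ : P) ∈ (⊥ : Subgroup P) := h ▸ mem_top _
    simpa using congrArg Subtype.val (mem_bot.mp this))
  obtain ⟨z', -, hz'c, hz'o⟩ := PGroups.exists_mem_center_orderOf_eq hP ⊤ hPne
  set z : H := (z' : H)
  have hzo : orderOf z = p := by rw [orderOf_coe]; exact hz'o
  have hz : z ^ p = 1 := by rw [← hzo]; exact pow_orderOf_eq_one z
  have hz1 : z ≠ 1 := fun h => by rw [h, orderOf_one] at hzo; exact hp.out.one_lt.ne hzo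
  have hzP : z ∈ P := z'.2
  have hzc : ∀ g ∈ P, Commute z g := fun g hg =>
    (congrArg Subtype.val (mem_center_iff.mp hz'c ⟨g, hg⟩)).symm
  set E1 : Subgroup H :=
    { carrier := {g | g ∈ P ∧ g ^ p = 1 ∧ ∀ y ∈ P, Commute g y}
      one_mem' := ⟨one_mem P, one_pow p, fun y _ => Commute.one_left y⟩
      mul_mem' := fun {g g'} hg hg' => ⟨mul_mem hg.1 hg'.1,
        by rw [(hg.2.2 g' hg'.1).mul_pow, hg.2.1, hg'.2.1, one_mul],
        fun y hy => (hg.2.2 y hy).mul_left (hg'.2.2 y hy)⟩
      inv_mem' := fun {g} hg => ⟨inv_mem hg.1, by rw [inv_pow, hg.2.1, inv_one],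
        fun y hy => (hg.2.2 y hy).inv_left⟩ }
  have hE1n : E1.Normal := ⟨fun g hg h => ⟨hPn.conj_mem g hg.1 h,
    by rw [← MulAut.conj_apply, ← map_pow, hg.2.1, map_one], fun y hy => by
      have h1 := hg.2.2 (h⁻¹ * y * h⁻¹⁻¹) (hPn.conj_mem y hy h⁻¹)
      have := h1.map (MulAut.conj h).toMonoidHom
      simpa [mul_assoc] using this⟩⟩
  by_cases hE1 : ∃ g ∈ E1, g ∉ zpowers z
  · obtain ⟨g, hg, hgz⟩ := hE1
    exact avoid_of_decomposition ih hn hp2 hV hirr hfaith P hPn hP a ha ha1 E1 hE1n
      (fun g hg y hy => hg.2.2 y hy.1) (fun g hg => hg.2.1) (e1 := z) (e2 := g) ⟨hzP, hz, hzc⟩ hg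
      hz1 hgz
  push Not at hE1
  have hzE1 : zpowers z = E1 := le_antisymm (zpowers_le.mpr ⟨hzP, hz, hzc⟩) hE1
  have hzn : (zpowers z).Normal := hzE1 ▸ hE1n
  have hzbot : fixedBy V (zpowers z) = ⊥ := @fixedBy_eq_bot _ _ _ _ _ _ _ hirr hfaith (zpowers z) hzn
    (by rw [Ne, zpowers_eq_bot]; exact hz1)
  have hfpf : ∀ u : V, z • u = u → u = 0 := fun u hu => by
    have h2 : u ∈ fixedBy V (zpowers z) := fun m hm => by
      have : zpowers z ≤ MulAction.stabilizer H u := zpowers_le.mpr hu
      exact this hm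
    rwa [hzbot, AddSubgroup.mem_bot] at h2
  set Ω := omega P hp2 z hz hzc
  have hΩn : Ω.Normal := ⟨fun g hg h => ⟨hPn.conj_mem g hg.1 h,
    by rw [← MulAut.conj_apply, ← map_pow, hg.2.1, map_one], fun y hy => by
      obtain ⟨k, hk⟩ := hg.2.2 (h⁻¹ * y * h⁻¹⁻¹) (hPn.conj_mem y hy h⁻¹)
      obtain ⟨l, hl⟩ := mem_zpowers_iff.mp (hzn.conj_mem _ (zpow_mem (mem_zpowers z) k) h)
      refine ⟨l, ?_⟩
      have := congrArg (MulAut.conj h) hk
      rw [hl]
      simpa [mul_assoc] using this⟩⟩
  have hzΩ : z ∈ Ω := ⟨hzP, hz, fun y hy => ⟨0, by rw [zpow_zero, one_mul]; exact hzc y hy⟩⟩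
  by_cases hZΩ : ∃ g ∈ Ω, (∀ y ∈ Ω, Commute g y) ∧ g ∉ zpowers z
  · obtain ⟨g, hg, hgc, hgz⟩ := hZΩ
    haveI := hΩn
    refine avoid_of_decomposition ih hn hp2 hV hirr hfaith P hPn hP a ha ha1
      (Ω ⊓ centralizer (Ω : Set H)) inferInstance
      (fun g hg y hy => (mem_centralizer_iff.mp hg.2 y hy.1).symm) (fun g hg => hg.1.2.1)
      (e1 := z) (e2 := g) ⟨hzΩ, ?_⟩ ⟨hg, ?_⟩ hz1 hgz
    · exact mem_centralizer_iff.mpr fun y hy => (hzc y hy.1).eq.symm
    · exact mem_centralizer_iff.mpr fun y hy => (hgc y hy).eq.symm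
  push Not at hZΩ
  -- every element of order `p` of `P` is in `Ω`
  have hcen : ∀ g ∈ P, g ^ p = 1 → (∀ y ∈ Ω, Commute g y) → g ∈ zpowers z := by
    intro g hg hgp hgc
    by_contra hgz
    set C : Subgroup P := (centralizer (Ω : Set H)).subgroupOf P with hC
    haveI := hΩn
    haveI : (centralizer (Ω : Set H)).Normal := inferInstance
    haveI : C.Normal := (inferInstance : (centralizer (Ω : Set H)).Normal).comap P.subtype
    have hgC : (⟨g, hg⟩ : P) ∈ C := mem_centralizer_iff.mpr fun y hy => (hgc y hy).eq.symm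
    have hzC : z' ∈ C := mem_centralizer_iff.mpr fun y hy => (hzc y hy.1).eq.symm
    have hnc : ¬ IsCyclic C := by
      intro hcy
      haveI : Fintype C := Fintype.ofFinite C
      classical
      have h1 := IsCyclic.card_pow_eq_one_le (α := C) hp.out.pos
      refine hgz ?_
      set zC : C := ⟨z', hzC⟩
      set gC : C := ⟨⟨g, hg⟩, hgC⟩
      have hzCo : orderOf zC = p := by rw [← orderOf_coe]; exact hz'o
      have h2 : (zpowers zC : Set C).toFinset = Finset.univ.filter (fun x : C => x ^ p = 1) := by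
        refine Finset.eq_of_subset_of_card_le (fun x hx => ?_) ?_
        · rw [Set.mem_toFinset] at hx
          obtain ⟨k, rfl⟩ := hx
          rw [Finset.mem_filter]
          refine ⟨Finset.mem_univ _, ?_⟩
          rw [← zpow_natCast, ← zpow_mul, mul_comm, zpow_mul, zpow_natCast, ← hzCo,
            pow_orderOf_eq_one, one_zpow]
        · refine h1.trans (le_of_eq ?_)
          rw [Set.toFinset_card, ← hzCo, ← Fintype.card_zpowers]
          exact Fintype.card_congr (Equiv.refl _)
      have h3 : gC ∈ (zpowers zC : Set C).toFinset := by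
        rw [h2, Finset.mem_filter]
        exact ⟨Finset.mem_univ _, Subtype.ext (Subtype.ext (by simpa using hgp))⟩
      rw [Set.mem_toFinset] at h3
      obtain ⟨k, hk⟩ := h3
      exact ⟨k, by simpa using congrArg (fun x : C => ((x : P) : H)) hk⟩
    obtain ⟨B, hBC, hBn, hBc, hBp, hBcard⟩ := PGroups.exists_normal_elementary_sq_le hP hp2 C hnc
    -- `B` lies in `Ω`
    haveI := hBn
    have hBne : B ≠ ⊥ := fun h => by
      rw [h, card_bot] at hBcard
      exact absurd hBcard.symm (Nat.one_lt_pow two_ne_zero hp.out.one_lt).ne'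
    obtain ⟨c, hcB, hcc, hco⟩ := PGroups.exists_mem_center_orderOf_eq hP B hBne
    have hcz : (c : H) ∈ zpowers z := hE1 _ ⟨c.2, by
      rw [← SubgroupClass.coe_pow, ← hco, pow_orderOf_eq_one, OneMemClass.coe_one],
      fun y hy => (congrArg Subtype.val (mem_center_iff.mp hcc ⟨y, hy⟩)).symm⟩
    have hzz : zpowers z' = zpowers c := by
      have h1 : zpowers c ≤ zpowers z' := by
        rw [zpowers_le]
        obtain ⟨k, hk⟩ := hcz
        exact ⟨k, Subtype.ext (by simpa using hk)⟩
      exact (eq_of_le_of_card_ge h1 (by rw [Nat.card_zpowers, Nat.card_zpowers, hco, hz'o])).symm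
    have hzB : zpowers z' ≤ B := hzz ▸ zpowers_le.mpr hcB
    have hZn : (zpowers z').Normal := PGroups.normal_of_le_center (zpowers_le.mpr hz'c)
    haveI := hZn
    set π := QuotientGroup.mk' (zpowers z')
    haveI : (B.map π).Normal := hBn.map π (QuotientGroup.mk'_surjective _)
    have hBbar : Nat.card (B.map π) = p := by
      have h1 := card_mul_index (π.comp B.subtype).ker
      rw [index_ker, MonoidHom.range_comp, range_subtype, hBcard] at h1
      have h2 : (π.comp B.subtype).ker = (zpowers z').subgroupOf B := by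
        rw [← MonoidHom.comap_ker, QuotientGroup.ker_mk']; rfl
      rw [h2, Nat.card_congr (subgroupOfEquivOfLe hzB).toEquiv, Nat.card_zpowers, hz'o, pow_two] at h1
      exact Nat.eq_of_mul_eq_mul_left hp.out.pos h1
    have hBcen := PGroups.le_center_of_card_eq (hP.to_quotient _) (B.map π) hBbar
    have hBΩ : ∀ b ∈ B, (b : H) ∈ Ω := by
      intro b hb
      refine ⟨b.2, by rw [← SubgroupClass.coe_pow, hBp b hb, OneMemClass.coe_one], fun y hy => ?_⟩
      have h1 := mem_center_iff.mp (hBcen ⟨b, hb, rfl⟩) (π ⟨y, hy⟩)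
      rw [← map_mul, ← map_mul, QuotientGroup.mk'_eq_mk'] at h1
      obtain ⟨w, ⟨k, hk⟩, hw⟩ := h1
      refine ⟨k, ?_⟩
      have hk' : (w : H) = z ^ k := by rw [← hk]; simp [z]
      have hw' := congrArg Subtype.val hw
      simp only [Subgroup.coe_mul] at hw'
      rw [← hw', hk', ← ((hzc _ (mul_mem hy b.2)).zpow_left k).eq]
    have hBz : B ≤ zpowers z' := by
      intro b hb
      obtain ⟨k, hk⟩ := hZΩ _ (hBΩ b hb) fun y hy => (mem_centralizer_iff.mp (hBC hb) y hy).symm
      exact ⟨k, Subtype.ext (by simpa using hk)⟩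
    have := card_le_of_le hBz
    rw [hBcard, Nat.card_zpowers, hz'o] at this
    nlinarith [hp.out.two_le]
  have hall : ∀ g ∈ P, g ^ p = 1 → g ∈ Ω → True := fun _ _ _ _ => trivial
  have hmemΩ : ∀ g ∈ P, g ^ p = 1 → (∃ u ∈ Ω, ∀ y ∈ Ω, Commute (g * u) y) → g ∈ Ω := by
    rintro g hg hgp ⟨u, hu, huc⟩
    obtain ⟨k, hk⟩ := hu.2.2 g hg
    have h1 : (g * u) ^ p = 1 :=
      mul_pow_eq_one hp2 hz (hzc g hg) (hzc u hu.1) hgp hu.2.1 ⟨k, hk⟩
    have h2 := hcen _ (mul_mem hg hu.1) h1 huc
    have h3 : g * u ∈ Ω := (zpowers_le.mpr hzΩ) h2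
    simpa [mul_assoc] using mul_mem h3 (inv_mem hu)
  have hΩall : ∀ g ∈ P, g ^ p = 1 → g ∈ Ω := fun g hg hgp =>
    hmemΩ g hg hgp (exists_adjust hp2 z hzo Ω hzΩ (fun y hy => hzc y hy.1)
      (fun x hx y hy => hx.2.2 y hy.1) (fun x hx => hx.2.1) hZΩ g (hzc g hg) (fun y hy => by
        obtain ⟨k, hk⟩ := hy.2.2 g hg
        exact ⟨-k, by rw [hk, ← mul_assoc, ← zpow_add, neg_add_cancel, zpow_zero, one_mul]⟩))
  have hVtop : (⊤ : AddSubgroup V) ≠ ⊥ := fun h => ha1 (hfaith a fun v => by
    have : v ∈ (⊥ : AddSubgroup V) := h ▸ AddSubgroup.mem_top v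
    rw [AddSubgroup.mem_bot] at this
    rw [this, smul_zero])
  obtain ⟨v, -, hv⟩ := exists_regular hV hp2 hz hfpf (Nat.card (⊤ : AddSubgroup V)) ⊤ Ω le_rfl hVtop
    hzΩ (fun g hg => hzc g hg.1) (fun _ _ _ _ => AddSubgroup.mem_top _) (fun g hg => hg.2.1)
    (fun g hg y hy => hg.2.2 y hy.1) (fun g hg hgc => by
      obtain ⟨k, hk⟩ := hZΩ g hg hgc
      exact ⟨k, fun w _ => by rw [← hk]⟩)
  refine ⟨v, fun h hb => ha1 ?_⟩
  have hbΩ : h * a * h⁻¹ ∈ Ω := hΩn.conj_mem a (hΩall a ha hap) h
  have h1 : h * a * h⁻¹ = 1 := hfaith _ fun w => hv _ hbΩ hb w (AddSubgroup.mem_top w)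
  simpa [conj_eq_one_iff] using h1

end Irreducible

section General

theorem range_faithful {H V : Type u} [Group H] [AddCommGroup V] [DistribMulAction H V]
    (h : (DistribMulAction.toModuleEnd ℤ V : H →* Module.End ℤ V).toHomUnits.range)
    (hh : ∀ v : V, ((h : (Module.End ℤ V)ˣ) : Module.End ℤ V) v = v) : h = 1 :=
  Subtype.ext (Units.ext (LinearMap.ext hh))

theorem avoids (hp2 : p ≠ 2) : ∀ n, Avoids.{u} p n
  | 0 => fun H V _ _ _ _ _ P _ _ _ hn => absurd Nat.card_pos (not_lt.mpr hn)
  | n + 1 => fun H V _ _ _ _ _ P hPn hP hV hn a ha hmove => by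
    have ih : Avoids.{u} p n := avoids hp2 n
    by_cases hred : ∃ U : AddSubgroup V, (∀ h : H, ∀ u ∈ U, h • u ∈ U) ∧ U ≠ ⊥ ∧ U ≠ ⊤
    · obtain ⟨U, hUinv, hU0, hU1⟩ := hred
      have hcardU : Nat.card U < Nat.card V := by
        refine lt_of_le_of_ne (Nat.le_of_dvd Nat.card_pos (AddSubgroup.card_addSubgroup_dvd_card U))
          fun h => hU1 ?_
        exact AddSubgroup.eq_top_of_card_eq U h
      letI : DistribMulAction H U :=
        { smul := fun h v => ⟨h • (v : V), hUinv h v v.2⟩
          one_smul := fun v => Subtype.ext (one_smul H (v : V))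
          mul_smul := fun g h v => Subtype.ext (mul_smul g h (v : V))
          smul_zero := fun h => Subtype.ext (smul_zero h)
          smul_add := fun h v v' => Subtype.ext (smul_add h (v : V) (v' : V)) }
      by_cases hmU : ∃ v : U, a • v ≠ v
      · obtain ⟨v, hv⟩ := ih H U P hPn hP
          (fun hd => hV (hd.trans (AddSubgroup.card_addSubgroup_dvd_card U))) (by omega) a ha hmU
        exact ⟨v, fun h e => hv h (Subtype.ext e)⟩
      · push Not at hmU
        have hfixU : ∀ u ∈ U, a • u = u := fun u hu => congrArg Subtype.val (hmU ⟨u, hu⟩)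
        have hcardQ : Nat.card U * Nat.card (V ⧸ U) = Nat.card V := by
          rw [← AddSubgroup.index_eq_card, AddSubgroup.card_mul_index]
        have h2 : 1 < Nat.card U := by
          rw [Finite.one_lt_card_iff_nontrivial]
          by_contra h
          rw [not_nontrivial_iff_subsingleton] at h
          exact hU0 (eq_bot_iff.mpr fun u hu => AddSubgroup.mem_bot.mpr
            (congrArg Subtype.val (Subsingleton.elim (⟨u, hu⟩ : U) 0)))
        let act : H → V ⧸ U →+ V ⧸ U := fun h =>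
          QuotientAddGroup.map U U (DistribSMul.toAddMonoidHom V h) fun u hu => hUinv h u hu
        letI : DistribMulAction H (V ⧸ U) :=
          { smul := fun h v => act h v
            one_smul := fun v => by
              induction v using QuotientAddGroup.induction_on with
              | H v => exact congrArg (QuotientAddGroup.mk' U) (one_smul H v)
            mul_smul := fun g h v => by
              induction v using QuotientAddGroup.induction_on with
              | H v => exact congrArg (QuotientAddGroup.mk' U) (mul_smul g h v)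
            smul_zero := fun h => (act h).map_zero
            smul_add := fun h v v' => (act h).map_add v v' }
        have hlt : Nat.card (V ⧸ U) < Nat.card V := by
          rw [← hcardQ]; exact lt_mul_of_one_lt_left Nat.card_pos h2
        have hmQ : ∃ v : V ⧸ U, a • v ≠ v := by
          by_contra hcon
          push Not at hcon
          obtain ⟨v, hv⟩ := hmove
          have hw : -v + a • v ∈ U := QuotientAddGroup.eq.mp (hcon (v : V ⧸ U)).symm
          obtain ⟨k, hk⟩ := hP ⟨a, ha⟩
          have hak : a ^ p ^ k = 1 := by simpa using congrArg Subtype.val hk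
          set w := -v + a • v
          have hiter : ∀ j : ℕ, a ^ j • v = v + j • w := by
            intro j
            induction j with
            | zero => simp
            | succ j ihj =>
              have hj : a • (j • w) = j • w := hfixU _ (U.nsmul_mem hw j)
              rw [pow_succ', mul_smul, ihj, smul_add, hj, succ_nsmul', ← add_assoc]
              simp only [w, add_neg_cancel_left]
          have h0 := hiter (p ^ k)
          rw [hak, one_smul, left_eq_add] at h0
          have hw0 : w = 0 := by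
            clear_value w
            induction k with
            | zero => simpa using h0
            | succ k ihk =>
              refine AddMonoid.addOrderOf_eq_one_iff.mp ?_
              have hd := addOrderOf_dvd_of_nsmul_eq_zero h0
              obtain ⟨j, -, hj⟩ := (Nat.dvd_prime_pow hp.out).mp hd
              rcases Nat.eq_zero_or_pos j with rfl | hjp
              · simpa using hj
              · exact absurd ((dvd_pow_self p hjp.ne').trans (hj ▸ addOrderOf_dvd_natCard w)) hV
          exact hv (neg_add_eq_zero.mp hw0).symm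
        obtain ⟨v, hv⟩ := ih H (V ⧸ U) P hPn hP
          (fun hd => hV (hd.trans (hcardQ ▸ dvd_mul_left _ _))) (by omega) a ha hmQ
        obtain ⟨v, rfl⟩ := QuotientAddGroup.mk'_surjective U v
        exact ⟨v, fun h e => hv h (congrArg (QuotientAddGroup.mk' U) e)⟩
    · push Not at hred
      have hirr : ∀ U : AddSubgroup V, (∀ h : H, ∀ u ∈ U, h • u ∈ U) → U = ⊥ ∨ U = ⊤ := fun U hU => by
        by_cases h : U = ⊥
        · exact Or.inl h
        · exact Or.inr (hred U hU h)
      set φ : H →* (Module.End ℤ V)ˣ := (DistribMulAction.toModuleEnd ℤ V).toHomUnits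
      letI : DistribMulAction φ.range V :=
        { smul := fun h v => ((h : (Module.End ℤ V)ˣ) : Module.End ℤ V) v
          one_smul := fun v => rfl
          mul_smul := fun g h v => rfl
          smul_zero := fun h => map_zero _
          smul_add := fun h v v' => map_add _ v v' }
      have hrel : ∀ (h : H) (v : V), φ.rangeRestrict h • v = h • v := fun h v => rfl
      haveI hPn' := hPn
      classical
      haveI : Finite φ.range := Finite.of_surjective _ φ.rangeRestrict_surjective
      set P' := P.map φ.rangeRestrict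
      have hP' : IsPGroup p P' := hP.map _
      -- the last power of `a` moving something
      have hexa : ∃ b ∈ P, φ.rangeRestrict b ≠ 1 ∧ φ.rangeRestrict b ^ p = 1 ∧ b ∈ zpowers a := by
        obtain ⟨v, hv⟩ := hmove
        obtain ⟨k, hk⟩ := hP ⟨a, ha⟩
        have hk' : a ^ p ^ k = 1 := by simpa using congrArg Subtype.val hk
        have hex : ∃ j, φ.rangeRestrict a ^ p ^ j = 1 := ⟨k, by rw [← map_pow, hk', map_one]⟩
        have hj0 : Nat.find hex ≠ 0 := fun h0 => hv (by
          have := Nat.find_spec hex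
          rw [h0, pow_zero, pow_one] at this
          rw [← hrel, this, one_smul])
        obtain ⟨j, hj⟩ := Nat.exists_eq_succ_of_ne_zero hj0
        refine ⟨a ^ p ^ j, pow_mem ha _, ?_, ?_, pow_mem (mem_zpowers a) _⟩
        · rw [map_pow]
          exact Nat.find_min hex (by omega)
        · rw [map_pow, ← pow_mul, ← pow_succ]
          have := Nat.find_spec hex
          rwa [hj] at this
      obtain ⟨b, hbP, hb1, hbp, hba⟩ := hexa
      obtain ⟨v, hv⟩ := avoid_irreducible ih hn hp2 hV
        (fun U hU => hirr U fun h u hu => hrel h u ▸ hU (φ.rangeRestrict h) u hu)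
        (fun h hh => range_faithful h hh) P'
        (hPn'.map _ φ.rangeRestrict_surjective) hP' (φ.rangeRestrict b) ⟨b, hbP, rfl⟩ hb1 hbp
      refine ⟨v, fun h e => hv (φ.rangeRestrict h) ?_⟩
      rw [← map_inv, ← map_mul, ← map_mul, hrel]
      obtain ⟨j, rfl⟩ := hba
      rw [← conj_zpow]
      exact zpow_mem (show h * a * h⁻¹ ∈ MulAction.stabilizer H v from e) j

/-- Coprime linear groups: a nontrivially acting element of a normal `p`-subgroup, `p` odd, has no
conjugate fixing a suitable vector. -/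
theorem exists_avoid {H V : Type u} [Group H] [Finite H] [AddCommGroup V] [Finite V]
    [DistribMulAction H V] (hp2 : p ≠ 2) (P : Subgroup H) (hPn : P.Normal) (hP : IsPGroup p P)
    (hV : ¬ p ∣ Nat.card V) (a : H) (ha : a ∈ P) (hmove : ∃ v : V, a • v ≠ v) :
    ∃ v : V, ∀ h : H, (h * a * h⁻¹) • v ≠ v :=
  avoids hp2 (Nat.card V) H V P hPn hP hV le_rfl a ha hmove

end General

end Cfsg.Agent.H24.OrbitAvoid
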