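import Cfsg.Agent.H24.InductionDefect
import Cfsg.Agent.H82.PairConjugacy
import Cfsg.Agent.BlockBasic.Kernel
import Cfsg.Agent.H41.Transitivity

/-!
# Kernels of blocks along Brauer pairs
-/

set_option autoImplicit false

namespace Cfsg.Agent.H24.PiKernel

open BlockBasic CharBasic MonoidAlgebra H82

universe u

variable {G : Type u} [Group G] [Fintype G] {p : ℕ} [hp : Fact p.Prime] {M : Ideal AlgInt}

/-- Every member of `f` takes its degree on the elements of `H` lying in `K`. -/
def KerAt (H : Subgroup G) (f : Set (IrrCharacter H)) (K : Subgroup G) : Prop :=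
  ∀ ξ ∈ f, ∀ k : H, (k : G) ∈ K → (ξ : H → ℂ) k = (ξ : H → ℂ) 1

open scoped Classical in
/-- The average of the elements of a subgroup. -/
noncomputable def avg (K : Subgroup G) : MonoidAlgebra ℂ G :=
  ofFun fun g => if g ∈ K then (Nat.card K : ℂ)⁻¹ else 0

open scoped Classical in
theorem coeff_avg (K : Subgroup G) (g : G) :
    (avg K).coeff g = if g ∈ K then (Nat.card K : ℂ)⁻¹ else 0 := coeff_ofFun _ _

theorem isIntElt_avg (hM : IsPModular p M) {K : Subgroup G} (hK : ¬ p ∣ Nat.card K) :
    IsIntElt M (avg K) := fun g => by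
  rw [coeff_avg]
  split_ifs
  · exact memLocalRing_natCast_inv hM hK
  · exact (locRing hM).zero_mem

omit hp in
theorem isInvElt_avg {K L : Subgroup G} (h : L ≤ Subgroup.normalizer (K : Set G)) :
    IsInvElt L (avg K) := fun l hl g => by
  classical
  rw [coeff_avg, coeff_avg]
  exact if_congr ((Subgroup.mem_normalizer_iff.mp (h hl)) g).symm rfl rfl

variable {H K : Subgroup G} [Fintype H]

omit hp in
theorem up_avg (hKH : K ≤ H) : avg K = up H.subtype (avg (K.subgroupOf H)) := by
  apply coeff_injective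
  ext g
  by_cases hg : g ∈ H
  · rw [show g = H.subtype ⟨g, hg⟩ from rfl, coeff_up H.subtype_injective, coeff_avg, coeff_avg,
      Nat.card_congr (Subgroup.subgroupOfEquivOfLe hKH).toEquiv]
    rfl
  · rw [coeff_avg, if_neg fun h => hg (hKH h), coeff_up_of_notMem]
    rintro ⟨k, rfl⟩
    exact hg k.2

omit hp in
open scoped Classical in
/-- The central character of the average of a normal subgroup. -/
theorem omega_avg {L : Subgroup H} [L.Normal] (θ : IrrCharacter H) :
    omega (θ : H → ℂ) (avg L) =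
      if (∀ l ∈ L, (θ : H → ℂ) l = (θ : H → ℂ) 1) then 1 else 0 := by
  classical
  have hsum : chiLin (θ : H → ℂ) (avg L) =
      (Nat.card L : ℂ)⁻¹ * ∑ l ∈ Finset.univ.filter (· ∈ L), (θ : H → ℂ) l := by
    rw [chiLin, Finset.mul_sum, Finset.sum_filter]
    exact Finset.sum_congr rfl fun g _ => by rw [coeff_avg]; split_ifs <;> simp
  rw [omega, hsum]
  split_ifs with h
  · rw [Finset.sum_congr rfl (fun l hl => h l (Finset.mem_filter.mp hl).2), Finset.sum_const,
      nsmul_eq_mul, Nat.card_eq_fintype_card, Fintype.card_subtype, ← mul_assoc,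
      inv_mul_cancel₀, one_mul, div_self (irr_one_ne_zero θ.2)]
    exact Nat.cast_ne_zero.mpr (Finset.card_pos.mpr ⟨1, by simp [one_mem]⟩).ne'
  · rw [show ∑ l ∈ Finset.univ.filter (· ∈ L), (θ : H → ℂ) l = 0 from by
      by_contra hne
      exact h fun l hl => eq_one_of_sum_ne_zero L θ.2 hne hl, mul_zero, zero_div]

omit hp in
theorem isCentralElt_avg {L : Subgroup H} [L.Normal] : IsCentralElt (avg L) :=
  fun g h => isInvElt_avg (L := ⊤) (le_of_eq (Subgroup.normalizer_eq_top (H := L)).symm) h trivial g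

/-- The Brauer map at `P` on the average of `K` only sees `K ∩ C(P)`. -/
theorem brOmega_avg (hM : IsPModular p M) {P : Subgroup G} (hP : IsPGroup p P) {K : Subgroup G}
    (hK : ¬ p ∣ Nat.card K) (hPK : P ≤ Subgroup.normalizer (K : Set G))
    (hCK : Subgroup.centralizer (P : Set G) ≤ Subgroup.normalizer (K : Set G))
    (ξ : IrrCharacter (Subgroup.centralizer (P : Set G))) :
    ((∀ k : Subgroup.centralizer (P : Set G), (k : G) ∈ K →
        (ξ : Subgroup.centralizer (P : Set G) → ℂ) k = (ξ : Subgroup.centralizer (P : Set G) → ℂ) 1) →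
      MemLocalIdeal M (brOmega P (ξ : Subgroup.centralizer (P : Set G) → ℂ) (avg K) - 1)) ∧
    (¬ MemLocalIdeal M (brOmega P (ξ : Subgroup.centralizer (P : Set G) → ℂ) (avg K)) →
      ∀ k : Subgroup.centralizer (P : Set G), (k : G) ∈ K →
        (ξ : Subgroup.centralizer (P : Set G) → ℂ) k =
          (ξ : Subgroup.centralizer (P : Set G) → ℂ) 1) := by
  classical
  cases nonempty_fintype (Subgroup.centralizer (P : Set G))
  let L := K.subgroupOf (Subgroup.centralizer (P : Set G))
  haveI : L.Normal := ⟨fun n hn g => by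
    show ((g * n * g⁻¹ : Subgroup.centralizer (P : Set G)) : G) ∈ K
    push_cast
    exact (Subgroup.mem_normalizer_iff.mp (hCK g.2) _).mp hn⟩
  have hval : brOmega P (ξ : Subgroup.centralizer (P : Set G) → ℂ) (avg K) =
      (Nat.card K : ℂ)⁻¹ * (Nat.card L : ℂ) *
        omega (ξ : Subgroup.centralizer (P : Set G) → ℂ) (avg L) := by
    rw [brOmega, brauerOmega, finsum_eq_sum_of_fintype, omega, chiLin, Finset.sum_div,
      Finset.mul_sum]
    refine Finset.sum_congr rfl fun k _ => ?_
    rw [coeff_avg, coeff_avg]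
    have hL : (Nat.card L : ℂ) ≠ 0 := Nat.cast_ne_zero.mpr Nat.card_pos.ne'
    by_cases hk : (k : G) ∈ K
    · rw [if_pos hk, if_pos (show k ∈ L from hk)]
      field_simp
    · rw [if_neg hk, if_neg (show k ∉ L from hk)]
      simp
  have hcount : MemLocalIdeal M ((Nat.card K : ℂ)⁻¹ * (Nat.card L : ℂ) - 1) := by
    have h := memLocalIdeal_sum_sub_sum_centralizer hM hP
      (f := fun g => if g ∈ K then (Nat.card K : ℂ)⁻¹ else 0)
      (fun g => by
        split_ifs
        · exact memLocalRing_natCast_inv hM hK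
        · exact (locRing hM).zero_mem)
      (fun q hq g => if_congr ((Subgroup.mem_normalizer_iff.mp (hPK hq)) g).symm rfl rfl)
    rw [← Finset.sum_filter, ← Finset.sum_filter, Finset.sum_const, Finset.sum_const, nsmul_eq_mul,
      nsmul_eq_mul, ← Fintype.card_subtype, ← Fintype.card_subtype,
      ← Nat.card_eq_fintype_card, ← Nat.card_eq_fintype_card,
      show Nat.card {x // x ∈ K} = Nat.card K from rfl,
      mul_inv_cancel₀ (Nat.cast_ne_zero.mpr Nat.card_pos.ne' : (Nat.card K : ℂ) ≠ 0)] at h
    have h' := memLocalIdeal_neg h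
    rw [neg_sub, mul_comm] at h'
    exact h'
  rw [hval, omega_avg]
  refine ⟨fun h => ?_, fun h k hk => ?_⟩
  · rw [if_pos (show ∀ l ∈ L, _ from fun l hl => h l hl), mul_one]
    exact hcount
  · by_contra hne
    rw [if_neg fun hall => hne (hall k hk), mul_zero] at h
    exact h (memLocalIdeal_zero hM)

variable {P : Subgroup G} {b : Set (IrrCharacter H)}

/-- Going down: the kernel of the pair gives the kernel of the block. -/
theorem kerAt_down (hM : IsPModular p M) (hP : IsPGroup p P)
    (hC : Subgroup.centralizer (P : Set G) ≤ H) (hb : IsPBlock M b) (hbP : IsInvElt P (blockUp H b))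
    (hKH : K ≤ H) (hHK : H ≤ Subgroup.normalizer (K : Set G))
    (hPK : P ≤ Subgroup.normalizer (K : Set G)) (hK : ¬ p ∣ Nat.card K)
    (ξ : IrrCharacter (Subgroup.centralizer (P : Set G)))
    (hone : MemLocalIdeal M
      (brOmega P (ξ : Subgroup.centralizer (P : Set G) → ℂ) (blockUp H b) - 1))
    (hker : ∀ k : Subgroup.centralizer (P : Set G), (k : G) ∈ K →
      (ξ : Subgroup.centralizer (P : Set G) → ℂ) k = (ξ : Subgroup.centralizer (P : Set G) → ℂ) 1) :
    KerAt H b K := by
  classical
  haveI : (K.subgroupOf H).Normal := Subgroup.normal_subgroupOf_of_le_normalizer hHK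
  by_contra hno
  have hall : ∀ θ ∈ b, ¬ ∀ l ∈ K.subgroupOf H, (θ : H → ℂ) l = (θ : H → ℂ) 1 := by
    intro θ hθ hk
    refine hno fun ψ hψ k hkK => le_blockKer hM (isPBlock_sameBlock hM hb hθ hψ) (K.subgroupOf H)
      (fun h => hK (by rwa [Nat.card_congr (Subgroup.subgroupOfEquivOfLe hKH).toEquiv] at h))
      hk hkK
  have hzero : blockElem b * avg (K.subgroupOf H) = 0 := by
    refine eq_of_omega_eq ((isCentralElt_blockElem b).mul isCentralElt_avg)
      (fun g h => by simp) fun θ => ?_
    rw [omega_mul θ.2 (isCentralElt_blockElem b), omega_blockElem, omega_avg, show omega (θ : H → ℂ) 0 = 0 by simp [omega, chiLin]]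
    by_cases hθ : θ ∈ b
    · rw [if_neg (hall θ hθ), mul_zero]
    · rw [if_neg hθ, zero_mul]
  have hup : blockUp H b * avg K = 0 := by
    rw [blockUp_eq_up, up_avg hKH, ← map_mul, hzero, map_zero]
  have h1 := brOmega_mul hM hP ξ.2 (isIntElt_blockUp hM hb) (isIntElt_avg hM hK) hbP
    (isInvElt_avg hPK) ((isInvElt_blockUp_self H b).mono hC) (isInvElt_avg (hC.trans hHK))
  rw [hup, brOmega_zero] at h1
  have h2 := (brOmega_avg hM hP hK hPK (hC.trans hHK) ξ).1 hker
  have hF := memLocalRing_brOmega hM ξ.2 (isInvElt_avg (hC.trans hHK)) (isIntElt_avg hM hK)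
  have h3 := memLocalIdeal_add hM (memLocalIdeal_add hM h1 (memLocalIdeal_mul hM hF hone)) h2
  apply not_memLocalIdeal_one hM
  convert memLocalIdeal_neg h3 using 1
  ring

/-- Going up: the kernel of the block gives the kernel of the pair. -/
theorem kerAt_up (hM : IsPModular p M) (hP : IsPGroup p P)
    (hC : Subgroup.centralizer (P : Set G) ≤ H) (hb : IsPBlock M b) (hbP : IsInvElt P (blockUp H b))
    (hKH : K ≤ H) (hHK : H ≤ Subgroup.normalizer (K : Set G))
    (hPK : P ≤ Subgroup.normalizer (K : Set G)) (hK : ¬ p ∣ Nat.card K)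
    (ξ : IrrCharacter (Subgroup.centralizer (P : Set G)))
    (hone : MemLocalIdeal M
      (brOmega P (ξ : Subgroup.centralizer (P : Set G) → ℂ) (blockUp H b) - 1))
    (hker : KerAt H b K) :
    ∀ k : Subgroup.centralizer (P : Set G), (k : G) ∈ K →
      (ξ : Subgroup.centralizer (P : Set G) → ℂ) k =
        (ξ : Subgroup.centralizer (P : Set G) → ℂ) 1 := by
  classical
  haveI : (K.subgroupOf H).Normal := Subgroup.normal_subgroupOf_of_le_normalizer hHK
  have hone' : blockElem b * avg (K.subgroupOf H) = blockElem b := by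
    refine eq_of_omega_eq ((isCentralElt_blockElem b).mul isCentralElt_avg)
      (isCentralElt_blockElem b) fun θ => ?_
    rw [omega_mul θ.2 (isCentralElt_blockElem b), omega_blockElem, omega_avg]
    by_cases hθ : θ ∈ b
    · rw [if_pos hθ, if_pos (show ∀ l ∈ K.subgroupOf H, _ from fun l hl => hker θ hθ l hl), mul_one]
    · rw [if_neg hθ, zero_mul]
  have hup : blockUp H b * avg K = blockUp H b := by
    rw [blockUp_eq_up, up_avg hKH, ← map_mul, hone']
  have h1 := brOmega_mul hM hP ξ.2 (isIntElt_blockUp hM hb) (isIntElt_avg hM hK) hbP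
    (isInvElt_avg hPK) ((isInvElt_blockUp_self H b).mono hC) (isInvElt_avg (hC.trans hHK))
  rw [hup] at h1
  refine (brOmega_avg hM hP hK hPK (hC.trans hHK) ξ).2 fun h0 => not_memLocalIdeal_one hM ?_
  have hF := memLocalRing_brOmega hM ξ.2 ((isInvElt_blockUp_self H b).mono hC)
    (isIntElt_blockUp hM hb)
  have h3 := memLocalIdeal_sub hM (memLocalIdeal_add hM h1 (memLocalIdeal_mul hM hF h0)) hone
  convert h3 using 1
  ring

end Cfsg.Agent.H24.PiKernel
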