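import Cfsg.Agent.H24.PiKernel
import Cfsg.Agent.Cores.SecondMain
import Cfsg.Agent.H82.PairStab
import Cfsg.Agent.H35.BlockInduction

/-!
# The π'-kernel of blocks with a given Brauer correspondent
-/

set_option autoImplicit false

namespace Cfsg.Agent.H24.PiKernel

open BlockBasic CharBasic MonoidAlgebra H82

universe u

variable {G : Type u} [Group G] [Fintype G] {p : ℕ} [hp : Fact p.Prime] {M : Ideal AlgInt}
  {π : Set ℕ}

/-- `O_π'` of a subgroup. -/
def core (π : Set ℕ) (X : Subgroup G) : Subgroup G := piCoreOf {q | q ∉ π} X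

omit [Fintype G] hp in
theorem core_le (π : Set ℕ) (X : Subgroup G) : core π X ≤ X := H41.piCoreOf_le _ _

omit [Fintype G] hp in
theorem normalizer_le_core (π : Set ℕ) (X : Subgroup G) :
    Subgroup.normalizer (X : Set G) ≤ Subgroup.normalizer (core π X : Set G) :=
  H41.normalizer_le_normalizer_piCoreOf _ _

omit [Fintype G] hp in
theorem le_normalizer_core (π : Set ℕ) (X : Subgroup G) :
    X ≤ Subgroup.normalizer (core π X : Set G) :=
  Subgroup.le_normalizer.trans (normalizer_le_core π X)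

omit hp in
theorem isPiNumber_core (π : Set ℕ) (X : Subgroup G) :
    Cores.IsPiNumber {q | q ∉ π} (Nat.card (core π X)) := H41.piCoreOf_isPiNumber _ _

theorem not_dvd_card_core (hpπ : p ∈ π) (X : Subgroup G) : ¬ p ∣ Nat.card (core π X) :=
  fun h => isPiNumber_core π X p hp.out h hpπ

omit hp in
theorem le_core {X N : Subgroup G} (hN : N ≤ X) (hn : X ≤ Subgroup.normalizer (N : Set G))
    (h : Cores.IsPiNumber {q | q ∉ π} (Nat.card N)) : N ≤ core π X :=
  H41.le_piCoreOf hN hn h

omit hp in
/-- The `π'`-core of `H` meets `C(Q)` inside the `π'`-core of `C(Q)`. -/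
theorem inf_le_core {H C : Subgroup G} (hC : C ≤ H) : core π H ⊓ C ≤ core π C := by
  refine le_core inf_le_right (fun c hc => ?_) fun q hq h =>
    isPiNumber_core π H q hq (h.trans (Subgroup.card_dvd_of_le inf_le_left))
  rw [Subgroup.mem_normalizer_iff]
  intro x
  have h1 := Subgroup.mem_normalizer_iff.mp (le_normalizer_core π H (hC hc)) x
  refine ⟨fun hx => ⟨h1.mp hx.1, C.mul_mem (C.mul_mem hc hx.2) (C.inv_mem hc)⟩,
    fun hx => ⟨h1.mpr hx.1, ?_⟩⟩
  have := C.mul_mem (C.mul_mem (C.inv_mem hc) hx.2) hc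
  simpa [mul_assoc] using this

/-- The core of the centralizer lies in the kernel of the pair. -/
def PairKer (π : Set ℕ) (a : BrauerPairIdx G) : Prop :=
  KerAt (Subgroup.centralizer (a.1 : Set G)) a.2 (core π (Subgroup.centralizer (a.1 : Set G)))

/-- The core of the centralizer contains all elements of `π'`-order. -/
def CentHall (π : Set ℕ) (Q : Subgroup G) : Prop :=
  ∀ x : G, x ∈ Subgroup.centralizer (Q : Set G) →
    (∀ q : ℕ, q.Prime → q ∣ orderOf x → q ∉ π) → x ∈ core π (Subgroup.centralizer (Q : Set G))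

omit hp in
theorem CentHall.mono {Q R : Subgroup G} (h : CentHall π Q) (hQR : Q ≤ R) : CentHall π R := by
  intro x hx hx'
  have hCC : Subgroup.centralizer (R : Set G) ≤ Subgroup.centralizer (Q : Set G) :=
    Subgroup.centralizer_le hQR
  exact inf_le_core hCC ⟨h x (hCC hx) hx', hx⟩

omit hp in
theorem core_centralizer_le {Q R : Subgroup G} (h : CentHall π Q) (hQR : Q ≤ R) :
    core π (Subgroup.centralizer (R : Set G)) ≤ core π (Subgroup.centralizer (Q : Set G)) := by
  intro x hx
  refine h x (Subgroup.centralizer_le hQR (core_le π _ hx)) fun q hq hd =>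
    isPiNumber_core π (Subgroup.centralizer (R : Set G)) q hq (hd.trans ?_)
  rw [show orderOf x = orderOf (⟨x, hx⟩ : core π (Subgroup.centralizer (R : Set G))) from
    (Subgroup.orderOf_mk x hx).symm]
  exact orderOf_dvd_natCard _

theorem pairKer_of_step (hM : IsPModular p M) (hpπ : p ∈ π) {a b : BrauerPairIdx G}
    (h : NormalSubpairRel p M a b) :
    (PairKer π b → PairKer π a) ∧ (CentHall π a.1 → PairKer π a → PairKer π b) := by
  classical
  obtain ⟨Q, f⟩ := a
  obtain ⟨P, e⟩ := b
  obtain ⟨hQf, hPe, hQP, hPN, hst, -⟩ := id h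
  cases nonempty_fintype (Subgroup.centralizer (Q : Set G))
  have hC : Subgroup.centralizer (P : Set G) ≤ Subgroup.centralizer (Q : Set G) :=
    Subgroup.centralizer_le hQP
  have hbP : IsInvElt P (blockUp (Subgroup.centralizer (Q : Set G)) f) :=
    isInvElt_blockUp_of_stabilizes hM hQf.2 hst
  have hPK : P ≤ Subgroup.normalizer (core π (Subgroup.centralizer (Q : Set G)) : Set G) :=
    (hPN.trans (normalizer_le_normalizer_centralizer Q)).trans (normalizer_le_core π _)
  obtain ⟨ξ, hξ⟩ := isPBlock_nonempty hM hPe.2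
  constructor
  · intro hb
    refine kerAt_down hM hPe.1 hC hQf.2 hbP (core_le π _) (le_normalizer_core π _) hPK
      (not_dvd_card_core hpπ _) ξ (brOmega_blockUp_of_isNormalSubpair h hξ) fun k hk => ?_
    exact hb ξ hξ k (inf_le_core hC ⟨hk, k.2⟩)
  · intro hH ha η hη k hk
    exact kerAt_up hM hPe.1 hC hQf.2 hbP (core_le π _) (le_normalizer_core π _) hPK
      (not_dvd_card_core hpπ _) η (brOmega_blockUp_of_isNormalSubpair h hη) ha k
      (core_centralizer_le hH hQP hk)

theorem pairKer_of_le (hM : IsPModular p M) (hpπ : p ∈ π) {a b : BrauerPairIdx G}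
    (h : Relation.ReflTransGen (NormalSubpairRel p M) a b) :
    (PairKer π b → PairKer π a) ∧ (CentHall π a.1 → PairKer π a → PairKer π b) := by
  induction h with
  | refl => exact ⟨id, fun _ => id⟩
  | @tail c d hac hcd ih =>
    exact ⟨fun hd => ih.1 ((pairKer_of_step hM hpπ hcd).1 hd),
      fun hH ha => (pairKer_of_step hM hpπ hcd).2 (hH.mono (le_of_reflTransGen hac)) (ih.2 hH ha)⟩

omit hp in
theorem PairKer.conj (x : G) {a : BrauerPairIdx G} (h : PairKer π a) :
    PairKer π (conjPair x a) := by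
  obtain ⟨Q, f⟩ := a
  rintro ξ' ⟨ξ, hξ, hval⟩ k' hk'
  have hmem : ∀ g : G, g ∈ Subgroup.centralizer ((Q.map (MulAut.conj x).toMonoidHom : Subgroup G) : Set G) ↔
      x⁻¹ * g * x ∈ Subgroup.centralizer (Q : Set G) := by
    intro g
    rw [centralizer_map_conj]
    exact ⟨fun ⟨y, hy, hyg⟩ => by
      rw [← hyg]; simpa [mul_assoc] using hy, fun hg => ⟨_, hg, by simp [mul_assoc]⟩⟩
  let K' := core π (Subgroup.centralizer ((Q.map (MulAut.conj x).toMonoidHom : Subgroup G) : Set G))
  have hsub : K'.map (MulAut.conj x⁻¹).toMonoidHom ≤ core π (Subgroup.centralizer (Q : Set G)) := by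
    refine le_core ?_ ?_ ?_
    · rintro _ ⟨g, hg, rfl⟩
      simpa using (hmem g).mp (core_le π _ hg)
    · intro c hc
      have hc' : x * c * x⁻¹ ∈ Subgroup.normalizer (K' : Set G) :=
        le_normalizer_core π _ ((hmem _).mpr (by simpa [mul_assoc] using hc))
      rw [Subgroup.mem_normalizer_iff_map_conj_eq, Subgroup.map_map]
      conv_rhs => rw [← Subgroup.mem_normalizer_iff_map_conj_eq.mp hc']
      rw [Subgroup.map_map]
      congr 1
      ext g
      simp [mul_assoc]
    · rw [Subgroup.card_map_of_injective (MulAut.conj x⁻¹).injective]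
      exact isPiNumber_core π _
  have hk : x⁻¹ * (k' : G) * x ∈ core π (Subgroup.centralizer (Q : Set G)) :=
    hsub ⟨k', hk', by simp⟩
  have hkC : x⁻¹ * (k' : G) * x ∈ Subgroup.centralizer (Q : Set G) := core_le π _ hk
  exact (hval ⟨_, hkC⟩ k' (by simp [mul_assoc])).trans
    ((h ξ hξ ⟨_, hkC⟩ hk).trans (hval 1 1 (by simp)).symm)

variable {B : Set (IrrCharacter G)} {D : Subgroup G}

/-- A root of a block at a normal `p`-subgroup or defect group `P`. -/
theorem exists_root (hM : IsPModular p M) {H : Subgroup G} {b : Set (IrrCharacter H)}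
    (hind : IsInducedBlock M H b B) {P : Subgroup G} (hP : IsPGroup p P) (hPH : P ≤ H)
    (hC : Subgroup.centralizer (P : Set G) ≤ H) {a : H}
    (haC : (a : G) ∈ Subgroup.centralizer (P : Set G)) (ha : ¬ MemLocalIdeal M (blockCoeff b a)) :
    ∃ e : Set (IrrCharacter (Subgroup.centralizer (P : Set G))),
      IsBrauerPairOf p M B P e ∧ ∀ ξ ∈ e, MemLocalIdeal M
        (brOmega P (ξ : Subgroup.centralizer (P : Set G) → ℂ) (blockUp H b) - 1) := by
  obtain ⟨e, he, hone⟩ := InductionDefect.exists_pair_of_coeff hM hind.1 hP hPH hC haC ha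
  obtain ⟨B', hB', -⟩ := S4657.result p M hM P e he
  obtain rfl : B = B' :=
    isInducedBlock_unique hM hind (InductionDefect.induced_of_pair hM hind.1 hPH hC hB' hone)
  exact ⟨e, hB', hone⟩

/-- The maximal pair sitting under the Brauer correspondent. -/
theorem exists_maximal_root (hM : IsPModular p M) (hBD : IsDefectGroup p M B D)
    {B₁ : Set (IrrCharacter (Subgroup.normalizer (D : Set G)))}
    (hB₁ : IsInducedBlock M (Subgroup.normalizer (D : Set G)) B₁ B)
    (hB₁D : IsDefectGroup p M B₁ (D.subgroupOf (Subgroup.normalizer (D : Set G)))) :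
    IsPGroup p D ∧ ∃ e : Set (IrrCharacter (Subgroup.centralizer (D : Set G))),
      IsMaximalBrauerPair p M B D e ∧ ∀ ξ ∈ e, MemLocalIdeal M
        (brOmega D (ξ : Subgroup.centralizer (D : Set G) → ℂ)
          (blockUp (Subgroup.normalizer (D : Set G)) B₁) - 1) := by
  classical
  obtain ⟨a₀, -, S₀, hS₀⟩ := id hBD
  have hP : IsPGroup p D := hS₀ ▸ H35.sylImage_isPGroup S₀
  obtain ⟨a, ha, S, hS⟩ := hB₁D
  have hle : D.subgroupOf (Subgroup.normalizer (D : Set G)) ≤
      Subgroup.centralizer ({a} : Set (Subgroup.normalizer (D : Set G))) :=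
    hS ▸ H35.sylImage_le S
  have haC : (a : G) ∈ Subgroup.centralizer (D : Set G) := by
    have := InductionDefect.map_subgroupOf_centralizer hle
    rwa [Subgroup.map_subgroupOf_eq_of_le Subgroup.le_normalizer] at this
  obtain ⟨e, he, hone⟩ := exists_root hM hB₁ hP Subgroup.le_normalizer
    (Subgroup.centralizer_le_normalizer _) haC ha.2.1
  exact ⟨hP, e, isMaximal_of_card hM he (H35.card_defectGroup hM hB₁.2.1 hBD).ge, hone⟩

/-- Downwards: S4734. -/
theorem kerAt_core_of_correspondent (hM : IsPModular p M) (hpπ : p ∈ π)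
    (hBD : IsDefectGroup p M B D) {B₁ : Set (IrrCharacter (Subgroup.normalizer (D : Set G)))}
    (hB₁ : IsInducedBlock M (Subgroup.normalizer (D : Set G)) B₁ B)
    (hB₁D : IsDefectGroup p M B₁ (D.subgroupOf (Subgroup.normalizer (D : Set G))))
    (hker : KerAt (Subgroup.normalizer (D : Set G)) B₁ (core π (Subgroup.normalizer (D : Set G))))
    {G₀ : Subgroup G} {B₀ : Set (IrrCharacter G₀)} (hB₀ : IsInducedBlock M G₀ B₀ B)
    {D₀ : Subgroup G₀} (hD₀ : IsDefectGroup p M B₀ D₀)
    (hC : Subgroup.centralizer ((D₀.map G₀.subtype : Subgroup G) : Set G) ≤ G₀) :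
    KerAt G₀ B₀ (core π G₀) := by
  classical
  cases nonempty_fintype G₀
  cases nonempty_fintype (Subgroup.normalizer (D : Set G))
  obtain ⟨hDp, e₁, hmax₁, hone₁⟩ := exists_maximal_root hM hBD hB₁ hB₁D
  -- the pair at `D`
  have hN : Subgroup.normalizer (D : Set G) ≤
      Subgroup.normalizer (core π (Subgroup.centralizer (D : Set G)) : Set G) :=
    (normalizer_le_normalizer_centralizer D).trans (normalizer_le_core π _)
  have hsub : core π (Subgroup.centralizer (D : Set G)) ≤
      core π (Subgroup.normalizer (D : Set G)) :=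
    le_core ((core_le π _).trans (Subgroup.centralizer_le_normalizer _)) hN (isPiNumber_core π _)
  have h1 : PairKer π ⟨D, e₁⟩ := fun η hη k hk =>
    kerAt_up hM hDp (Subgroup.centralizer_le_normalizer _) hB₁.1
      ((isInvElt_blockUp_self _ B₁).mono Subgroup.le_normalizer)
      ((core_le π _).trans (Subgroup.centralizer_le_normalizer _)) hN
      (Subgroup.le_normalizer.trans hN) (not_dvd_card_core hpπ _) η (hone₁ η hη)
      (fun ξ hξ x hx => hker ξ hξ x (hsub hx)) k hk
  -- transport to the pair at `D₀`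
  obtain ⟨a, ha, S, hS⟩ := hD₀
  have haC : (a : G) ∈ Subgroup.centralizer ((D₀.map G₀.subtype : Subgroup G) : Set G) :=
    InductionDefect.map_subgroupOf_centralizer (hS ▸ H35.sylImage_le S)
  have hD₀p : IsPGroup p (D₀.map G₀.subtype : Subgroup G) :=
    (hS ▸ H35.sylImage_isPGroup S : IsPGroup p D₀).map _
  obtain ⟨e₀, he₀, hone₀⟩ := exists_root hM hB₀ hD₀p (Subgroup.map_subtype_le _) hC haC ha.2.1
  obtain ⟨E, f, hmax, hle⟩ := exists_maximal_above hM he₀
  obtain ⟨x, hx⟩ := exists_conj_maximal hM hmax hmax₁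
  have h2 := (pairKer_of_le hM hpπ hle).1 (hx ▸ h1.conj x)
  obtain ⟨ξ, hξ⟩ := isPBlock_nonempty hM he₀.1.2
  refine kerAt_down hM hD₀p hC hB₀.1
    ((isInvElt_blockUp_self _ B₀).mono (Subgroup.map_subtype_le _)) (core_le π _)
    (le_normalizer_core π _) ((Subgroup.map_subtype_le _).trans (le_normalizer_core π _))
    (not_dvd_card_core hpπ _) ξ (hone₀ ξ hξ) fun k hk => ?_
  exact h2 ξ hξ k (inf_le_core hC ⟨hk, k.2⟩)

/-- Upwards: S4728. -/
theorem kerAt_core_normalizer (hM : IsPModular p M) (hpπ : p ∈ π)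
    (hBD : IsDefectGroup p M B D) {B₁ : Set (IrrCharacter (Subgroup.normalizer (D : Set G)))}
    (hB₁ : IsInducedBlock M (Subgroup.normalizer (D : Set G)) B₁ B)
    (hB₁D : IsDefectGroup p M B₁ (D.subgroupOf (Subgroup.normalizer (D : Set G))))
    {D₀ : Subgroup G} (hD₀ : IsPGroup p D₀) {H₀ : Subgroup G}
    (hH₀ : H₀ = D₀ ⊔ Subgroup.centralizer (D₀ : Set G)) {b : Set (IrrCharacter H₀)}
    (hb : IsInducedBlock M H₀ b B) (hHall : CentHall π D₀)
    (hkerb : KerAt H₀ b (core π (Subgroup.centralizer (D₀ : Set G)))) :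
    KerAt (Subgroup.normalizer (D : Set G)) B₁ (core π (Subgroup.normalizer (D : Set G))) := by
  classical
  cases nonempty_fintype H₀
  cases nonempty_fintype (Subgroup.normalizer (D : Set G))
  have hDH : D₀ ≤ H₀ := hH₀ ▸ le_sup_left
  have hCH : Subgroup.centralizer (D₀ : Set G) ≤ H₀ := hH₀ ▸ le_sup_right
  have hHN : H₀ ≤ Subgroup.normalizer (D₀ : Set G) :=
    hH₀ ▸ sup_le Subgroup.le_normalizer (Subgroup.centralizer_le_normalizer _)
  haveI : (D₀.subgroupOf H₀).Normal := Subgroup.normal_subgroupOf_of_le_normalizer hHN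
  obtain ⟨a, ha⟩ := exists_isDefectClass hM hb.1
  have hDb : IsDefectGroup p M b (H35.sylImage (default : Sylow p _)) := ⟨a, ha, default, rfl⟩
  have hle := (H35.le_defectGroup_of_normal hM hb.1 hDb (D₀.subgroupOf H₀)
    (hD₀.comap_of_injective H₀.subtype H₀.subtype_injective)).trans (H35.sylImage_le _)
  have haC : (a : G) ∈ Subgroup.centralizer (D₀ : Set G) := by
    have := InductionDefect.map_subgroupOf_centralizer hle
    rwa [Subgroup.map_subgroupOf_eq_of_le hDH] at this
  obtain ⟨e, he, hone⟩ := exists_root hM hb hD₀ hDH hCH haC ha.2.1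
  have hHK : H₀ ≤ Subgroup.normalizer (core π (Subgroup.centralizer (D₀ : Set G)) : Set G) :=
    (hHN.trans (normalizer_le_normalizer_centralizer D₀)).trans (normalizer_le_core π _)
  have h1 : PairKer π ⟨D₀, e⟩ := fun η hη k hk =>
    kerAt_up hM hD₀ hCH hb.1 ((isInvElt_blockUp_self _ b).mono hDH) ((core_le π _).trans hCH) hHK
      (hDH.trans hHK) (not_dvd_card_core hpπ _) η (hone η hη) hkerb k hk
  obtain ⟨E, f, hmax, hle'⟩ := exists_maximal_above hM he
  have h2 := (pairKer_of_le hM hpπ hle').2 hHall h1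
  obtain ⟨hDp, e₁, hmax₁, hone₁⟩ := exists_maximal_root hM hBD hB₁ hB₁D
  obtain ⟨x, hx⟩ := exists_conj_maximal hM hmax₁ hmax
  have h3 : PairKer π ⟨D, e₁⟩ := hx ▸ h2.conj x
  obtain ⟨ξ, hξ⟩ := isPBlock_nonempty hM hmax₁.1.1.2
  refine kerAt_down hM hDp (Subgroup.centralizer_le_normalizer _) hB₁.1
    ((isInvElt_blockUp_self _ B₁).mono Subgroup.le_normalizer) (core_le π _)
    (le_normalizer_core π _) (Subgroup.le_normalizer.trans (le_normalizer_core π _))
    (not_dvd_card_core hpπ _) ξ (hone₁ ξ hξ) fun k hk => ?_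
  exact h3 ξ hξ k (inf_le_core (Subgroup.centralizer_le_normalizer _) ⟨hk, k.2⟩)

omit hp in
/-- Translation to `blockKer`. -/
theorem kerAt_iff_blockKer {H : Subgroup G} {b : Set (IrrCharacter H)} :
    KerAt H b (core π H) ↔ ∀ x : H, x ∈ piCore {q | q ∉ π} H → x ∈ blockKer b := by
  constructor
  · exact fun h x hx ξ hξ => h ξ hξ x ⟨x, hx, rfl⟩
  · rintro h ξ hξ k ⟨y, hy, hyk⟩
    obtain rfl : y = k := Subtype.ext hyk
    exact h y hy ξ hξ

omit [Fintype G] hp in
/-- A class function with all block parts constant at `x` is constant at `x`. -/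
theorem eq_of_blockPart_eq {C : Type u} [Group C] [Fintype C] (hM : IsPModular p M) {θ : C → ℂ}
    (hθ : IsClassFunction C θ) (x : C)
    (h : ∀ b : Set (IrrCharacter C), IsPBlock M b → blockPart b θ x = blockPart b θ 1) :
    θ x = θ 1 := by
  classical
  let F : IrrCharacter C → Set (IrrCharacter C) := fun ψ => blockOf M (ψ : C → ℂ)
  have hsum : ∀ g : C,
      θ g = ∑ b ∈ (Finset.univ : Finset (IrrCharacter C)).image F, blockPart b θ g := by
    intro g
    conv_lhs => rw [classFunction_expansion hθ]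
    rw [Finset.sum_apply, ← Finset.sum_fiberwise_of_maps_to (g := F)
      (fun ψ _ => Finset.mem_image_of_mem F (Finset.mem_univ ψ))]
    refine Finset.sum_congr rfl fun b hb => ?_
    obtain ⟨ψ₀, -, rfl⟩ := Finset.mem_image.mp hb
    rw [blockPart, Subsingleton.elim (Fintype.ofFinite C) ‹Fintype C›, finsum_mem_eq_sum_ite,
      Finset.sum_filter]
    refine Finset.sum_congr rfl fun ψ _ => if_congr ?_ rfl rfl
    exact ⟨fun h => h ▸ self_mem_blockOf hM ψ,
      fun h => (isPBlock_eq_blockOf hM (isPBlock_blockOf M ψ₀) h).symm⟩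
  rw [hsum x, hsum 1]
  exact Finset.sum_congr rfl fun b hb => by
    obtain ⟨ψ₀, -, rfl⟩ := Finset.mem_image.mp hb
    exact h _ (isPBlock_blockOf M ψ₀)

/-- S4727: the section of a `p`-element with a normal Hall `π'`-subgroup in its centralizer. -/
theorem apply_mul_eq (hM : IsPModular p M) (hpπ : p ∈ π) (hB : IsPBlock M B)
    (hBD : IsDefectGroup p M B D) {B₁ : Set (IrrCharacter (Subgroup.normalizer (D : Set G)))}
    (hB₁ : IsInducedBlock M (Subgroup.normalizer (D : Set G)) B₁ B)
    (hB₁D : IsDefectGroup p M B₁ (D.subgroupOf (Subgroup.normalizer (D : Set G))))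
    (hker : KerAt (Subgroup.normalizer (D : Set G)) B₁ (core π (Subgroup.normalizer (D : Set G))))
    {y : G} {e : ℕ} (hy : orderOf y = p ^ e) {χ : IrrCharacter G} (hχ : χ ∈ B)
    (x : Subgroup.centralizer ({y} : Set G))
    (hx : (x : G) ∈ core π (Subgroup.centralizer ({y} : Set G))) :
    (χ : G → ℂ) (y * x) = (χ : G → ℂ) y := by
  classical
  cases nonempty_fintype (Subgroup.centralizer ({y} : Set G))
  have hyx : ∀ c : (Subgroup.centralizer ({y} : Set G)), (c : G) * y = y * (c : G) := fun c =>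
    Subgroup.mem_centralizer_singleton_iff.mp c.2
  have hxreg : ¬ p ∣ orderOf x := fun h => not_dvd_card_core hpπ (Subgroup.centralizer ({y} : Set G))
    ((Subgroup.orderOf_coe x ▸ h).trans
      (Subgroup.orderOf_mk (x : G) hx ▸ orderOf_dvd_natCard (⟨(x : G), hx⟩ : core π (Subgroup.centralizer ({y} : Set G)))))
  let θ : (Subgroup.centralizer ({y} : Set G)) → ℂ := fun c => (χ : G → ℂ) (y * (c : G))
  have hθ : IsClassFunction (Subgroup.centralizer ({y} : Set G)) θ := fun g k => by
    show (χ : G → ℂ) (y * ((k * g * k⁻¹ : (Subgroup.centralizer ({y} : Set G))) : G)) = _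
    rw [show y * ((k * g * k⁻¹ : (Subgroup.centralizer ({y} : Set G))) : G) = (k : G) * (y * (g : G)) * (k : G)⁻¹ by
      push_cast; rw [← mul_assoc (k : G) y, hyx]; group]
    exact IsIrr.isClassFunction χ.2 _ _
  -- every block part is constant on the core
  have hpart : ∀ b : Set (IrrCharacter (Subgroup.centralizer ({y} : Set G))), IsPBlock M b → blockPart b θ x = blockPart b θ 1 := by
    intro b hb
    by_cases hind : IsInducedBlock M (Subgroup.centralizer ({y} : Set G)) b B
    · obtain ⟨a, ha⟩ := exists_isDefectClass hM hind.1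
      have hDb : IsDefectGroup p M b (H35.sylImage (default : Sylow p _)) := ⟨a, ha, default, rfl⟩
      let yC : (Subgroup.centralizer ({y} : Set G)) := ⟨y, Subgroup.mem_centralizer_singleton_iff.mpr rfl⟩
      haveI : (Subgroup.zpowers yC).Normal := ⟨fun n hn g => by
        obtain ⟨i, rfl⟩ := hn
        refine ⟨i, ?_⟩
        have hcom : Commute g yC := Subtype.ext (hyx g)
        show yC ^ i = g * yC ^ i * g⁻¹
        rw [(hcom.zpow_right i).eq, mul_inv_cancel_right]⟩
      have hyD : yC ∈ (H35.sylImage (default : Sylow p (Subgroup.centralizer ({a} : Set (Subgroup.centralizer ({y} : Set G)))))) :=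
        H35.le_defectGroup_of_normal hM hind.1 hDb (Subgroup.zpowers yC)
          (IsPGroup.of_card (n := e) (by rw [Nat.card_zpowers, Subgroup.orderOf_mk, hy]))
          (Subgroup.mem_zpowers yC)
      have hk := kerAt_core_of_correspondent hM hpπ hBD hB₁ hB₁D hker hind hDb fun g hg => by
        rw [Subgroup.mem_centralizer_singleton_iff]
        exact (Subgroup.mem_centralizer_iff.mp hg y ⟨yC, hyD, rfl⟩).symm
      rw [blockPart, blockPart]
      refine finsum_mem_congr rfl fun ψ hψ => ?_
      rw [hk ψ hψ x hx]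
    · have hreg1 : ¬ p ∣ orderOf (1 : (Subgroup.centralizer ({y} : Set G))) := by
        rw [orderOf_one]; exact hp.out.not_dvd_one
      rw [show θ = fun c : (Subgroup.centralizer ({y} : Set G)) => (χ : G → ℂ) (y * (c : G)) from rfl,
        Cores.second_main hM hy hB hχ hb hind x hxreg]
      exact (Cores.second_main hM hy hB hχ hb hind 1 hreg1).symm
  have hx1 : θ x = θ 1 := eq_of_blockPart_eq hM hθ x hpart
  simpa [θ] using hx1

end Cfsg.Agent.H24.PiKernel
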