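import Cfsg.Agent.H39.SemiDihedralMaximal
import Cfsg.Agent.H39.WreathSubgroups
import Cfsg.Agent.H39.Transfer
import Cfsg.Agent.H39.FusionCentric
import Cfsg.Agent.H25.InvolutionTransfer
import Cfsg.Agent.Cores.PCore
import Cfsg.Agent.PGroups.Basic
import Cfsg.Agent.S0219

/-!
Finite groups with quasi-dihedral or wreathed Sylow 2-subgroups and no subgroup of index two
(Alperin–Brauer–Gorenstein): all involutions are conjugate, and, modulo the odd core, there is a
simple normal subgroup of odd index.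
-/

namespace Cfsg.Agent.H24.QD

open Subgroup Cfsg

variable {G : Type*} [Group G] [Finite G]

/-- The properties of a Sylow 2-subgroup which the reduction needs. -/
structure SylowData (S : Subgroup G) (u : G) : Prop where
  u_mem : u ∈ S
  u_order : orderOf u = 2
  conj : ∀ v : G, orderOf v = 2 → IsConj v u
  noncomm : ∃ a ∈ S, ∃ b ∈ S, orderOf a = 2 ∧ orderOf b = 2 ∧ a * b ≠ b * a
  central : ∀ w ∈ S, orderOf w = 2 → (∀ a ∈ S, orderOf a = 2 → a * w = w * a) → w = u
  cyclic : ∃ x ∈ S, closure {g | g ∈ S ∧ orderOf g = 2} ⊔ zpowers x = S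

theorem exists_isConj_mem (P : Sylow 2 G) {v : G} (hv : orderOf v = 2) :
    ∃ w : (P : Subgroup G), orderOf w = 2 ∧ IsConj v (w : G) := by
  have hp : IsPGroup 2 (zpowers v) := IsPGroup.of_card (n := 1) (by rw [Nat.card_zpowers, hv, pow_one])
  obtain ⟨Q, hQ⟩ := hp.exists_le_sylow
  obtain ⟨g, rfl⟩ := MulAction.exists_smul_eq G P Q
  have hm : v ∈ (P : Subgroup G).map (MulAut.conj g).toMonoidHom := hQ (mem_zpowers v)
  obtain ⟨w, hw, rfl⟩ := hm
  refine ⟨⟨w, hw⟩, ?_, isConj_iff.mpr ⟨g⁻¹, by simp [mul_assoc]⟩⟩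
  rw [← orderOf_coe]
  rw [orderOf_injective _ (MulAut.conj g).injective] at hv
  exact hv

theorem isConj_mem_of_transfer (P : Sylow 2 G) (hno : ∀ H : Subgroup G, H.index ≠ 2)
    (Q : Subgroup (P : Subgroup G)) (hQ : Q.index = 2) (u : (P : Subgroup G))
    (hu : orderOf u = 2) (huQ : u ∉ Q) :
    ∃ q ∈ Q, orderOf q = 2 ∧ IsConj (u : G) (q : G) := by
  set Q' := Q.map (P : Subgroup G).subtype
  have hQi : Q'.relIndex (P : Subgroup G) = 2 := by
    rw [relIndex, subgroupOf, comap_map_eq_self_of_injective (subtype_injective _)]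
    exact hQ
  have hu' : orderOf (u : G) = 2 := by rwa [orderOf_coe]
  have hn : (u : G) ∉ Q' := by
    rintro ⟨q, hq, e⟩
    exact huQ (Subtype.ext e ▸ hq)
  rcases H25.thompson_transfer P Q' (map_subtype_le Q) hQi u hu' u.2 hn with
    ⟨M, -, hM, -⟩ | ⟨g, q, hq, e⟩
  · exact absurd hM (hno M)
  · refine ⟨q, hq, ?_, isConj_iff.mpr ⟨g, e.symm⟩⟩
    have : orderOf (g * u * g⁻¹) = 2 := by
      rw [← MulAut.conj_apply, MulEquiv.orderOf_eq]; exact hu'
    rw [← e] at this
    rwa [← orderOf_coe]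

section SD

variable (P : Sylow 2 G) {m : ℕ} {x y : (P : Subgroup G)}

theorem sylowData_sd (h : H39.SDGen m x y) (hno : ∀ H : Subgroup G, H.index ≠ 2) :
    SylowData (P : Subgroup G) ((x ^ (4 * 2 ^ m : ℤ) : (P : Subgroup G)) : G) := by
  set u : (P : Subgroup G) := x ^ (4 * 2 ^ m : ℤ) with hu
  have hout : ∀ k : ℤ, IsConj ((x ^ (2 * k) * y : (P : Subgroup G)) : G) (u : G) := by
    intro k
    have hk : x ^ (2 * k) * y ∉ h.evenPart 1 := fun hm => by
      obtain ⟨c, hc⟩ := h.out_mem_evenPart.mp hm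
      omega
    obtain ⟨q, hq, hqo, hc⟩ := isConj_mem_of_transfer P hno (h.evenPart 1) (h.index_evenPart 1) _
      (h.orderOf_out_even k) hk
    rcases h.mem_ord_two q hqo with rfl | ⟨j, rfl⟩
    · exact hc
    · obtain ⟨c, hc⟩ := h.out_mem_evenPart.mp hq
      omega
  refine ⟨u.2, by rw [orderOf_coe]; exact h.orderOf_z, ?_, ?_, ?_, ?_⟩
  · intro v hv
    obtain ⟨w, hw, hvw⟩ := exists_isConj_mem P hv
    rcases h.mem_ord_two w hw with rfl | ⟨k, rfl⟩
    · exact hvw
    · exact hvw.trans (hout k)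
  · refine ⟨_, (x ^ (2 * (1 : ℤ)) * y).2, _, y.2, by rw [orderOf_coe]; exact h.orderOf_out_even 1,
      by rw [orderOf_coe]; exact h.oy, fun e => ?_⟩
    have e' : x ^ (2 * (1 : ℤ)) * y * y = y * (x ^ (2 * (1 : ℤ)) * y) := Subtype.ext e
    rw [mul_assoc, h.y_mul_self, ← mul_assoc, h.y_zpow, mul_assoc, h.y_mul_self] at e'
    simp only [mul_one, h.zpow_eq] at e'
    obtain ⟨c, hc⟩ := e'
    rcases (show m = 0 ∨ 1 ≤ m by omega) with rfl | hm
    · norm_num at hc; omega
    · have : (2 : ℤ) ∣ 2 ^ m := dvd_pow_self 2 (by omega)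
      obtain ⟨d, hd⟩ := this
      rw [hd] at hc
      have : (4 : ℤ) * (4 * (c * d) + 4 * d - 1) = 0 := by linear_combination -hc
      omega
  · intro w hw hwo hcomm
    have hwo' : orderOf (⟨w, hw⟩ : (P : Subgroup G)) = 2 := by rw [← orderOf_coe]; exact hwo
    rcases h.mem_ord_two _ hwo' with e | ⟨k, e⟩
    · exact congrArg Subtype.val e
    · exfalso
      have hc := hcomm _ (x ^ (2 * (k + 1)) * y).2 (by rw [orderOf_coe]; exact h.orderOf_out_even _)
      have e' : x ^ (2 * (k + 1)) * y * (⟨w, hw⟩ : (P : Subgroup G))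
          = ⟨w, hw⟩ * (x ^ (2 * (k + 1)) * y) := Subtype.ext hc
      rw [e, h.out_mul_out, h.out_mul_out, h.zpow_eq] at e'
      obtain ⟨c, hc⟩ := e'
      obtain ⟨t, ht⟩ : ∃ t : ℤ, t = 2 ^ m * c + 2 ^ m := ⟨_, rfl⟩
      have : (4 : ℤ) * (2 * t - 1) = 0 := by linear_combination -hc + 8 * ht
      omega
  · refine ⟨x, x.2, le_antisymm (sup_le ((closure_le _).mpr fun g hg => hg.1)
      (zpowers_le.mpr x.2)) fun g hg => ?_⟩
    set T := closure {g | g ∈ (P : Subgroup G) ∧ orderOf g = 2} ⊔ zpowers (x : G)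
    have hy : (y : G) ∈ T :=
      mem_sup_left (subset_closure ⟨y.2, by rw [orderOf_coe]; exact h.oy⟩)
    have hx : ∀ i : ℤ, ((x ^ i : (P : Subgroup G)) : G) ∈ T := fun i =>
      mem_sup_right ⟨i, (SubgroupClass.coe_zpow x i).symm⟩
    rcases h.cases_elem ⟨g, hg⟩ with ⟨i, e⟩ | ⟨i, e⟩
    · have e2 : g = ((x ^ i : (P : Subgroup G)) : G) := congrArg Subtype.val e
      rw [e2]
      exact hx i
    · have e2 : g = ((x ^ i * y : (P : Subgroup G)) : G) := congrArg Subtype.val e
      rw [e2]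
      exact mul_mem (hx i) hy

end SD

section Wreathed

variable (P : Sylow 2 G) {m : ℕ} {x y z : (P : Subgroup G)}

theorem base_conj (h : H39.WGen m x y z) (hno : ∀ H : Subgroup G, H.index ≠ 2) :
    IsConj ((x ^ (2 * 2 ^ m : ℤ) * y ^ (0 : ℤ) : (P : Subgroup G)) : G)
      ((x ^ (2 * 2 ^ m : ℤ) * y ^ (2 * 2 ^ m : ℤ) : (P : Subgroup G)) : G) := by
  by_contra hcon
  set Q := h.sumSub 2 0 ⟨2 * 2 ^ m, by ring⟩ (by simp) with hQdef
  have hxQ : x ∉ Q := by
    intro hm
    have : x ^ (1 : ℤ) * y ^ (0 : ℤ) ∈ Q := by simpa using hm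
    rw [hQdef, h.in_mem_sumSub] at this
    omega
  have hQ : Q.index = 2 := by
    rw [index_eq_two_iff]
    refine ⟨x, fun g => ?_⟩
    rcases h.cases_elem g with ⟨a, b, rfl⟩ | ⟨a, b, rfl⟩
    · have e : x ^ a * y ^ b * x = x ^ (a + 1) * y ^ (b + 0) := by
        have := h.mul_in a b 1 0
        simpa using this
      rw [e, hQdef, h.in_mem_sumSub, h.in_mem_sumSub]
      rcases Int.even_or_odd (a + b) with hp | hp
      · obtain ⟨k, hk⟩ := hp
        exact Or.inr ⟨⟨k, by omega⟩, fun hd => by omega⟩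
      · obtain ⟨k, hk⟩ := hp
        exact Or.inl ⟨⟨k + 1, by omega⟩, fun hd => by omega⟩
    · have e : x ^ a * y ^ b * z * x = x ^ (a + 0) * y ^ (b + 1) * z := by
        have := h.out_mul_in a b 1 0
        simpa using this
      rw [e, hQdef, h.out_mem_sumSub, h.out_mem_sumSub]
      rcases Int.even_or_odd (a + b) with hp | hp
      · obtain ⟨k, hk⟩ := hp
        exact Or.inr ⟨⟨k, by omega⟩, fun hd => by omega⟩
      · obtain ⟨k, hk⟩ := hp
        exact Or.inl ⟨⟨k + 1, by omega⟩, fun hd => by omega⟩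
  have hpow : ∀ (k : ℕ) (a : G) (hk : a⁻¹ * (x : G) ^ k * a ∈ (P : Subgroup G)),
      ((⟨a⁻¹ * (x : G) ^ k * a, hk⟩ : (P : Subgroup G)) ∈ Q ↔ x ^ k ∈ Q) := by
    intro k a hk
    set q : (P : Subgroup G) := ⟨a⁻¹ * (x : G) ^ k * a, hk⟩ with hqdef
    have hq : ∀ n : ℕ, (q : G) ^ n = a⁻¹ * (x : G) ^ (k * n) * a := by
      intro n
      rw [pow_mul, hqdef]
      have := conj_pow (i := n) (a := a⁻¹) (b := (x : G) ^ k)
      simpa using this
    have hxk : x ^ k ∈ Q ↔ (2 : ℤ) ∣ k := by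
      rw [show x ^ k = x ^ (k : ℤ) * y ^ (0 : ℤ) by simp, hQdef, h.in_mem_sumSub, add_zero]
    rw [hxk]
    rcases Nat.even_or_odd k with ⟨l, rfl⟩ | hkodd
    · refine iff_of_true ?_ ⟨l, by push_cast; ring⟩
      have hq1 : q ^ (2 ^ (m + 1)) = 1 := by
        refine Subtype.ext ?_
        rw [SubgroupClass.coe_pow, hq]
        have hx1 : (x : G) ^ (2 ^ (m + 2)) = 1 := by
          rw [← SubgroupClass.coe_pow, ← h.ox, pow_orderOf_eq_one, OneMemClass.coe_one]
        rw [show (l + l) * 2 ^ (m + 1) = 2 ^ (m + 2) * l by ring, pow_mul, hx1, one_pow, mul_one,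
          inv_mul_cancel]
        rfl
      rcases h.cases_elem q with ⟨c, d, e⟩ | ⟨c, d, e⟩ <;> rw [e] at hq1 ⊢
      · rw [← zpow_natCast, h.comm.zpow_zpow c d |>.mul_zpow, ← zpow_mul, ← zpow_mul,
          h.pq_eq_one] at hq1
        rw [hQdef, h.in_mem_sumSub]
        obtain ⟨⟨c', hc⟩, d', hd⟩ := hq1
        push_cast at hc hd
        have h0 : (2 * 2 ^ m : ℤ) ≠ 0 := by positivity
        exact ⟨c' + d', mul_left_cancel₀ h0 (by linear_combination hc + hd)⟩
      · rw [show 2 ^ (m + 1) = 2 * 2 ^ m by ring, pow_mul, pow_two, h.out_mul_out,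
          ← zpow_natCast, h.comm.zpow_zpow _ _ |>.mul_zpow, ← zpow_mul, ← zpow_mul,
          h.pq_eq_one] at hq1
        rw [hQdef, h.out_mem_sumSub]
        obtain ⟨⟨c', hc⟩, -⟩ := hq1
        push_cast at hc
        have h0 : (2 ^ m : ℤ) ≠ 0 := by positivity
        exact ⟨2 * c', mul_left_cancel₀ h0 (by linear_combination hc)⟩
    · refine iff_of_false (fun hqQ => hcon ?_) ?_
      · refine (isConj_iff.mpr ⟨a⁻¹, ?_⟩).trans (IsConj.refl _)
        have hx2 : (x : G) ^ (k * 2 ^ (m + 1)) = (x : G) ^ (2 ^ (m + 1)) := by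
          obtain ⟨l, rfl⟩ := hkodd
          rw [show (2 * l + 1) * 2 ^ (m + 1) = 2 ^ (m + 2) * l + 2 ^ (m + 1) by ring, pow_add,
            pow_mul, ← SubgroupClass.coe_pow, ← h.ox, pow_orderOf_eq_one, OneMemClass.coe_one,
            one_pow, one_mul]
        have hne : q ^ (2 ^ (m + 1)) ≠ 1 := fun e => by
          have e' := congrArg Subtype.val e
          rw [SubgroupClass.coe_pow, hq, hx2, OneMemClass.coe_one] at e'
          have : (x : G) ^ (2 ^ (m + 1)) = 1 := by
            have := congrArg (fun g => a * g * a⁻¹) e'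
            simpa [mul_assoc] using this
          have hd := orderOf_dvd_of_pow_eq_one this
          rw [orderOf_coe, h.ox, Nat.pow_dvd_pow_iff_le_right (by norm_num)] at hd
          omega
        suffices e : q ^ (2 ^ (m + 1)) = x ^ (2 * 2 ^ m : ℤ) * y ^ (2 * 2 ^ m : ℤ) by
          have e' := congrArg Subtype.val e
          rw [SubgroupClass.coe_pow, hq, hx2] at e'
          rw [← e', inv_inv]
          push_cast
          rw [← zpow_natCast]
          simp [pow_succ, mul_comm]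
        rcases h.cases_elem q with ⟨c, d, e⟩ | ⟨c, d, e⟩ <;> rw [e] at hne hqQ ⊢
        · rw [hQdef, h.in_mem_sumSub] at hqQ
          rw [← zpow_natCast, h.comm.zpow_zpow c d |>.mul_zpow, ← zpow_mul, ← zpow_mul] at hne ⊢
          rw [h.pq_eq]
          push_cast at hne ⊢
          rcases Int.even_or_odd c with ⟨c', rfl⟩ | ⟨c', rfl⟩
          · exfalso
            obtain ⟨d', rfl⟩ : (2 : ℤ) ∣ d := by omega
            exact hne (h.pq_eq_one.mpr ⟨⟨c', by ring⟩, ⟨d', by ring⟩⟩)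
          · obtain ⟨d', rfl⟩ : ∃ d', d = 2 * d' + 1 := ⟨(d - 1) / 2, by omega⟩
            exact ⟨⟨c', by ring⟩, ⟨d', by ring⟩⟩
        · rw [hQdef, h.out_mem_sumSub, sub_zero] at hqQ
          obtain ⟨s, hs⟩ := hqQ
          rw [show 2 ^ (m + 1) = 2 * 2 ^ m by ring, pow_mul, pow_two, h.out_mul_out,
            ← zpow_natCast, h.comm.zpow_zpow _ _ |>.mul_zpow, ← zpow_mul, ← zpow_mul] at hne ⊢
          rw [h.pq_eq]
          push_cast at hne ⊢
          rcases Int.even_or_odd s with ⟨t, rfl⟩ | ⟨t, rfl⟩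
          · exact absurd (h.pq_eq_one.mpr ⟨⟨t, by linear_combination (2 ^ m : ℤ) * hs⟩,
              ⟨t, by linear_combination (2 ^ m : ℤ) * hs⟩⟩) hne
          · exact ⟨⟨t, by linear_combination (2 ^ m : ℤ) * hs⟩,
              ⟨t, by linear_combination (2 ^ m : ℤ) * hs⟩⟩
      · obtain ⟨l, rfl⟩ := hkodd
        rintro ⟨c, hc⟩
        push_cast at hc
        omega
  set φ := H39.indexTwoHom hQ
  have key : ∀ (k : ℕ) (a : G) (hk : a⁻¹ * (x : G) ^ k * a ∈ (P : Subgroup G)),
      φ ⟨a⁻¹ * (x : G) ^ k * a, hk⟩ = φ x ^ k := fun k a hk => by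
    rw [← map_pow, H39.indexTwoHom_eq]
    exact hpow k a hk
  have ht := H39.transfer_eq_pow_of_map_eq φ x key
  set f := MonoidHom.transfer φ
  have hA : Nat.card (Multiplicative (ZMod 2)) = 2 := by
    rw [Nat.card_eq_fintype_card]; rfl
  have hne : φ x ≠ 1 := fun e => hxQ (by
    rw [← H39.ker_indexTwoHom hQ]; exact e)
  have hodd : Odd (P : Subgroup G).index := by
    rw [← Nat.not_even_iff_odd, even_iff_two_dvd]; exact P.not_dvd_index
  have hsq : ∀ w : Multiplicative (ZMod 2), w ^ 2 = 1 := by decide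
  have hfx : f x ≠ 1 := by
    rw [ht]
    obtain ⟨l, hl⟩ := hodd
    rw [hl, pow_succ, pow_mul, hsq, one_pow, one_mul]
    exact hne
  have hd := Subgroup.card_subgroup_dvd_card f.range
  rw [hA, ← index_ker] at hd
  rcases (Nat.dvd_prime Nat.prime_two).mp hd with h1 | h2
  · exact hfx (by rw [← MonoidHom.mem_ker, index_eq_one.mp h1]; exact mem_top _)
  · exact hno _ h2

theorem sylowData_wreathed (h : H39.WGen m x y z) (hno : ∀ H : Subgroup G, H.index ≠ 2) :
    SylowData (P : Subgroup G)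
      ((x ^ (2 * 2 ^ m : ℤ) * y ^ (2 * 2 ^ m : ℤ) : (P : Subgroup G)) : G) := by
  set u : (P : Subgroup G) := x ^ (2 * 2 ^ m : ℤ) * y ^ (2 * 2 ^ m : ℤ) with hu
  have huo : orderOf u = 2 := H39.orderOf_eq_two_of_mul_self (by
    rw [hu, h.mul_in, h.pq_eq_one]; exact ⟨⟨1, by ring⟩, ⟨1, by ring⟩⟩)
    fun e => h.half_not_dvd (h.pq_eq_one.mp e).1
  have h1 := base_conj P h hno
  have h2 : IsConj ((x ^ (0 : ℤ) * y ^ (2 * 2 ^ m : ℤ) : (P : Subgroup G)) : G) (u : G) := by
    refine IsConj.trans ?_ h1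
    refine isConj_iff.mpr ⟨z, ?_⟩
    exact congrArg Subtype.val (h.z_conj 0 (2 * 2 ^ m : ℤ))
  have hout : ∀ a : ℤ, IsConj ((x ^ a * y ^ (-a) * z : (P : Subgroup G)) : G) (u : G) := by
    intro a
    obtain ⟨q, hq, hqo, hc⟩ := isConj_mem_of_transfer P hno h.base h.index_base _ (h.orderOf_out a)
      (h.out_not_mem_base _ _)
    rcases h.mem_ord_two q hqo with rfl | rfl | rfl | ⟨b, rfl⟩
    · exact hc.trans h1
    · exact hc.trans h2
    · exact hc
    · exact absurd hq (h.out_not_mem_base _ _)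
  have hz1 : orderOf (x ^ (1 : ℤ) * y ^ (-1 : ℤ) * z) = 2 := h.orderOf_out 1
  refine ⟨u.2, by rw [orderOf_coe]; exact huo, ?_, ?_, ?_, ?_⟩
  · intro v hv
    obtain ⟨w, hw, hvw⟩ := exists_isConj_mem P hv
    rcases h.mem_ord_two w hw with rfl | rfl | rfl | ⟨a, rfl⟩
    · exact hvw.trans h1
    · exact hvw.trans h2
    · exact hvw
    · exact hvw.trans (hout a)
  · refine ⟨_, (x ^ (1 : ℤ) * y ^ (-1 : ℤ) * z).2, _, z.2, by rw [orderOf_coe]; exact hz1,
      by rw [orderOf_coe]; exact h.oz, fun e => ?_⟩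
    have e' : x ^ (1 : ℤ) * y ^ (-1 : ℤ) * z * z = z * (x ^ (1 : ℤ) * y ^ (-1 : ℤ) * z) :=
      Subtype.ext e
    rw [mul_assoc, h.z_mul_self, mul_one, ← mul_assoc z, h.z_mul, mul_assoc, h.z_mul_self, mul_one,
      h.pq_eq] at e'
    apply h.half_not_dvd
    obtain ⟨⟨c, hc⟩, -⟩ := e'
    exact ⟨c * 2 ^ m, by linear_combination (2 ^ m : ℤ) * hc⟩
  · intro w hw hwo hcomm
    have hwo' : orderOf (⟨w, hw⟩ : (P : Subgroup G)) = 2 := by rw [← orderOf_coe]; exact hwo
    have hcw : ∀ t : (P : Subgroup G), orderOf t = 2 → t * ⟨w, hw⟩ = ⟨w, hw⟩ * t := fun t ht =>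
      Subtype.ext (hcomm t t.2 (by rwa [orderOf_coe]))
    rcases h.mem_ord_two _ hwo' with e | e | e | ⟨a, e⟩
    · exfalso
      have := hcw z h.oz
      rw [e, h.z_mul, h.out_eq_out] at this
      exact h.half_not_dvd (by simpa using this.2)
    · exfalso
      have := hcw z h.oz
      rw [e, h.z_mul, h.out_eq_out] at this
      exact h.half_not_dvd (by simpa using this.1)
    · exact congrArg Subtype.val e
    · exfalso
      have := hcw _ (h.orderOf_out (a + 1))
      rw [e, h.out_mul_out, h.out_mul_out, h.pq_eq] at this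
      apply h.half_not_dvd
      obtain ⟨⟨c, hc⟩, -⟩ := this
      exact ⟨c * 2 ^ m, by linear_combination (2 ^ m : ℤ) * hc⟩
  · refine ⟨x, x.2, le_antisymm (sup_le ((closure_le _).mpr fun g hg => hg.1)
      (zpowers_le.mpr x.2)) fun g hg => ?_⟩
    have hle : (h.omegaSub ⊔ zpowers x).map (P : Subgroup G).subtype
        ≤ closure {g | g ∈ (P : Subgroup G) ∧ orderOf g = 2} ⊔ zpowers (x : G) := by
      rw [Subgroup.map_sup, MonoidHom.map_zpowers, ← h.closure_eq_omega, MonoidHom.map_closure]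
      refine sup_le_sup (closure_mono ?_) le_rfl
      rintro - ⟨t, ht, rfl⟩
      exact ⟨t.2, by rw [Set.mem_setOf_eq] at ht; rwa [← orderOf_coe] at ht⟩
    rw [h.omega_sup] at hle
    exact hle ⟨⟨g, hg⟩, mem_top _, rfl⟩

end Wreathed

theorem exists_sylowData (P : Sylow 2 G)
    (hS : Cfsg.IsQuasiDihedral (P : Subgroup G) ∨ Cfsg.IsWreathed (P : Subgroup G))
    (hno : ∀ H : Subgroup G, H.index ≠ 2) : ∃ u, SylowData (P : Subgroup G) u := by
  rcases hS with hS | hS
  · obtain ⟨m, x, y, h⟩ := H39.exists_sdGen hS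
    exact ⟨_, sylowData_sd P h hno⟩
  · obtain ⟨m, x, y, z, h⟩ := H39.exists_wGen hS
    exact ⟨_, sylowData_wreathed P h hno⟩

section Main

variable (P : Sylow 2 G) {u : G}

/-- With trivial odd core, a minimal normal subgroup is simple of odd index. -/
theorem exists_simple (hd : SylowData (P : Subgroup G) u) (hno : ∀ H : Subgroup G, H.index ≠ 2)
    (hO : oddCore G = ⊥) :
    ∃ L : Subgroup G, L.Normal ∧ Odd L.index ∧ IsSimpleGroup L ∧ ¬ IsMulCommutative L := by
  classical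
  have hex : ∃ n, ∃ N : Subgroup G, (N.Normal ∧ N ≠ ⊥) ∧ Nat.card N = n :=
    ⟨_, ⊤, ⟨inferInstance, by
      intro e
      have : u ∈ (⊥ : Subgroup G) := e ▸ mem_top u
      rw [mem_bot] at this
      have := hd.u_order
      simp_all⟩, rfl⟩
  obtain ⟨N, ⟨hNn, hNne⟩, hNc⟩ := Nat.find_spec hex
  have hmin : ∀ M : Subgroup G, M.Normal → M ≠ ⊥ → M ≤ N → M = N := fun M h1 h2 h3 =>
    eq_of_le_of_card_ge h3 (hNc ▸ Nat.find_min' hex ⟨M, ⟨h1, h2⟩, rfl⟩)
  have hev : ∀ K : Subgroup N, K.Normal → K ≠ ⊥ → 2 ∣ Nat.card K := by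
    intro K hK hne
    by_contra hod
    have hle : K ≤ oddCore N := Cores.le_oddCore (Nat.not_even_iff_odd.mp (by rwa [even_iff_two_dvd]))
    have hmap : (oddCore N).map N.subtype ≤ oddCore G := Cores.map_pPrimeCore_le_of_normal N
    rw [hO, le_bot_iff, map_eq_bot_iff_of_injective _ (subtype_injective N)] at hmap
    exact hne (le_bot_iff.mp (hle.trans hmap.le))
  have hinv : ∀ v : G, orderOf v = 2 → v ∈ N := by
    have he : 2 ∣ Nat.card N := by
      have := hev ⊤ inferInstance (by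
        intro e
        exact hNne (eq_bot_iff.mpr fun a ha => by
          have : (⟨a, ha⟩ : N) ∈ (⊥ : Subgroup N) := e ▸ mem_top _
          simpa using this))
      rwa [card_top] at this
    obtain ⟨⟨t, ht⟩, hto⟩ := exists_prime_orderOf_dvd_card' 2 he
    rw [← orderOf_coe] at hto
    intro v hv
    obtain ⟨c, hc⟩ := isConj_iff.mp ((hd.conj t hto).trans (hd.conj v hv).symm)
    exact hc ▸ hNn.conj_mem t ht c
  set T : Subgroup N := (P : Subgroup G).subgroupOf N with hT
  have hTp : IsPGroup 2 T := P.isPGroup'.comap_of_injective _ (subtype_injective N)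
  obtain ⟨T', hTT'⟩ := hTp.exists_le_sylow
  obtain ⟨a, ha, b, hb, hao, hbo, hab⟩ := hd.noncomm
  set U : N := ⟨u, hinv u hd.u_order⟩
  have hmem : ∀ K : Subgroup N, K.Normal → K ≠ ⊥ → U ∈ K := by
    intro K hK hne
    have hTsyl : (T' : Subgroup N) = T := by
      refine le_antisymm ?_ hTT'
      obtain ⟨P', hP'⟩ := (T'.isPGroup'.map N.subtype).exists_le_sylow
      obtain ⟨g, rfl⟩ := MulAction.exists_smul_eq G P P'
      refine (eq_of_le_of_card_ge hTT' ?_).ge
      calc Nat.card (T' : Subgroup N)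
          = Nat.card ((T' : Subgroup N).map N.subtype) :=
            (card_map_of_injective (subtype_injective N)).symm
        _ ≤ Nat.card ((((P : Subgroup G) ⊓ N).map (MulAut.conj g).toMonoidHom) : Subgroup G) := by
            refine Subgroup.card_le_of_le ?_
            intro c hc
            obtain ⟨d, hd', e⟩ : c ∈ (P : Subgroup G).map (MulAut.conj g).toMonoidHom := hP' hc
            refine ⟨d, ⟨hd', ?_⟩, e⟩
            have hcN : c ∈ N := map_subtype_le _ hc
            have : d = g⁻¹ * c * g⁻¹⁻¹ := by rw [← e]; simp [mul_assoc]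
            exact this ▸ hNn.conj_mem c hcN _
        _ = Nat.card T := by
            rw [card_map_of_injective (MulAut.conj g).injective, hT, ← subgroupOf_map_subtype,
              card_map_of_injective (subtype_injective N)]
    obtain ⟨t, hto⟩ := exists_prime_orderOf_dvd_card' 2 (hev K hK hne)
    have hto' : orderOf (t : N) = 2 := by rwa [orderOf_coe]
    obtain ⟨Q, hQ⟩ := (IsPGroup.of_card (p := 2) (G := zpowers (t : N)) (n := 1)
      (by rw [Nat.card_zpowers, hto', pow_one])).exists_le_sylow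
    obtain ⟨g, rfl⟩ := MulAction.exists_smul_eq N T' Q
    obtain ⟨t', ht', e⟩ : (t : N) ∈ (T' : Subgroup N).map (MulAut.conj g).toMonoidHom :=
      hQ (mem_zpowers _)
    have ht'K : t' ∈ K := by
      have : t' = g⁻¹ * (t : N) * g⁻¹⁻¹ := by rw [← e]; simp [mul_assoc]
      exact this ▸ hK.conj_mem _ t.2 _
    have ht'ne : t' ≠ 1 := fun h1 => by
      rw [h1, map_one] at e
      rw [← e, orderOf_one] at hto'
      omega
    rw [hTsyl] at ht'
    -- a normal subgroup of the 2-group meets the centre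
    set KT := K.subgroupOf T with hKT
    haveI : KT.Normal := hK.comap _
    have hKTne : KT ≠ ⊥ := fun e' => ht'ne (by
      have : (⟨t', ht'⟩ : T) ∈ KT := ht'K
      rw [e', mem_bot] at this
      exact congrArg Subtype.val this)
    haveI : Fact (Nat.Prime 2) := ⟨Nat.prime_two⟩
    have hne' : KT ⊓ center T ≠ ⊥ := PGroups.inf_center_ne_bot hTp KT hKTne
    obtain ⟨⟨w, hwK, hwc⟩, hwo⟩ := exists_prime_orderOf_dvd_card' (G := ↥(KT ⊓ center T)) 2 (by
      rcases (hTp.to_subgroup (KT ⊓ center T)).exists_card_eq with ⟨n, hn⟩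
      rw [hn]
      refine dvd_pow_self 2 fun h0 => hne' ?_
      rw [h0, pow_zero] at hn
      exact card_eq_one.mp hn)
    rw [← orderOf_coe] at hwo
    have hw2 : orderOf ((w : N) : G) = 2 := by rw [orderOf_coe, orderOf_coe]; exact hwo
    have hwP : ((w : N) : G) ∈ (P : Subgroup G) := w.2
    have hwu : ((w : N) : G) = u := hd.central _ hwP hw2 fun c hc hco => by
      have := mem_center_iff.mp hwc ⟨⟨c, hinv c hco⟩, hc⟩
      exact congrArg (fun s : T => ((s : N) : G)) this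
    have : (w : N) = U := Subtype.ext hwu
    exact this ▸ hwK
  -- the intersection of the nontrivial normal subgroups of `N`
  set M0 : Subgroup N := sInf {K | K.Normal ∧ K ≠ ⊥}
  have hUM : U ∈ M0 := mem_sInf.mpr fun K hK => hmem K hK.1 hK.2
  have hM0n : M0.Normal := ⟨fun k hk c => mem_sInf.mpr fun K hK =>
    hK.1.conj_mem k (mem_sInf.mp hk K hK) c⟩
  haveI := hNn
  haveI : M0.Characteristic := by
    rw [characteristic_iff_le_comap]
    intro φ k hk
    refine mem_sInf.mpr fun K hK => ?_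
    have hK' : (K.comap φ.toMonoidHom).Normal ∧ K.comap φ.toMonoidHom ≠ ⊥ := by
      refine ⟨hK.1.comap _, fun e => hK.2 ?_⟩
      rw [← map_comap_eq_self_of_surjective (f := φ.toMonoidHom) φ.surjective K, e, Subgroup.map_bot]
    exact mem_sInf.mp hk _ hK'
  have hM0N : M0.map N.subtype = N := by
    refine hmin _ (ConjAct.normal_of_characteristic_of_normal) (fun e => ?_) (map_subtype_le _)
    rw [map_eq_bot_iff_of_injective _ (subtype_injective N)] at e
    rw [e, mem_bot] at hUM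
    have := congrArg Subtype.val hUM
    have ho := hd.u_order
    simp only [U, OneMemClass.coe_one] at this
    rw [this, orderOf_one] at ho
    omega
  have hM0top : M0 = ⊤ := by
    refine eq_top_iff.mpr fun k _ => ?_
    obtain ⟨k', hk', e⟩ : (k : G) ∈ M0.map N.subtype := hM0N.symm ▸ k.2
    exact Subtype.ext e ▸ hk'
  haveI : Nontrivial N := (nontrivial_iff_ne_bot N).mpr hNne
  have hsimple : IsSimpleGroup N := ⟨fun K hK => by
    by_cases h0 : K = ⊥
    · exact Or.inl h0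
    · exact Or.inr (eq_top_iff.mpr (hM0top ▸ sInf_le ⟨hK, h0⟩))⟩
  refine ⟨N, hNn, ?_, hsimple, fun hc => hab ?_⟩
  swap
  · exact congrArg Subtype.val (hc.is_comm.comm ⟨a, hinv a hao⟩ ⟨b, hinv b hbo⟩)
  by_contra hev'
  rw [Nat.not_odd_iff_even, index_eq_card] at hev'
  obtain ⟨x, hx, hcyc⟩ := hd.cyclic
  haveI : Fact (Nat.Prime 2) := ⟨Nat.prime_two⟩
  set π := QuotientGroup.mk' N
  set T2 := P.mapSurjective (f := π) (QuotientGroup.mk'_surjective N)
  have hT2 : IsCyclic (T2 : Subgroup (G ⧸ N)) := by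
    have e : (T2 : Subgroup (G ⧸ N)) = zpowers (π x) := by
      rw [Sylow.coe_mapSurjective, ← hcyc, Subgroup.map_sup, MonoidHom.map_zpowers,
        sup_eq_right, map_le_iff_le_comap, closure_le]
      intro c hc
      have : π c = 1 := (QuotientGroup.eq_one_iff c).mpr (hinv c hc.2)
      show π c ∈ zpowers (π x)
      rw [this]
      exact one_mem _
    rw [e]
    exact isCyclic_zpowers _
  obtain ⟨H, hH⟩ := S0219.result hev' T2 hT2
  exact hno (H.comap π) (by rw [index_comap_of_surjective _ (QuotientGroup.mk'_surjective N), hH])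

/-- The statement modulo the odd core. -/
theorem exists_simple_quotient (S : Sylow 2 G)
    (hS : Cfsg.IsQuasiDihedral (S : Subgroup G) ∨ Cfsg.IsWreathed (S : Subgroup G))
    (hG : ∀ H : Subgroup G, H.index ≠ 2) :
    ∃ L : Subgroup (G ⧸ oddCore G), L.Normal ∧ Odd L.index ∧ IsSimpleGroup L ∧
      ¬ IsMulCommutative L := by
  haveI : Fact (Nat.Prime 2) := ⟨Nat.prime_two⟩
  set π := QuotientGroup.mk' (oddCore G)
  set P := S.mapSurjective (f := π) (QuotientGroup.mk'_surjective _)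
  have hinj : Function.Injective (π.subgroupMap (S : Subgroup G)) := by
    rw [injective_iff_map_eq_one]
    intro a ha
    have h1 : (a : G) ∈ oddCore G := (QuotientGroup.eq_one_iff _).mp (congrArg Subtype.val ha)
    have hd := Cores.disjoint_of_isPGroup_of_coprime (p := 2) S.isPGroup'
      (Cores.coprime_card_pPrimeCore (p := 2) (G := G))
    exact Subtype.ext (mem_bot.mp (hd ▸ (⟨a.2, h1⟩ : (a : G) ∈ (S : Subgroup G) ⊓ oddCore G)))
  have e : (S : Subgroup G) ≃* (P : Subgroup (G ⧸ oddCore G)) :=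
    (MulEquiv.ofBijective _ ⟨hinj, π.subgroupMap_surjective _⟩).trans
      (MulEquiv.subgroupCongr (Sylow.coe_mapSurjective (QuotientGroup.mk'_surjective _) S).symm)
  have hno : ∀ H : Subgroup (G ⧸ oddCore G), H.index ≠ 2 := fun H hH =>
    hG (H.comap π) (by rw [index_comap_of_surjective _ (QuotientGroup.mk'_surjective _), hH])
  have hS' : Cfsg.IsQuasiDihedral (P : Subgroup (G ⧸ oddCore G)) ∨
      Cfsg.IsWreathed (P : Subgroup (G ⧸ oddCore G)) := by
    rcases hS with ⟨n, hn, hc, x, y, hx, hy, hxy⟩ | ⟨n, hn, hc, x, y, z, hx, hxy, hdj, hz, hzx⟩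
    · refine Or.inl ⟨n, hn, (Nat.card_congr e.toEquiv).symm.trans hc, e x, e y, ?_, ?_, ?_⟩
      · rw [MulEquiv.orderOf_eq]; exact hx
      · rw [MulEquiv.orderOf_eq]; exact hy
      · rw [← map_inv, ← map_mul, ← map_mul, hxy, map_pow]
    · refine Or.inr ⟨n, hn, (Nat.card_congr e.toEquiv).symm.trans hc, e x, e y, e z, ?_, ?_, ?_,
        ?_, ?_⟩
      · rw [MulEquiv.orderOf_eq]; exact hx
      · rw [← map_mul, ← map_mul, hxy]
      · have hm : ∀ w, zpowers (e w) = (zpowers w).map e.toMonoidHom := fun w => by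
          rw [MonoidHom.map_zpowers]; rfl
        rw [hm, hm, ← Subgroup.map_inf _ _ _ e.injective, hdj, Subgroup.map_bot]
      · rw [MulEquiv.orderOf_eq]; exact hz
      · rw [← map_inv, ← map_mul, ← map_mul, hzx]
  obtain ⟨u, hu⟩ := exists_sylowData P hS' hno
  exact exists_simple P hu hno Cores.pPrimeCore_quotient_pPrimeCore

end Main

end Cfsg.Agent.H24.QD
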