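import Cfsg.Agent.H72.RealElements

/-!
# Groups in which the real elements of a Sylow 2-subgroup are central in it
-/

set_option autoImplicit false

namespace Cfsg.Agent.H24.RealCentral

open Subgroup

variable {G : Type*} [Group G] [Finite G]

/-- A real 2-element has a conjugate in `S` that is real in `S`. -/
theorem exists_real_in_sylow (S : Sylow 2 G) {x : G} (hx : ∃ j : ℕ, orderOf x = 2 ^ j)
    (hreal : IsConj x x⁻¹) :
    ∃ (g : G) (s : ↥(S : Subgroup G)), (s : G) = g * x * g⁻¹ ∧ IsConj s s⁻¹ := by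
  have : Fact (Nat.Prime 2) := ⟨Nat.prime_two⟩
  obtain ⟨c, hc⟩ := isConj_iff.1 hreal
  obtain ⟨a, m, ⟨l, rfl⟩, hcm⟩ := Nat.exists_eq_two_pow_mul_odd (orderOf_pos c).ne'
  set t := c ^ (2 * l + 1) with ht
  have hsq : Commute (c * c) x := by
    have h2 : c * x⁻¹ * c⁻¹ = x := by
      have := congrArg (·⁻¹) hc
      simpa [mul_assoc] using this
    show c * c * x = x * (c * c)
    calc c * c * x = c * (c * x * c⁻¹) * c⁻¹ * (c * c) := by group
      _ = _ := by rw [hc, h2]
  have htx : t * x * t⁻¹ = x⁻¹ := by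
    have hcc : Commute (c ^ (2 * l)) x := by rw [pow_mul, pow_two]; exact hsq.pow_left l
    calc t * x * t⁻¹ = c * (c ^ (2 * l) * x) * (c ^ (2 * l))⁻¹ * c⁻¹ := by
          rw [ht, pow_succ']; group
      _ = c * x * c⁻¹ := by rw [hcc.eq]; group
      _ = x⁻¹ := hc
  have hT : IsPGroup 2 (zpowers t) := by
    refine IsPGroup.of_card_dvd_pow (n := a) ?_
    rw [Nat.card_zpowers, ht]
    apply orderOf_dvd_of_pow_eq_one
    rw [← pow_mul, mul_comm, ← hcm, pow_orderOf_eq_one]
  have hX : IsPGroup 2 (zpowers x) := by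
    obtain ⟨j, hj⟩ := hx
    exact IsPGroup.of_card (n := j) (by rw [Nat.card_zpowers, hj])
  have hnorm : zpowers t ≤ normalizer (zpowers x : Set G) := by
    rw [zpowers_le]
    refine mem_normalizer_iff.2 fun y => ⟨fun hy => ?_, fun hy => ?_⟩
    · obtain ⟨k, rfl⟩ := mem_zpowers_iff.1 hy
      rw [← conj_zpow, htx, inv_zpow]
      exact inv_mem (zpow_mem (mem_zpowers x) k)
    · obtain ⟨k, hk⟩ := mem_zpowers_iff.1 hy
      refine mem_zpowers_iff.2 ⟨-k, mul_left_cancel (a := t) (mul_right_cancel (b := t⁻¹) ?_)⟩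
      rw [← hk, ← conj_zpow, htx, inv_zpow', neg_neg]
  obtain ⟨Q, hQ⟩ := (hT.to_sup_of_normal_right' hX hnorm).exists_le_sylow
  obtain ⟨g, hg⟩ := MulAction.exists_smul_eq G Q S
  have hmem : ∀ y : G, y ∈ (Q : Subgroup G) → g * y * g⁻¹ ∈ (S : Subgroup G) := fun y hy => by
    rw [← hg, Sylow.coe_subgroup_smul]
    exact ⟨y, hy, rfl⟩
  refine ⟨g, ⟨g * x * g⁻¹, hmem x (hQ (mem_sup_right (mem_zpowers x)))⟩, rfl, isConj_iff.2
    ⟨⟨g * t * g⁻¹, hmem t (hQ (mem_sup_left (mem_zpowers t)))⟩, Subtype.ext ?_⟩⟩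
  show g * t * g⁻¹ * (g * x * g⁻¹) * (g * t * g⁻¹)⁻¹ = (g * x * g⁻¹)⁻¹
  calc g * t * g⁻¹ * (g * x * g⁻¹) * (g * t * g⁻¹)⁻¹ = g * (t * x * t⁻¹) * g⁻¹ := by group
    _ = _ := by rw [htx]; group

theorem sq_eq_one_of_real (S : Sylow 2 G)
    (hS : ∀ s : ↥(S : Subgroup G), IsConj s s⁻¹ → s ∈ center ↥(S : Subgroup G)) {x : G}
    (hx : ∃ j : ℕ, orderOf x = 2 ^ j) (hreal : IsConj x x⁻¹) : x * x = 1 := by
  obtain ⟨g, s, hs, hsr⟩ := exists_real_in_sylow S hx hreal
  obtain ⟨u, hu⟩ := isConj_iff.1 hsr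
  rw [mem_center_iff.1 (hS s hsr) u, mul_inv_cancel_right] at hu
  have h2 : g * x * g⁻¹ * (g * x * g⁻¹) = 1 := by
    rw [← hs]
    exact congrArg Subtype.val (show s * s = 1 by nth_rewrite 1 [hu]; exact inv_mul_cancel s)
  calc x * x = g⁻¹ * (g * x * g⁻¹ * (g * x * g⁻¹)) * g := by group
    _ = 1 := by rw [h2]; group

/-- The class of a real element that is not an involution has even size. -/
theorem even_index_centralizer {x : G} (hx : x * x ≠ 1) (hreal : IsConj x x⁻¹) :
    Even (centralizer ({x} : Set G)).index := by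
  classical
  cases nonempty_fintype G
  have hidx : (Finset.univ.filter fun g : G => IsConj x g).card =
      (centralizer ({x} : Set G)).index := by
    have h1 := Cfsg.Agent.H26.card_conj_mul_card_centralizer x
    rw [← (centralizer ({x} : Set G)).index_mul_card] at h1
    rw [← Nat.eq_of_mul_eq_mul_right Nat.card_pos h1, Nat.card_eq_fintype_card,
      Fintype.card_subtype]
  rw [← hidx, ← ZMod.natCast_eq_zero_iff_even, Finset.card_eq_sum_ones, Nat.cast_sum]
  have hinv : ∀ g : G, IsConj x g → IsConj x g⁻¹ := fun g hg => by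
    obtain ⟨c, rfl⟩ := isConj_iff.1 hg
    exact hreal.trans (isConj_iff.2 ⟨c, by group⟩)
  refine Finset.sum_involution (fun g _ => g⁻¹) (fun g _ => by push_cast; decide)
    (fun g hg _ e => hx ?_) (fun g hg => ?_) fun g _ => inv_inv g
  · obtain ⟨c, rfl⟩ := isConj_iff.1 (Finset.mem_filter.1 hg).2
    have h2 : c * x * c⁻¹ * (c * x * c⁻¹) = 1 := by
      nth_rewrite 1 [← e]
      exact inv_mul_cancel _
    calc x * x = c⁻¹ * (c * x * c⁻¹ * (c * x * c⁻¹)) * c := by group
      _ = 1 := by rw [h2]; group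
  · exact Finset.mem_filter.2 ⟨Finset.mem_univ _, hinv g (Finset.mem_filter.1 hg).2⟩

/-- The two alternatives: a normal 2-complement, or a normal Sylow 2-subgroup. -/
theorem complement_or_normal {a : ℕ}
    (h : ∀ x : G, IsConj x x⁻¹ → x ∉ center G →
      ((centralizer ({x} : Set G)).index).factorization 2 = a) (S : Sylow 2 G)
    (hS : ∀ s : ↥(S : Subgroup G), IsConj s s⁻¹ → s ∈ center ↥(S : Subgroup G)) :
    Cfsg.HasNormalPComplement 2 G ∨ (S : Subgroup G).Normal := by
  have : Fact (Nat.Prime 2) := ⟨Nat.prime_two⟩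
  by_cases hinv : ∀ u : G, u * u = 1 → u ∈ center G
  · exact Or.inl (Cfsg.Agent.H72.hasNormalTwoComplement_of_real_central fun x hx hr =>
      hinv x (sq_eq_one_of_real S hS hx hr))
  right
  push Not at hinv
  obtain ⟨u, hu, huc⟩ := hinv
  have huinv : u⁻¹ = u := inv_eq_of_mul_eq_one_right hu
  have hur : IsConj u u⁻¹ := by rw [huinv]
  have hu2 : ∃ j : ℕ, orderOf u = 2 ^ j := by
    obtain ⟨j, -, hj⟩ := (Nat.dvd_prime_pow Nat.prime_two).1
      (orderOf_dvd_of_pow_eq_one (show u ^ 2 ^ 1 = 1 by rw [pow_one, pow_two, hu]))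
    exact ⟨j, hj⟩
  obtain ⟨g, s, hs, hsr⟩ := exists_real_in_sylow S hu2 hur
  have hsc := hS s hsr
  have hsn : (s : G) ∉ center G := fun hc => huc (by
    rw [show u = g⁻¹ * (s : G) * g by rw [hs]; group, mem_center_iff.1 hc g⁻¹, mul_assoc,
      inv_mul_cancel, mul_one]
    exact hc)
  have hsreal : IsConj (s : G) (s : G)⁻¹ := by
    rw [hs]
    exact isConj_iff.2 ⟨1, by simp [mul_assoc, huinv]⟩
  have ha : a = 0 := by
    rw [← h _ hsreal hsn]
    refine Nat.factorization_eq_zero_of_not_dvd fun hd => ?_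
    exact S.not_dvd_index (hd.trans (index_dvd_of_le fun y hy =>
      mem_centralizer_singleton_iff.2 (congrArg Subtype.val (mem_center_iff.1 hsc ⟨y, hy⟩))))
  refine (Cfsg.Agent.H72.no_real_odd_iff_normal S).1 fun x hx1 hodd hreal => ?_
  have hxx : x * x ≠ 1 := fun e => hx1 (by
    have h2 := pow_gcd_eq_one.2 ⟨(pow_two x).trans e, pow_orderOf_eq_one x⟩
    rwa [Nat.coprime_two_left.2 hodd, pow_one] at h2)
  have hxn : x ∉ center G := fun hc => hxx (by
    obtain ⟨c, hc'⟩ := isConj_iff.1 hreal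
    rw [mem_center_iff.1 hc c, mul_inv_cancel_right] at hc'
    nth_rewrite 1 [hc']
    exact inv_mul_cancel x)
  have h2 := (even_index_centralizer hxx hreal).two_dvd
  have h0 := h x hreal hxn
  rw [ha] at h0
  rcases (Nat.factorization_eq_zero_iff _ _).1 h0 with h3 | h3 | h3
  · exact h3 Nat.prime_two
  · exact h3 h2
  · exact Subgroup.index_ne_zero_of_finite h3

/-- Solvability and 2-nilpotence of the subgroup generated by the 2-elements. -/
theorem main (hodd : ∀ (K : Subgroup G), Odd (Nat.card K) → Group.IsSolvable K)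
    (hoddQ : ∀ (N : Subgroup G) [N.Normal], Odd (Nat.card (G ⧸ N)) → Group.IsSolvable (G ⧸ N))
    {a : ℕ} (h : ∀ x : G, IsConj x x⁻¹ → x ∉ center G →
      ((centralizer ({x} : Set G)).index).factorization 2 = a) (S : Sylow 2 G)
    (hS : ∀ s : ↥(S : Subgroup G), IsConj s s⁻¹ → s ∈ center ↥(S : Subgroup G)) :
    Group.IsSolvable G ∧
      Cfsg.HasNormalPComplement 2 ↥(closure {g : G | ∃ k : ℕ, orderOf g = 2 ^ k}) := by
  have : Fact (Nat.Prime 2) := ⟨Nat.prime_two⟩
  rcases complement_or_normal h S hS with hc | hn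
  · refine ⟨?_, Cfsg.Agent.Fusion.hasNormalPComplement_subgroup hc _⟩
    obtain ⟨P, N, hN, hcomp⟩ := hc
    have hNodd : Odd (Nat.card N) := Nat.not_even_iff_odd.1 fun he => by
      exact Cfsg.Agent.Fusion.not_dvd_card_of_isComplement' P hcomp he.two_dvd
    have := hodd N hNodd
    have : Group.IsNilpotent (G ⧸ N) :=
      (Cfsg.Agent.Fusion.isPGroup_quotient_of_isComplement' P hcomp).isNilpotent
    have : Group.IsSolvable (G ⧸ N) := inferInstance
    exact Group.isSolvable_of_ker_le_range N.subtype (QuotientGroup.mk' N)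
      (by rw [QuotientGroup.ker_mk', range_subtype])
  · have := hn
    refine ⟨?_, ?_⟩
    · have : Group.IsNilpotent (S : Subgroup G) := S.isPGroup'.isNilpotent
      have : Group.IsSolvable (S : Subgroup G) := inferInstance
      have := hoddQ (S : Subgroup G) (by
        rw [← index_eq_card]
        exact Nat.not_even_iff_odd.1 fun he => S.not_dvd_index he.two_dvd)
      exact Group.isSolvable_of_ker_le_range (S : Subgroup G).subtype
        (QuotientGroup.mk' (S : Subgroup G)) (by rw [QuotientGroup.ker_mk', range_subtype])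
    · have hle : closure {g : G | ∃ k : ℕ, orderOf g = 2 ^ k} ≤ (S : Subgroup G) := by
        rw [closure_le]
        rintro x ⟨k, hk⟩
        have hp : IsPGroup 2 (zpowers x) := IsPGroup.of_card (n := k) (by rw [Nat.card_zpowers, hk])
        exact (S.is_maximal' (hp.to_sup_of_normal_right S.isPGroup') le_sup_right) ▸
          mem_sup_left (mem_zpowers x)
      refine Cfsg.Agent.Fusion.hasNormalPComplement_of_quotient (N := ⊥) ?_
        ((S.isPGroup'.to_le hle).to_quotient ⊥)
      rw [Subgroup.card_bot]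
      norm_num

end Cfsg.Agent.H24.RealCentral
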