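import Cfsg.Agent.H24.FSIndicator
import Cfsg.Agent.CharBasic.Equivalence
import Mathlib.LinearAlgebra.Matrix.PosDef
import Mathlib.Analysis.Complex.Basic
import Mathlib.Algebra.Polynomial.Roots

/-!
# The Frobenius–Schur indicator is one exactly for real representations
-/

set_option autoImplicit false

open Matrix
open scoped ComplexConjugate ComplexOrder

namespace Cfsg.Agent.H24.FS

open Cfsg.Agent.CharBasic

/-- Entrywise conjugation. -/
noncomputable def cj {n : ℕ} : Matrix (Fin n) (Fin n) ℂ →+* Matrix (Fin n) (Fin n) ℂ :=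
  (starRingEnd ℂ).mapMatrix

theorem cj_apply {n : ℕ} (A : Matrix (Fin n) (Fin n) ℂ) : cj A = Aᴴᵀ := by
  ext i j
  simp [cj, RingHom.mapMatrix_apply]

theorem cj_cj {n : ℕ} (A : Matrix (Fin n) (Fin n) ℂ) : cj (cj A) = A := by
  ext i j
  simp [cj, RingHom.mapMatrix_apply]

theorem cj_smul {n : ℕ} (c : ℂ) (A : Matrix (Fin n) (Fin n) ℂ) : cj (c • A) = conj c • cj A := by
  ext i j
  simp [cj, RingHom.mapMatrix_apply]

/-- An antilinear involution gives a real form. -/
theorem exists_real_basis {n : ℕ} {K : Matrix (Fin n) (Fin n) ℂ} (hK : K * cj K = 1) :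
    ∃ P : Matrix (Fin n) (Fin n) ℂ, IsUnit P.det ∧ K * cj P = P := by
  classical
  let p : Polynomial ℂ := ((1 + K).map Polynomial.C +
    (Polynomial.X : Polynomial ℂ) • (Complex.I • (1 - K)).map Polynomial.C).det
  have hev : ∀ z : ℂ, p.eval z = (1 + K + z • Complex.I • (1 - K)).det := by
    intro z
    rw [← Polynomial.coe_evalRingHom, RingHom.map_det]
    congr 1
    ext i j
    simp [RingHom.mapMatrix_apply]
  have hp : p ≠ 0 := by
    intro h
    have h0 := hev (-Complex.I)
    rw [h, Polynomial.eval_zero, smul_smul, neg_mul, Complex.I_mul_I, neg_neg, one_smul,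
      show (1 + K + (1 - K) : Matrix (Fin n) (Fin n) ℂ) = (2 : ℂ) • 1 by rw [two_smul]; abel,
      det_smul, det_one, mul_one] at h0
    exact pow_ne_zero _ two_ne_zero h0.symm
  obtain ⟨t, ht⟩ : ∃ t : ℕ, p.eval (t : ℂ) ≠ 0 := by
    by_contra hc
    push Not at hc
    exact hp (Polynomial.eq_zero_of_infinite_isRoot p
      (Set.Infinite.mono (fun x hx => by obtain ⟨t, rfl⟩ := hx; exact hc t)
        (Set.infinite_range_of_injective (Nat.cast_injective (R := ℂ)))))
  rw [hev] at ht
  refine ⟨_, isUnit_iff_ne_zero.2 ht, ?_⟩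
  simp only [map_add, map_sub, cj_smul, map_one, smul_smul, map_mul, Complex.conj_natCast,
    Complex.conj_I, mul_neg, neg_smul, Matrix.mul_add, Matrix.mul_neg, Matrix.mul_smul,
    Matrix.mul_sub, Matrix.mul_one, hK, smul_sub]
  abel

variable {G : Type*} [Group G] [Fintype G] {n : ℕ}

omit [Fintype G] in
/-- A monoid homomorphism into matrices as a representation. -/
noncomputable def repOfMat {k : Type*} [CommRing k] (S : G →* Matrix (Fin n) (Fin n) k) :
    Representation k G (Fin n → k) :=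
  (Matrix.toLinAlgEquiv' : Matrix (Fin n) (Fin n) k ≃ₐ[k] _).toAlgHom.toMonoidHom.comp S

omit [Fintype G] in
theorem trace_repOfMat {k : Type*} [CommRing k] (S : G →* Matrix (Fin n) (Fin n) k) (g : G) :
    LinearMap.trace k (Fin n → k) (repOfMat S g) = (S g).trace :=
  Matrix.trace_toLin'_eq (S g)

/-- A symmetric nonzero invariant form gives a real form of the representation. -/
theorem exists_real_of_symmetric (ρ : Representation ℂ G (Fin n → ℂ)) [ρ.IsIrreducible]
    {B : Matrix (Fin n) (Fin n) ℂ} (hB : ∀ t : G, (repMat ρ t)ᵀ * B * repMat ρ t = B)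
    (hB0 : B ≠ 0) (hsym : Bᵀ = B) :
    ∃ S : G →* Matrix (Fin n) (Fin n) ℝ, ∀ g, (((S g).trace : ℝ) : ℂ) = ρ.character g := by
  classical
  obtain ⟨i₀, -, -⟩ : ∃ i j, B i j ≠ 0 := by
    by_contra hc
    push Not at hc
    exact hB0 (Matrix.ext hc)
  have huB : IsUnit B.det := isUnit_iff_ne_zero.2 (det_ne_zero_of_invariant ρ hB hB0)
  let H : Matrix (Fin n) (Fin n) ℂ := ∑ g : G, (repMat ρ g)ᴴ * repMat ρ g
  have hH : H.PosDef := by
    rw [show H = 1 + ∑ g ∈ Finset.univ.erase 1, (repMat ρ g)ᴴ * repMat ρ g by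
      rw [show H = _ from (Finset.add_sum_erase _ _ (Finset.mem_univ (1 : G))).symm, repMat_one,
        conjTranspose_one, Matrix.one_mul]]
    exact Matrix.PosDef.one.add_posSemidef
      (Matrix.posSemidef_sum _ fun g _ => Matrix.posSemidef_conjTranspose_mul_self _)
  have huH : IsUnit H.det := (Matrix.isUnit_iff_isUnit_det _).1 hH.isUnit
  have hHinv : ∀ t, (repMat ρ t)ᴴ * H * repMat ρ t = H := by
    intro t
    simp only [H, Finset.mul_sum, Finset.sum_mul]
    refine Fintype.sum_equiv (Equiv.mulRight t) _ _ fun s => ?_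
    simp only [Equiv.coe_mulRight, repMat_mul, conjTranspose_mul, Matrix.mul_assoc]
  let K₀ := H⁻¹ * cj B
  have hK₀ : cj K₀ = (H⁻¹)ᵀ * B := by
    rw [map_mul, cj_cj, cj_apply, hH.inv.1.eq]
  have hcomm : ∀ t, repMat ρ t * K₀ = K₀ * cj (repMat ρ t) := by
    intro t
    have hu : IsUnit ((repMat ρ t)ᴴ * H) :=
      ((Matrix.isUnit_iff_isUnit_det _).2 (Matrix.isUnit_det_of_left_inverse
        (repMat_inv_mul ρ t))).star.mul ((Matrix.isUnit_iff_isUnit_det _).2 huH)
    refine hu.mul_left_cancel ?_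
    rw [← Matrix.mul_assoc, hHinv, ← Matrix.mul_assoc, Matrix.mul_nonsing_inv _ huH,
      Matrix.one_mul, ← Matrix.mul_assoc, Matrix.mul_assoc (repMat ρ t)ᴴ H,
      ← Matrix.mul_assoc H, Matrix.mul_nonsing_inv _ huH, Matrix.one_mul,
      show (repMat ρ t)ᴴ = cj (repMat ρ t)ᵀ by rw [cj_apply]; ext; simp,
      ← map_mul, ← map_mul, hB]
  let A := K₀ * cj K₀
  have hA : ∀ t, A * repMat ρ t = repMat ρ t * A := by
    intro t
    have h := congrArg cj (hcomm t)
    simp only [map_mul cj (repMat ρ t), map_mul cj K₀, cj_cj] at h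
    rw [show A = K₀ * cj K₀ from rfl, Matrix.mul_assoc, ← h, ← Matrix.mul_assoc, ← hcomm,
      Matrix.mul_assoc]
  obtain ⟨lam, hlam⟩ := invariant_eq_smul ρ hB hB0 (C := B * A) fun t => by
    rw [Matrix.mul_assoc _ (B * A), Matrix.mul_assoc B A, hA, ← Matrix.mul_assoc B,
      ← Matrix.mul_assoc (repMat ρ t)ᵀ, ← Matrix.mul_assoc (repMat ρ t)ᵀ, hB]
  have hA1 : A = lam • 1 := by
    rw [← Matrix.one_mul A, ← Matrix.nonsing_inv_mul _ huB, Matrix.mul_assoc, hlam, Matrix.mul_smul,
      Matrix.nonsing_inv_mul _ huB]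
  have hpd : (lam • H).PosDef := by
    have : lam • H = Bᴴ * (H⁻¹)ᵀ * B := by
      rw [← Matrix.mul_one (lam • H), Matrix.smul_mul, ← Matrix.mul_smul, ← hA1,
        show A = H⁻¹ * cj B * ((H⁻¹)ᵀ * B) by rw [← hK₀], ← Matrix.mul_assoc, ← Matrix.mul_assoc,
        ← Matrix.mul_assoc, Matrix.mul_nonsing_inv _ huH, Matrix.one_mul, cj_apply]
      congr 2
      rw [show Bᴴᵀ = Bᵀᴴ from rfl, hsym]
    rw [this]
    exact hH.inv.transpose.conjTranspose_mul_mul_same
      (Matrix.mulVec_injective_of_isUnit ((Matrix.isUnit_iff_isUnit_det _).2 huB))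
  have hpos : 0 < lam := by
    have h1 : 0 < lam * H i₀ i₀ := hpd.diag_pos (i := i₀)
    have h2 : 0 < H i₀ i₀ := hH.diag_pos
    have h3 := mul_pos h1 (RCLike.inv_pos_of_pos h2)
    rwa [mul_assoc, mul_inv_cancel₀ h2.ne', mul_one] at h3
  obtain ⟨s, hs, rfl⟩ : ∃ s : ℝ, 0 < s ∧ lam = ((s * s : ℝ) : ℂ) := by
    rw [Complex.lt_def, Complex.zero_re, Complex.zero_im] at hpos
    refine ⟨√lam.re, Real.sqrt_pos.2 hpos.1, Complex.ext ?_ ?_⟩
    · rw [Complex.ofReal_re, Real.mul_self_sqrt hpos.1.le]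
    · rw [Complex.ofReal_im, hpos.2]
  have hs0 : (s : ℂ) ≠ 0 := Complex.ofReal_ne_zero.2 hs.ne'
  let K := (s : ℂ)⁻¹ • K₀
  have hK : K * cj K = 1 := by
    rw [show K = _ from rfl, cj_smul, Matrix.smul_mul, Matrix.mul_smul, map_inv₀,
      Complex.conj_ofReal, show K₀ * cj K₀ = _ from hA1, smul_smul, smul_smul, Complex.ofReal_mul]
    rw [show (s : ℂ)⁻¹ * (s : ℂ)⁻¹ * (s * s) = 1 by field_simp, one_smul]
  obtain ⟨P, huP, hP⟩ := exists_real_basis hK
  let T : G → Matrix (Fin n) (Fin n) ℂ := fun g => P⁻¹ * repMat ρ g * P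
  have hT : ∀ g, cj (T g) = T g := by
    intro g
    have hPT : P * T g = repMat ρ g * P := by
      rw [← Matrix.mul_assoc, ← Matrix.mul_assoc, Matrix.mul_nonsing_inv _ huP, Matrix.one_mul]
    have h1 : P * cj (T g) = P * T g := by
      calc P * cj (T g) = K * cj (P * T g) := by rw [map_mul cj P, ← Matrix.mul_assoc, hP]
        _ = repMat ρ g * K * cj P := by
          rw [hPT, map_mul, ← Matrix.mul_assoc, show K = _ from rfl, Matrix.smul_mul,
            Matrix.mul_smul, hcomm]
        _ = P * T g := by rw [Matrix.mul_assoc, hP, hPT]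
    exact ((Matrix.isUnit_iff_isUnit_det _).2 huP).mul_left_cancel h1
  have hre : ∀ g i j, (((T g i j).re : ℝ) : ℂ) = T g i j := fun g i j =>
    Complex.conj_eq_iff_re.1 (congrFun (congrFun (hT g) i) j)
  have hinj : Function.Injective
      (Complex.ofRealHom.mapMatrix : Matrix (Fin n) (Fin n) ℝ → Matrix (Fin n) (Fin n) ℂ) :=
    Matrix.map_injective Complex.ofReal_injective
  have hmap : ∀ g, Complex.ofRealHom.mapMatrix ((T g).map Complex.re) = T g := fun g => by
    ext i j
    exact hre g i j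
  let S : G →* Matrix (Fin n) (Fin n) ℝ :=
    { toFun := fun g => (T g).map Complex.re
      map_one' := hinj (by rw [hmap, map_one]; simp [T, repMat_one, Matrix.nonsing_inv_mul _ huP])
      map_mul' := fun g h => hinj (by
        rw [map_mul, hmap, hmap, hmap]
        simp [T, repMat_mul, Matrix.mul_assoc, Matrix.mul_nonsing_inv_cancel_left _ _ huP]) }
  refine ⟨S, fun g => ?_⟩
  rw [character_eq_trace_repMat]
  calc (((S g).trace : ℝ) : ℂ) = (T g).trace := by
        conv_rhs => rw [← hmap g]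
        simp [Matrix.trace, S]
    _ = (repMat ρ g).trace := by
        rw [Matrix.trace_mul_comm, ← Matrix.mul_assoc, Matrix.mul_nonsing_inv _ huP, Matrix.one_mul]

/-- The indicator is one iff the character is afforded by a real representation. -/
theorem ind_eq_one_iff {χ : G → ℂ} (hχ : Cfsg.IsIrrCharacter G χ) :
    ind χ = 1 ↔ ∃ (m : ℕ) (ρ : Representation ℝ G (Fin m → ℝ)),
      ∀ g : G, ((LinearMap.trace ℝ (Fin m → ℝ) (ρ g) : ℝ) : ℂ) = χ g := by
  classical
  constructor
  · intro h1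
    have hreal : ∀ g, (χ g).im = 0 := by
      by_contra h
      rw [ind_eq_zero hχ h] at h1
      exact zero_ne_one h1
    obtain ⟨n, ρ, hρ, rfl⟩ := hχ
    obtain ⟨B, hB0, hB⟩ := exists_invariant_of_real ρ hreal
    have hsym := transpose_eq_indicator_smul ρ hB
    rw [show (Nat.card G : ℂ)⁻¹ * ∑ s : G, ρ.character (s * s) = 1 from h1, one_smul] at hsym
    obtain ⟨S, hS⟩ := exists_real_of_symmetric ρ hB hB0 hsym
    exact ⟨n, repOfMat S, fun g => by rw [trace_repOfMat]; exact hS g⟩
  · rintro ⟨m, ρ, hρ⟩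
    let S : G →* Matrix (Fin m) (Fin m) ℝ :=
      (LinearMap.toMatrixAlgEquiv' : Module.End ℝ (Fin m → ℝ) ≃ₐ[ℝ] _).toAlgHom.toMonoidHom.comp ρ
    let σ := repOfMat (Complex.ofRealHom.mapMatrix.toMonoidHom.comp S)
    have hσ : σ.character = χ := funext fun g => by
      rw [← hρ g, Representation.character, trace_repOfMat,
        LinearMap.trace_eq_matrix_trace ℝ (Pi.basisFun ℝ (Fin m)),
        LinearMap.toMatrix_eq_toMatrix']
      simp [Matrix.trace, S]
    obtain ⟨n, π, hπ, hπc⟩ := hχ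
    obtain ⟨e⟩ := nonempty_equiv_of_character_eq π σ (hπc.trans hσ.symm)
    haveI : σ.IsIrreducible := isIrreducible_of_equiv e
    have hm : 0 < m := by
      simpa using finrank_pos_of_isIrreducible σ
    let B₀ : Matrix (Fin m) (Fin m) ℝ := ∑ g : G, (S g)ᵀ * S g
    have hB₀ : ∀ t, (S t)ᵀ * B₀ * S t = B₀ := by
      intro t
      simp only [B₀, Finset.mul_sum, Finset.sum_mul]
      refine Fintype.sum_equiv (Equiv.mulRight t) _ _ fun s => ?_
      simp only [Equiv.coe_mulRight, map_mul, transpose_mul, Matrix.mul_assoc]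
    have hne : B₀ ≠ 0 := fun h => by
      have h' := congrFun (congrFun h ⟨0, hm⟩) ⟨0, hm⟩
      simp only [B₀, Matrix.sum_apply, Matrix.mul_apply, Matrix.transpose_apply,
        Matrix.zero_apply] at h'
      have h2 := (Finset.sum_eq_zero_iff_of_nonneg fun g _ =>
        Finset.sum_nonneg fun k _ => mul_self_nonneg _).1 h' 1 (Finset.mem_univ _)
      simp [Matrix.one_apply] at h2
    let B : Matrix (Fin m) (Fin m) ℂ := Complex.ofRealHom.mapMatrix B₀
    have hrep : ∀ g, repMat σ g = Complex.ofRealHom.mapMatrix (S g) := fun g =>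
      LinearMap.toMatrix'_toLin' _
    have hB : ∀ t, (repMat σ t)ᵀ * B * repMat σ t = B := fun t => by
      rw [hrep, show (Complex.ofRealHom.mapMatrix (S t))ᵀ = Complex.ofRealHom.mapMatrix (S t)ᵀ from
          rfl, ← map_mul, ← map_mul, hB₀]
    have hsym : Bᵀ = B := by
      simp only [B, RingHom.mapMatrix_apply, ← Matrix.transpose_map]
      simp [B₀, Matrix.transpose_sum, Matrix.transpose_mul]
    have h := transpose_eq_indicator_smul σ hB
    rw [hsym, hσ] at h
    obtain ⟨i, j, hij⟩ : ∃ i j, B i j ≠ 0 := by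
      by_contra hc
      push Not at hc
      exact hne (Matrix.map_injective Complex.ofReal_injective (Matrix.ext fun i j => by
        simpa [B] using hc i j))
    have h' := congrFun (congrFun h i) j
    simp only [Matrix.smul_apply, smul_eq_mul] at h'
    exact (mul_eq_right₀ hij).1 h'.symm

end Cfsg.Agent.H24.FS
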