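import Cfsg.Agent.H24.Solv
import Mathlib.GroupTheory.Index
import Mathlib.GroupTheory.GroupAction.Quotient
import Mathlib.Tactic.Group
import Mathlib.Tactic.Positivity
import Mathlib.Tactic.Ring
import Mathlib.Data.Finite.Perm

/-!
# Groups with a four-group whose involutions have small centralisers
-/

set_option autoImplicit false
set_option linter.style.haveILetI false

namespace Cfsg.Agent.H24.SmallCentralizer

universe u

variable {G : Type u} [Group G]

theorem mem_centralizer_inv_mul {s n m : G} (h : m * s * m⁻¹ = n * s * n⁻¹) :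
    n⁻¹ * m ∈ Subgroup.centralizer ({s} : Set G) := by
  rw [Subgroup.mem_centralizer_singleton_iff]
  calc n⁻¹ * m * s = n⁻¹ * (m * s * m⁻¹) * m := by group
    _ = n⁻¹ * (n * s * n⁻¹) * m := by rw [h]
    _ = s * (n⁻¹ * m) := by group

open scoped Classical in
/-- The class of `s` under a subgroup `N` is at least `|N| / |C(s)|`. -/
theorem card_le_class_mul [Fintype G] (s : G) (N : Subgroup G) :
    Nat.card N ≤ ((Finset.univ.filter (· ∈ N)).image fun n : G => n * s * n⁻¹).card *
      Nat.card (Subgroup.centralizer ({s} : Set G)) := by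
  rw [Nat.card_eq_fintype_card (α := N), Fintype.card_subtype, mul_comm]
  refine Finset.card_le_mul_card_image _ _ fun b hb => ?_
  obtain ⟨n, hn, rfl⟩ := Finset.mem_image.1 hb
  rw [Nat.card_eq_fintype_card, Fintype.card_subtype]
  refine Finset.card_le_card_of_injOn (fun m => n⁻¹ * m) (fun m hm => ?_) (fun a _ b _ h => mul_left_cancel h)
  simp only [Finset.coe_filter, Finset.mem_univ, true_and, Set.mem_setOf_eq]
  exact mem_centralizer_inv_mul (Finset.mem_filter.1 hm).2

/-- Two involutions in one coset of a normal subgroup of odd order are conjugate. -/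
theorem conj_of_mem_coset [Finite G] {t t' : G} (ht : t * t = 1) (ht' : t' * t' = 1) (M : Subgroup G)
    (hM : Odd (Nat.card M)) (hx : t * t' ∈ M) : ∃ y : G, y⁻¹ * t * y = t' := by
  have hodd : Odd (orderOf (t * t')) := hM.of_dvd_nat (M.orderOf_dvd_natCard hx)
  obtain ⟨k, hk⟩ := hodd
  have htinv : t⁻¹ = t := inv_eq_of_mul_eq_one_right ht
  have ht'inv : t'⁻¹ = t' := inv_eq_of_mul_eq_one_right ht'
  have hy : (t * t') ^ (k + 1) * (t * t') ^ (k + 1) = t * t' := by
    rw [← pow_add, show k + 1 + (k + 1) = 2 * k + 1 + 1 by ring, ← hk, pow_succ, pow_orderOf_eq_one, one_mul]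
  have hinv : t * ((t * t') ^ (k + 1)) * t⁻¹ = ((t * t') ^ (k + 1))⁻¹ := by
    rw [← conj_pow, ← inv_pow]
    congr 1
    rw [mul_inv_rev, htinv, ht'inv, ← mul_assoc t t, ht, one_mul]
  refine ⟨(t * t') ^ (k + 1), ?_⟩
  calc ((t * t') ^ (k + 1))⁻¹ * t * (t * t') ^ (k + 1)
      = t * ((t * t') ^ (k + 1)) * t⁻¹ * t * (t * t') ^ (k + 1) := by rw [hinv]
    _ = t * ((t * t') ^ (k + 1) * (t * t') ^ (k + 1)) := by group
    _ = t' := by rw [hy, ← mul_assoc, ht, one_mul]

theorem card_centralizer_conj [Finite G] (t y : G) :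
    Nat.card (Subgroup.centralizer ({y⁻¹ * t * y} : Set G)) ≤ Nat.card (Subgroup.centralizer ({t} : Set G)) := by
  refine Nat.card_le_card_of_injective (fun g => ⟨y * g * y⁻¹, ?_⟩) fun a b h => ?_
  · have hg := Subgroup.mem_centralizer_singleton_iff.1 g.2
    rw [Subgroup.mem_centralizer_singleton_iff]
    calc y * (g : G) * y⁻¹ * t = y * ((g : G) * (y⁻¹ * t * y)) * y⁻¹ := by group
      _ = y * (y⁻¹ * t * y * (g : G)) * y⁻¹ := by rw [hg]
      _ = t * (y * (g : G) * y⁻¹) := by group
  · exact Subtype.ext (mul_left_cancel (mul_right_cancel (congrArg Subtype.val h)))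

/-- A normal subgroup of odd order is bounded by the centralisers of a four-group. -/
theorem odd_normal_le [Finite G] {s t : G} (hs : s * s = 1) (ht : t * t = 1) (hst : s * t = t * s)
    (hne : s * t ≠ 1) (M : Subgroup G) [M.Normal] (hM : Odd (Nat.card M)) {c : ℕ}
    (cs : Nat.card (Subgroup.centralizer ({s} : Set G)) ≤ c)
    (ct : Nat.card (Subgroup.centralizer ({t} : Set G)) ≤ c)
    (cst : Nat.card (Subgroup.centralizer ({s * t} : Set G)) ≤ c) : Nat.card M ≤ c ^ 3 := by
  classical
  haveI := Fintype.ofFinite G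
  set S := (Finset.univ.filter (· ∈ M)).image fun n : G => n * s * n⁻¹ with hS
  set T := (Finset.univ.filter (· ∈ M)).image fun n : G => n * t * n⁻¹ with hT
  have hMc : (Finset.univ.filter (· ∈ M) : Finset G).card = Nat.card M := by
    rw [Nat.card_eq_fintype_card (α := M), Fintype.card_subtype]
  have hst2 : s * t * (s * t) = 1 := by
    rw [mul_assoc, ← mul_assoc t, ← hst, mul_assoc s t t, ht, mul_one, hs]
  have hstM : s * t ∉ M := fun h => by
    have h1 : orderOf (s * t) = 2 := orderOf_eq_prime (by rw [pow_two, hst2]) hne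
    exact absurd ((hM.of_dvd_nat (M.orderOf_dvd_natCard h))) (by rw [h1]; decide)
  let π := QuotientGroup.mk' M
  have hπ : ∀ x : G, π x = 1 ↔ x ∈ M := fun x => QuotientGroup.eq_one_iff x
  have hmemS : ∀ x ∈ S, x * x = 1 ∧ π x = π s := by
    intro x hx
    obtain ⟨n, hn, rfl⟩ := Finset.mem_image.1 hx
    exact ⟨by rw [show n * s * n⁻¹ * (n * s * n⁻¹) = n * (s * s) * n⁻¹ by group, hs]; group,
      by rw [map_mul, map_mul, map_inv, (hπ n).2 (Finset.mem_filter.1 hn).2, one_mul, inv_one, mul_one]⟩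
  have hmemT : ∀ x ∈ T, x * x = 1 ∧ π x = π t := by
    intro x hx
    obtain ⟨n, hn, rfl⟩ := Finset.mem_image.1 hx
    exact ⟨by rw [show n * t * n⁻¹ * (n * t * n⁻¹) = n * (t * t) * n⁻¹ by group, ht]; group,
      by rw [map_mul, map_mul, map_inv, (hπ n).2 (Finset.mem_filter.1 hn).2, one_mul, inv_one, mul_one]⟩
  let W := (Finset.univ.filter (· ∈ M) : Finset G).image fun m => m * (s * t)
  have hprod : (S ×ˢ T).card ≤ c * W.card := by
    refine Finset.card_le_mul_card_image_of_maps_to (f := fun p : G × G => p.1 * p.2) (fun p hp => ?_) _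
      fun w _ => ?_
    · rw [Finset.mem_product] at hp
      refine Finset.mem_image.2 ⟨p.1 * p.2 * (s * t)⁻¹, ?_, by group⟩
      refine Finset.mem_filter.2 ⟨Finset.mem_univ _, (hπ _).1 ?_⟩
      rw [map_mul, map_mul, map_inv, map_mul, (hmemS _ hp.1).2, (hmemT _ hp.2).2, mul_inv_cancel]
    · rcases (Finset.filter (fun p : G × G => p.1 * p.2 = w) (S ×ˢ T)).eq_empty_or_nonempty with h | h
      · rw [h]; simp
      obtain ⟨⟨s₁, t₁⟩, h1⟩ := h
      simp only [Finset.mem_filter, Finset.mem_product] at h1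
      obtain ⟨⟨hs₁, ht₁⟩, hw⟩ := h1
      -- the involution `z` in `⟨w⟩`
      set z := w ^ Nat.card M with hz
      have hπw : π w = π (s * t) := by
        rw [← hw, map_mul, map_mul, (hmemS _ hs₁).2, (hmemT _ ht₁).2]
      obtain ⟨k, hk⟩ := hM
      have hzπ : π z = π (s * t) := by
        rw [hz, map_pow, hπw, ← map_pow, hk, pow_succ, pow_mul, pow_two, hst2, one_pow, one_mul]
      have hw2 : w ^ 2 ∈ M := (hπ _).1 (by rw [map_pow, hπw, ← map_pow, pow_two, hst2, map_one])
      have hz2 : z * z = 1 := by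
        have hd := orderOf_dvd_iff_pow_eq_one.1 (M.orderOf_dvd_natCard hw2)
        rw [hz, ← pow_add, ← two_mul, pow_mul, hd]
      obtain ⟨y, hy⟩ := conj_of_mem_coset hst2 hz2 M ⟨k, hk⟩ ((hπ _).1 (by
        rw [map_mul, hzπ, ← map_mul, hst2, map_one]))
      have hcz : Nat.card (Subgroup.centralizer ({z} : Set G)) ≤ c := by
        rw [← hy]; exact (card_centralizer_conj _ y).trans cst
      refine le_trans ?_ hcz
      rw [Nat.card_eq_fintype_card, Fintype.card_subtype]
      refine Finset.card_le_card_of_injOn (fun p => p.1) (fun p hp => ?_) (fun a ha b hb he => ?_)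
      · rw [Finset.mem_coe, Finset.mem_filter, Finset.mem_product] at hp
        simp only [Finset.coe_filter, Finset.mem_univ, true_and, Set.mem_setOf_eq]
        have hp1 := (hmemS _ hp.1.1).1
        have hp2 := (hmemT _ hp.1.2).1
        have hinv : p.1 * w * p.1⁻¹ = w⁻¹ := by
          rw [← hp.2, mul_inv_rev, inv_eq_of_mul_eq_one_right hp1, inv_eq_of_mul_eq_one_right hp2,
            ← mul_assoc p.1 p.1, hp1, one_mul]
        have hzinv : p.1 * z * p.1⁻¹ = z := by
          rw [hz, ← conj_pow, hinv, inv_pow, ← hz]; exact inv_eq_of_mul_eq_one_right hz2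
        rw [Subgroup.mem_centralizer_singleton_iff]
        exact mul_inv_eq_iff_eq_mul.1 hzinv
      · rw [Finset.mem_coe, Finset.mem_filter] at ha hb
        simp only at he
        refine Prod.ext he (mul_left_cancel (a := a.1) ?_)
        rw [ha.2, he, hb.2]
  have hW : W.card ≤ Nat.card M := hMc ▸ Finset.card_image_le
  rw [Finset.card_product] at hprod
  have hS' : Nat.card M ≤ S.card * c := (card_le_class_mul s M).trans (Nat.mul_le_mul_left _ cs)
  have hT' : Nat.card M ≤ T.card * c := (card_le_class_mul t M).trans (Nat.mul_le_mul_left _ ct)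
  have h := Nat.mul_le_mul hS' hT'
  have h' : Nat.card M * Nat.card M ≤ c ^ 3 * Nat.card M := by
    calc Nat.card M * Nat.card M ≤ (S.card * c) * (T.card * c) := h
      _ = (S.card * T.card) * (c * c) := by ring
      _ ≤ (c * W.card) * (c * c) := Nat.mul_le_mul_right _ hprod
      _ ≤ (c * Nat.card M) * (c * c) := Nat.mul_le_mul_right _ (Nat.mul_le_mul_left _ hW)
      _ = c ^ 3 * Nat.card M := by ring
  exact Nat.le_of_mul_le_mul_right h' Nat.card_pos

/-- The centraliser of an image in a quotient. -/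
theorem centralizer_quotient_le [Finite G] (N : Subgroup G) [N.Normal] (s : G) :
    Nat.card (Subgroup.centralizer ({QuotientGroup.mk' N s} : Set (G ⧸ N))) ≤
      Nat.card N * Nat.card (Subgroup.centralizer ({s} : Set G)) := by
  classical
  haveI := Fintype.ofFinite G
  set H := (Subgroup.centralizer ({QuotientGroup.mk' N s} : Set (G ⧸ N))).comap (QuotientGroup.mk' N)
  have h1 : Nat.card (Subgroup.centralizer ({QuotientGroup.mk' N s} : Set (G ⧸ N))) ≤ Nat.card H :=
    Nat.card_le_card_of_surjective (fun h : H => ⟨QuotientGroup.mk' N h, h.2⟩) fun q => by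
      obtain ⟨g, hg⟩ := QuotientGroup.mk'_surjective N q.1
      exact ⟨⟨g, by rw [Subgroup.mem_comap, hg]; exact q.2⟩, Subtype.ext hg⟩
  refine h1.trans ((card_le_class_mul s H).trans (Nat.mul_le_mul_right _ ?_))
  rw [Nat.card_eq_fintype_card (α := N), Fintype.card_subtype]
  refine Finset.card_le_card_of_injOn (fun x => x * s⁻¹) (fun x hx => ?_) (fun a _ b _ h => mul_right_cancel h)
  obtain ⟨n, hn, rfl⟩ := Finset.mem_image.1 hx
  simp only [Finset.coe_filter, Finset.mem_univ, true_and, Set.mem_setOf_eq]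
  rw [← QuotientGroup.eq_one_iff, ← QuotientGroup.mk'_apply N]
  have hc := Subgroup.mem_centralizer_singleton_iff.1 (Subgroup.mem_comap.1 (Finset.mem_filter.1 hn).2)
  simp only [map_mul, map_inv]
  rw [hc]
  group

/-- Differences of involutions inverting `x` centralise `x`. -/
theorem inverts {p₁ p₂ u₀ v₀ x : G} (hp₁ : p₁ * p₁ = 1) (hp₂ : p₂ * p₂ = 1) (hu : u₀ * u₀ = 1)
    (hv : v₀ * v₀ = 1) (hp : p₁⁻¹ * p₂ = x) (hx : u₀⁻¹ * v₀ = x) : u₀⁻¹ * p₁ * x = x * (u₀⁻¹ * p₁) := by
  have h1 : ∀ a b : G, a * a = 1 → b * b = 1 → a * (a⁻¹ * b) = (a⁻¹ * b)⁻¹ * a := fun a b ha hb => by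
    rw [mul_inv_rev, inv_inv, inv_eq_of_mul_eq_one_right hb, mul_inv_cancel_left, mul_assoc, ha, mul_one]
  have e1 := h1 p₁ p₂ hp₁ hp₂
  have e2 := h1 u₀ v₀ hu hv
  rw [hp] at e1
  rw [hx] at e2
  rw [inv_eq_of_mul_eq_one_right hu, mul_assoc, e1, ← mul_assoc]
  have e3 : u₀ * x⁻¹ = x * u₀ := by
    calc u₀ * x⁻¹ = x * (x⁻¹ * u₀) * x⁻¹ := by group
      _ = x * (u₀ * x) * x⁻¹ := by rw [e2]
      _ = x * u₀ := by group
  rw [e3, mul_assoc]

/-- The bound for a minimal normal subgroup. -/
def minBound (a c : ℕ) : ℕ := 2 ^ a + 2 * c + (2 * c ^ 2).factorial ^ a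

theorem minimal_normal_le [Finite G] {a c : ℕ} (ha : (Nat.card G).factorization 2 ≤ a) (s : G)
    (hs : s * s = 1) (cs : Nat.card (Subgroup.centralizer ({s} : Set G)) ≤ c) (N : Subgroup G) (hN : N.Normal)
    (hN1 : N ≠ ⊥) (hmin : ∀ M : Subgroup G, M.Normal → M ≤ N → M = ⊥ ∨ M = N)
    (heven : 2 ∣ Nat.card N) : Nat.card N ≤ minBound a c := by
  classical
  haveI := hN
  haveI := Fintype.ofFinite G
  by_cases hcomm : ∀ x ∈ N, ∀ y ∈ N, x * y = y * x
  · haveI : Group.IsSolvable N :=
      Group.isSolvable_of_comm fun x y => Subtype.ext (hcomm x x.2 y y.2)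
    obtain ⟨-, p, hp, hpN⟩ := Cfsg.Agent.H24.minimal_normal_elementary N hN1 hmin
    haveI : Fact (Nat.Prime 2) := ⟨Nat.prime_two⟩
    obtain ⟨x, hx⟩ := exists_prime_orderOf_dvd_card' 2 heven
    have h2 : p = 2 := by
      have h := orderOf_dvd_iff_pow_eq_one.2 (Subtype.ext (by simpa using hpN x x.2) : x ^ p = 1)
      rw [hx] at h
      exact ((Nat.prime_dvd_prime_iff_eq Nat.prime_two hp).1 h).symm
    subst h2
    obtain ⟨k, hk⟩ := IsPGroup.iff_card.1 (fun y : N => ⟨1, Subtype.ext (by simpa using hpN y y.2)⟩ : IsPGroup 2 N)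
    have hka : k ≤ a := ((Nat.prime_two.pow_dvd_iff_le_factorization Nat.card_pos.ne').1
      (hk ▸ N.card_subgroup_dvd_card)).trans ha
    have := Nat.pow_le_pow_right (show 1 ≤ 2 by norm_num) hka
    rw [hk, minBound]
    exact this.trans ((Nat.le_add_right _ _).trans (Nat.le_add_right _ _))
  by_cases hsmall : Nat.card N ≤ 2 * c
  · rw [minBound]; exact hsmall.trans ((Nat.le_add_left _ _).trans (Nat.le_add_right _ _))
  push Not at hsmall
  -- an element with large centralizer
  set T := (Finset.univ.filter (· ∈ N)).image fun n : G => n * s * n⁻¹ with hTdef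
  have hT : Nat.card N ≤ T.card * c := (card_le_class_mul s N).trans (Nat.mul_le_mul_left _ cs)
  have hT2 : 2 < T.card := by
    by_contra h
    have h' : T.card ≤ 2 := by omega
    have := Nat.mul_le_mul_right c h'
    omega
  have hTinv : ∀ x ∈ T, x * x = 1 := by
    intro x hx
    obtain ⟨n, -, rfl⟩ := Finset.mem_image.1 hx
    rw [show n * s * n⁻¹ * (n * s * n⁻¹) = n * (s * s) * n⁻¹ by group, hs]
    group
  let π := QuotientGroup.mk' N
  have hπT : ∀ x ∈ T, π x = π s := by
    intro x hx
    obtain ⟨n, hn, rfl⟩ := Finset.mem_image.1 hx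
    rw [map_mul, map_mul, map_inv, show π n = 1 from (QuotientGroup.eq_one_iff n).2 (Finset.mem_filter.1 hn).2,
      one_mul, inv_one, mul_one]
  obtain ⟨x, hx1, hxN, hxC⟩ : ∃ x, x ≠ 1 ∧ x ∈ N ∧
      Nat.card N ≤ 2 * c ^ 2 * Nat.card (Subgroup.centralizer ({x} : Set G) ⊓ N : Subgroup G) := by
    by_contra hno
    push Not at hno
    -- pairs `(t₁, t₂)` with `t₁⁻¹ t₂ = x`
    let f : G × G → G := fun p => p.1⁻¹ * p.2
    have hmaps : ∀ p ∈ T.offDiag, f p ∈ (Finset.univ.filter (· ∈ N)).erase 1 := by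
      intro p hp
      rw [Finset.mem_offDiag] at hp
      refine Finset.mem_erase.2 ⟨fun h => hp.2.2 (inv_mul_eq_one.1 h), Finset.mem_filter.2 ⟨Finset.mem_univ _, ?_⟩⟩
      rw [← QuotientGroup.eq_one_iff, ← QuotientGroup.mk'_apply N]
      show π (p.1⁻¹ * p.2) = 1
      rw [map_mul, map_inv, hπT _ hp.1, hπT _ hp.2.1, inv_mul_cancel]
    have hfib : ∀ x ∈ (Finset.univ.filter (· ∈ N)).erase (1 : G),
        (T.offDiag.filter fun p => f p = x).card * (2 * c ^ 2) + 1 ≤ Nat.card N := by
      intro x hx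
      rw [Finset.mem_erase, Finset.mem_filter] at hx
      have := hno x hx.1 hx.2.2
      refine le_trans (Nat.add_le_add_right (Nat.mul_le_mul_right _ ?_) 1)
        (by rw [mul_comm]; exact Nat.succ_le_of_lt this)
      rcases (T.offDiag.filter fun p => f p = x).eq_empty_or_nonempty with h | h
      · rw [h]; simp
      obtain ⟨⟨u₀, v₀⟩, h0⟩ := h
      simp only [Finset.mem_filter, Finset.mem_offDiag, f] at h0
      rw [Nat.card_eq_fintype_card, Fintype.card_subtype]
      refine Finset.card_le_card_of_injOn (fun p => u₀⁻¹ * p.1) (fun p hp => ?_) (fun a ha b hb he => ?_)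
      · rw [Finset.mem_coe, Finset.mem_filter, Finset.mem_offDiag] at hp
        simp only [Finset.coe_filter, Finset.mem_univ, true_and, Set.mem_setOf_eq, Subgroup.mem_inf]
        refine ⟨?_, ?_⟩
        · rw [Subgroup.mem_centralizer_singleton_iff]
          exact inverts (hTinv _ hp.1.1) (hTinv _ hp.1.2.1) (hTinv _ h0.1.1) (hTinv _ h0.1.2.1) hp.2 h0.2
        · rw [← QuotientGroup.eq_one_iff, ← QuotientGroup.mk'_apply N]
          show π (u₀⁻¹ * p.1) = 1
          rw [map_mul, map_inv, hπT _ h0.1.1, hπT _ hp.1.1, inv_mul_cancel]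
      · rw [Finset.mem_coe, Finset.mem_filter] at ha hb
        simp only at he
        have e1 : a.1 = b.1 := mul_left_cancel he
        refine Prod.ext e1 (mul_left_cancel (a := a.1⁻¹) ?_)
        simp only [f] at ha hb
        rw [ha.2, e1, hb.2]
    have hsum := Finset.card_eq_sum_card_fiberwise hmaps
    have hle : T.offDiag.card * (2 * c ^ 2) + ((Finset.univ.filter (· ∈ N)).erase (1 : G)).card ≤
        ((Finset.univ.filter (· ∈ N)).erase (1 : G)).card * Nat.card N := by
      rw [hsum, Finset.sum_mul, Finset.card_eq_sum_ones, ← Finset.sum_add_distrib, Finset.sum_mul]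
      exact Finset.sum_le_sum fun x hx => by rw [one_mul]; exact hfib x hx
    rw [Finset.card_erase_of_mem (by simp [one_mem]), ← Fintype.card_subtype, ← Nat.card_eq_fintype_card,
      Finset.offDiag_card] at hle
    change (T.card * T.card - T.card) * (2 * c ^ 2) + (Nat.card N - 1) ≤ (Nat.card N - 1) * Nat.card N at hle
    obtain ⟨m, hm⟩ : ∃ m, Nat.card N = m + 1 := ⟨Nat.card N - 1, by omega⟩
    obtain ⟨q, hq⟩ : ∃ q, T.card = q + 1 := ⟨T.card - 1, by omega⟩
    have hq2 : 2 ≤ q := by omega
    rw [hm, Nat.add_sub_cancel] at hle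
    rw [hq, show (q + 1) * (q + 1) - (q + 1) = (q + 1) * q by
      rw [Nat.sub_eq_iff_eq_add (Nat.le_mul_self _)]; ring] at hle
    rw [hm, hq] at hT
    have h3 : (m + 1) * (m + 1) ≤ (q + 1) * (q + 1) * c ^ 2 :=
      le_trans (Nat.mul_le_mul hT hT) (le_of_eq (by ring))
    nlinarith
  -- a proper normal subgroup of bounded index
  let X : Subgroup N := Subgroup.centralizer ({(⟨x, hxN⟩ : N)} : Set N)
  have hXcard : Nat.card X = Nat.card (Subgroup.centralizer ({x} : Set G) ⊓ N : Subgroup G) := by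
    refine Nat.card_congr ⟨fun g => ⟨(g.1 : G), Subgroup.mem_inf.2 ⟨?_, g.1.2⟩⟩,
      fun g => ⟨⟨g.1, (Subgroup.mem_inf.1 g.2).2⟩, ?_⟩, fun g => rfl, fun g => rfl⟩
    · exact Subgroup.mem_centralizer_singleton_iff.2 (congrArg Subtype.val (Subgroup.mem_centralizer_singleton_iff.1 g.2))
    · exact Subgroup.mem_centralizer_singleton_iff.2 (Subtype.ext (Subgroup.mem_centralizer_singleton_iff.1 (Subgroup.mem_inf.1 g.2).1))
  have hXidx : X.index ≤ 2 * c ^ 2 := by
    rw [← hXcard, ← X.card_mul_index, mul_comm _ (Nat.card X)] at hxC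
    exact Nat.le_of_mul_le_mul_left hxC Nat.card_pos
  have hZ : Subgroup.center N = ⊥ := by
    have h := hmin ((Subgroup.center N).map N.subtype) inferInstance (Subgroup.map_subtype_le _)
    rcases h with h | h
    · exact (Subgroup.map_eq_bot_iff_of_injective _ N.subtype_injective).1 h
    · exfalso; apply hcomm
      intro x hx y hy
      obtain ⟨z, hz, rfl⟩ := h.ge hx
      exact (congrArg Subtype.val (Subgroup.mem_center_iff.1 hz ⟨y, hy⟩)).symm
  have hXtop : X.normalCore ≠ ⊤ := fun h => by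
    have hmem : (⟨x, hxN⟩ : N) ∈ Subgroup.center N := Subgroup.mem_center_iff.2 fun g =>
      Subgroup.mem_centralizer_singleton_iff.1 (Subgroup.normalCore_le X (by rw [h]; trivial : g ∈ X.normalCore))
    rw [hZ, Subgroup.mem_bot] at hmem
    exact hx1 (congrArg Subtype.val hmem)
  have hcore : X.normalCore.index ≤ (2 * c ^ 2).factorial := by
    rw [Subgroup.normalCore_eq_ker, Subgroup.index_ker]
    refine (Subgroup.card_le_card_group _).trans ?_
    rw [Nat.card_perm]
    exact Nat.factorial_le hXidx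
  obtain ⟨L, hL⟩ := (Set.toFinite {L : Subgroup N | L.Normal ∧ L ≠ ⊤ ∧ X.normalCore ≤ L}).exists_maximal
    ⟨_, inferInstance, hXtop, le_rfl⟩
  obtain ⟨hLn, hLtop, hLle⟩ := hL.1
  haveI := hLn
  have hLidx : L.index ≤ (2 * c ^ 2).factorial :=
    (Nat.le_of_dvd (Nat.pos_of_ne_zero Subgroup.index_ne_zero_of_finite) (Subgroup.index_dvd_of_le hLle)).trans hcore
  have hLmax : ∀ K : Subgroup N, K.Normal → L ≤ K → K = ⊤ ∨ K = L := fun K hK hLK => by
    by_cases h : K = ⊤
    · exact Or.inl h
    · exact Or.inr (le_antisymm (hL.2 ⟨hK, h, hLle.trans hLK⟩ hLK) hLK)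
  -- intersections of conjugates
  let Lg : G → Subgroup N := fun g => L.map (MulAut.conjNormal g : MulAut N).toMonoidHom
  have hLgn : ∀ g, (Lg g).Normal := fun g => Subgroup.Normal.map hLn _ (MulEquiv.surjective _)
  have hint : ∀ F : Finset G, ∃ j : ℕ, (F.inf Lg).Normal ∧ (F.inf Lg).index = L.index ^ j := by
    intro F
    induction F using Finset.induction_on with
    | empty => exact ⟨0, by rw [Finset.inf_empty]; infer_instance, by rw [Finset.inf_empty, Subgroup.index_top, pow_zero]⟩
    | insert g F _ ih =>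
      obtain ⟨j, hn, hj⟩ := ih
      haveI := hn
      haveI := hLgn g
      rw [Finset.inf_insert]
      by_cases hle : F.inf Lg ≤ Lg g
      · exact ⟨j, by rw [inf_eq_right.2 hle]; exact hn, by rw [inf_eq_right.2 hle, hj]⟩
      refine ⟨j + 1, inferInstance, ?_⟩
      let e : N ≃* N := MulAut.conjNormal g
      have hLe : ((Lg g ⊔ F.inf Lg).comap e.toMonoidHom).map e.toMonoidHom = Lg g ⊔ F.inf Lg :=
        Subgroup.map_comap_eq_self_of_surjective e.surjective _
      have htop : Lg g ⊔ F.inf Lg = ⊤ := by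
        rcases hLmax ((Lg g ⊔ F.inf Lg).comap e.toMonoidHom) inferInstance
          ((Subgroup.le_comap_map e.toMonoidHom L).trans (Subgroup.comap_mono le_sup_left)) with h | h
        · rw [← hLe, h]; exact Subgroup.map_top_of_surjective _ e.surjective
        · rw [h] at hLe
          exact absurd (le_sup_right.trans hLe.symm.le) hle
      have hrel : (Lg g).relIndex (F.inf Lg) = L.index := by
        rw [← Subgroup.relIndex_sup_right, sup_comm, htop, Subgroup.relIndex_top_right]
        exact Subgroup.index_map_equiv L e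
      rw [← Subgroup.relIndex_mul_index (inf_le_right : Lg g ⊓ F.inf Lg ≤ F.inf Lg),
        Subgroup.inf_relIndex_right, hrel, hj, pow_succ']
  obtain ⟨j, -, hj⟩ := hint Finset.univ
  have hbot : (Finset.univ : Finset G).inf Lg = ⊥ := by
    set I := (Finset.univ : Finset G).inf Lg with hI
    have hIn : (I.map N.subtype).Normal := ⟨fun x hx g => by
      obtain ⟨y, hy, rfl⟩ := hx
      refine ⟨MulAut.conjNormal g y, ?_, rfl⟩
      rw [hI, SetLike.mem_coe, Finset.inf_eq_iInf, Subgroup.mem_iInf] at *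
      intro k
      rw [Subgroup.mem_iInf]
      intro _
      have hy' := Subgroup.mem_iInf.1 (hy (g⁻¹ * k)) (Finset.mem_univ _)
      obtain ⟨l, hl, hly⟩ := hy'
      refine ⟨l, hl, ?_⟩
      have e : g * (g⁻¹ * k) = k := by group
      conv_lhs => rw [← e]
      rw [← hly, map_mul]
      rfl⟩
    rcases hmin _ hIn (Subgroup.map_subtype_le _) with h | h
    · exact (Subgroup.map_eq_bot_iff_of_injective _ N.subtype_injective).1 h
    · exfalso
      have hIL : I ≤ Lg 1 := Finset.inf_le (Finset.mem_univ 1)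
      have hItop : I = ⊤ := Subgroup.map_injective N.subtype_injective
        (h.trans (by rw [← MonoidHom.range_eq_map, Subgroup.range_subtype]))
      have hL1 : Lg 1 = L := by
        show L.map (MulAut.conjNormal (1 : G) : MulAut N).toMonoidHom = L
        rw [map_one]
        exact Subgroup.map_id L
      rw [hItop, hL1] at hIL
      exact hLtop (top_le_iff.1 hIL)
  rw [hbot, Subgroup.index_bot] at hj
  have hL2 : 2 ∣ L.index := Nat.prime_two.dvd_of_dvd_pow (hj ▸ heven)
  have hja : j ≤ a := by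
    refine ((Nat.prime_two.pow_dvd_iff_le_factorization Nat.card_pos.ne').1 ?_).trans ha
    exact ((pow_dvd_pow_of_dvd hL2 j).trans (hj ▸ dvd_rfl)).trans N.card_subgroup_dvd_card
  have hfin : Nat.card N ≤ (2 * c ^ 2).factorial ^ a := by
    rw [hj]
    exact (Nat.pow_le_pow_left hLidx j).trans (Nat.pow_le_pow_right (Nat.factorial_pos _) hja)
  rw [minBound]; exact hfin.trans (Nat.le_add_left _ _)

/-- Four-groups with small centralisers bound the group order. -/
theorem bounded (a c : ℕ) : ∃ F : ℕ, ∀ (G : Type u) [Group G] [Finite G],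
    (Nat.card G).factorization 2 ≤ a → ∀ s t : G, s * s = 1 → t * t = 1 → s * t = t * s → s ≠ 1 → t ≠ 1 →
      s * t ≠ 1 → Nat.card (Subgroup.centralizer ({s} : Set G)) ≤ c →
      Nat.card (Subgroup.centralizer ({t} : Set G)) ≤ c →
      Nat.card (Subgroup.centralizer ({s * t} : Set G)) ≤ c → Nat.card G ≤ F := by
  haveI : Fact (Nat.Prime 2) := ⟨Nat.prime_two⟩
  induction a generalizing c with
  | zero =>
    refine ⟨0, fun G _ _ ha s t hs _ _ hs1 _ _ _ _ _ => ?_⟩
    exfalso
    have h2 : orderOf s = 2 := orderOf_eq_prime (by rwa [pow_two]) hs1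
    have := Nat.prime_two.factorization_pos_of_dvd Nat.card_pos.ne' (h2 ▸ orderOf_dvd_natCard s)
    omega
  | succ a ih =>
    set c' := c ^ 3 * c with hc'
    set K := minBound (a + 1) c' with hK
    obtain ⟨F, hF⟩ := ih (K * c')
    refine ⟨c ^ 3 * (K.factorial * c' + K * F), fun G _ _ ha s t hs ht hst hs1 ht1 hst1 cs ct cst => ?_⟩
    classical
    haveI := Fintype.ofFinite G
    obtain ⟨M, hM⟩ := (Set.toFinite {M : Subgroup G | M.Normal ∧ Odd (Nat.card M)}).exists_maximal
      ⟨⊥, inferInstance, by simp⟩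
    haveI := hM.1.1
    have hMc : Nat.card M ≤ c ^ 3 := odd_normal_le hs ht hst hst1 M hM.1.2 cs ct cst
    have hinM : ∀ x : G, x * x = 1 → x ≠ 1 → x ∉ M := fun x hx hx1 h => by
      have h1 : orderOf x = 2 := orderOf_eq_prime (by rwa [pow_two]) hx1
      exact absurd (hM.1.2.of_dvd_nat (M.orderOf_dvd_natCard h)) (by rw [h1]; decide)
    set π := QuotientGroup.mk' M with hπ
    have hG : Nat.card G = Nat.card (G ⧸ M) * Nat.card M := Subgroup.card_eq_card_quotient_mul_card_subgroup M
    suffices hQ : Nat.card (G ⧸ M) ≤ K.factorial * c' + K * F by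
      rw [hG, mul_comm]; exact Nat.mul_le_mul hMc hQ
    have hone : ∀ x : G, x * x = 1 → x ≠ 1 → π x ≠ 1 := fun x hx hx1 h => hinM x hx hx1 ((QuotientGroup.eq_one_iff x).1 h)
    have hst2 : s * t * (s * t) = 1 := by
      rw [mul_assoc, ← mul_assoc t, ← hst, mul_assoc s t t, ht, mul_one, hs]
    have hodd : ∀ R : Subgroup (G ⧸ M), R.Normal → Odd (Nat.card R) → R = ⊥ := by
      intro R hR hRo
      have hle : M ≤ R.comap π := fun m hm => by
        rw [Subgroup.mem_comap, show π m = 1 from (QuotientGroup.eq_one_iff m).2 hm]; exact one_mem R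
      have hsur := QuotientGroup.mk'_surjective M
      have hcard : Nat.card (R.comap π) = Nat.card M * Nat.card R := by
        have h1 := (R.comap π).card_mul_index
        rw [Subgroup.index_comap_of_surjective R hsur, hG] at h1
        have h2 := R.card_mul_index
        have h3 : Nat.card (R.comap π) * R.index = (Nat.card M * Nat.card R) * R.index := by
          rw [h1, ← h2]; ring
        exact Nat.eq_of_mul_eq_mul_right (Nat.pos_of_ne_zero Subgroup.index_ne_zero_of_finite) h3
      have heq : R.comap π ≤ M := hM.2 ⟨inferInstance, by rw [hcard]; exact hM.1.2.mul hRo⟩ hle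
      rw [← Subgroup.map_comap_eq_self_of_surjective hsur R, Subgroup.map_eq_bot_iff, QuotientGroup.ker_mk']
      exact heq
    have hfac : (Nat.card (G ⧸ M)).factorization 2 ≤ a + 1 := by
      refine le_trans ?_ ha
      exact (Nat.factorization_le_iff_dvd Nat.card_pos.ne' Nat.card_pos.ne').2 (Subgroup.card_quotient_dvd_card M) 2
    have hcQ : ∀ x : G, Nat.card (Subgroup.centralizer ({x} : Set G)) ≤ c →
        Nat.card (Subgroup.centralizer ({π x} : Set (G ⧸ M))) ≤ c' := fun x hx =>
      (centralizer_quotient_le M x).trans (Nat.mul_le_mul hMc hx)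
    obtain ⟨N, -, hN, hN1, hmin⟩ := Cfsg.Agent.H24.exists_minimal_normal (⊤ : Subgroup (G ⧸ M)) inferInstance
      (fun h => hone s hs hs1 (Subgroup.mem_bot.1 (h ▸ Subgroup.mem_top (π s))))
    haveI := hN
    have heven : 2 ∣ Nat.card N := by
      by_contra h
      exact hN1 (hodd N hN (Nat.not_even_iff_odd.1 (fun he => h he.two_dvd)))
    have hNK : Nat.card N ≤ K := minimal_normal_le hfac (π s) (by rw [← map_mul, hs, map_one]) (hcQ s cs) N hN hN1 hmin heven
    by_cases hex : ∃ x, (x = s ∨ x = t ∨ x = s * t) ∧ π x ∈ N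
    · obtain ⟨x, hx, hxN⟩ := hex
      have hcx : Nat.card (Subgroup.centralizer ({π x} : Set (G ⧸ M))) ≤ c' := by
        rcases hx with rfl | rfl | rfl
        exacts [hcQ _ cs, hcQ _ ct, hcQ _ cst]
      let ψ : (G ⧸ M) →* Equiv.Perm N := (MulAut.toPerm _).comp MulAut.conjNormal
      have hker : Nat.card ψ.ker ≤ c' := by
        refine le_trans (Subgroup.card_le_of_le fun g hg => ?_) hcx
        rw [Subgroup.mem_centralizer_singleton_iff]
        have h1 := congrArg (fun e : Equiv.Perm N => ((e ⟨π x, hxN⟩ : N) : G ⧸ M)) (MonoidHom.mem_ker.1 hg)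
        exact mul_inv_eq_iff_eq_mul.1 h1
      have hrange : ψ.ker.index ≤ K.factorial := by
        rw [Subgroup.index_ker]
        refine (Subgroup.card_le_card_group _).trans ?_
        rw [Nat.card_perm]
        exact Nat.factorial_le hNK
      rw [← ψ.ker.card_mul_index, mul_comm]
      exact (Nat.mul_le_mul hrange hker).trans (Nat.le_add_right _ _)
    · push Not at hex
      set ρ := QuotientGroup.mk' N
      have hne : ∀ x, (x = s ∨ x = t ∨ x = s * t) → ρ (π x) ≠ 1 := fun x hx h =>
        hex x hx ((QuotientGroup.eq_one_iff _).1 h)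
      have hcR : ∀ x : G, Nat.card (Subgroup.centralizer ({x} : Set G)) ≤ c →
          Nat.card (Subgroup.centralizer ({ρ (π x)} : Set ((G ⧸ M) ⧸ N))) ≤ K * c' := fun x hx =>
        (centralizer_quotient_le N (π x)).trans (Nat.mul_le_mul hNK (hcQ x hx))
      have hfac2 : (Nat.card ((G ⧸ M) ⧸ N)).factorization 2 ≤ a := by
        have h := Subgroup.card_eq_card_quotient_mul_card_subgroup N
        rw [h, Nat.factorization_mul Nat.card_pos.ne' Nat.card_pos.ne', Finsupp.add_apply] at hfac
        have := Nat.prime_two.factorization_pos_of_dvd Nat.card_pos.ne' heven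
        omega
      have hR := hF ((G ⧸ M) ⧸ N) hfac2 (ρ (π s)) (ρ (π t)) (by rw [← map_mul, ← map_mul, hs, map_one, map_one])
        (by rw [← map_mul, ← map_mul, ht, map_one, map_one]) (by simp only [← map_mul, hst])
        (hne s (Or.inl rfl)) (hne t (Or.inr (Or.inl rfl))) (by simp only [← map_mul]; exact hne _ (Or.inr (Or.inr rfl)))
        (hcR s cs) (hcR t ct) (by simp only [← map_mul]; exact hcR _ cst)
      rw [Subgroup.card_eq_card_quotient_mul_card_subgroup N, mul_comm]
      exact (Nat.mul_le_mul hNK hR).trans (Nat.le_add_left _ _)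

end Cfsg.Agent.H24.SmallCentralizer
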