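import Cfsg.Agent.H24.OrbitAvoidMain
import Cfsg.Agent.Cores.PCore
import Mathlib.GroupTheory.IsSubnormal
import Mathlib.GroupTheory.Solvable
import Mathlib.Algebra.Group.TypeTags.Finite

/-!
A `p`-subgroup, `p` odd, of a solvable group which is subnormal in the subgroup it generates with
its conjugate under a representative of each conjugacy class lies in `O_p`.
-/

set_option linter.style.haveILetI false

namespace Cfsg.Agent.H24.SubConj

open Subgroup Cfsg
open scoped Pointwise

universe u

variable {p : ℕ} [hp : Fact p.Prime]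

/-- The hypothesis of the theorem. -/
def Hyp {G : Type*} [Group G] (A : Subgroup G) : Prop :=
  ∀ c : G, ∃ g : G, IsConj c g ∧ (A.subgroupOf (A ⊔ MulAut.conj g • A)).IsSubnormal

theorem Hyp.map {G H : Type*} [Group G] [Group H] {A : Subgroup G} (h : Hyp A) (f : G →* H)
    (hf : Function.Surjective f) : Hyp (A.map f) := by
  intro c
  obtain ⟨c, rfl⟩ := hf c
  obtain ⟨g, hcg, hs⟩ := h c
  refine ⟨f g, f.map_isConj hcg, ?_⟩
  have e : (A ⊔ MulAut.conj g • A).map f = A.map f ⊔ MulAut.conj (f g) • A.map f := by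
    rw [Subgroup.map_sup]
    congr 1
    ext x
    constructor
    · rintro ⟨y, ⟨a, ha, rfl⟩, rfl⟩
      exact ⟨f a, ⟨a, ha, rfl⟩, by simp⟩
    · rintro ⟨y, ⟨a, ha, rfl⟩, rfl⟩
      exact ⟨g * a * g⁻¹, ⟨a, ha, by simp⟩, by simp⟩
  set S := A ⊔ MulAut.conj g • A
  let r : S →* ↥(A.map f ⊔ MulAut.conj (f g) • A.map f) :=
    (f.comp S.subtype).codRestrict _ fun (x : S) => by
      rw [← e]; exact ⟨x, x.2, rfl⟩
  have hr : Function.Surjective r := by
    rintro ⟨y, hy⟩
    obtain ⟨x, hx, rfl⟩ : y ∈ S.map f := e ▸ hy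
    exact ⟨⟨x, hx⟩, rfl⟩
  have := hs.map (f := r) hr
  convert this using 1
  ext ⟨y, hy⟩
  constructor
  · intro hyA
    obtain ⟨a, ha, rfl⟩ := (mem_subgroupOf.mp hyA : y ∈ A.map f)
    exact ⟨⟨a, mem_sup_left ha⟩, ha, rfl⟩
  · rintro ⟨⟨a, haS⟩, ha, hay⟩
    exact mem_subgroupOf.mpr ⟨a, ha, congrArg Subtype.val hay⟩

theorem exists_abelian_normal {G : Type*} [Group G] [Finite G] [Nontrivial G]
    (hG : Group.IsSolvable G) :
    ∃ N : Subgroup G, N.Normal ∧ N ≠ ⊥ ∧ ∀ x ∈ N, ∀ y ∈ N, x * y = y * x := by
  classical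
  haveI := hG
  have hex : ∃ n, derivedSeries G n = ⊥ := Group.IsSolvable.solvable
  have h0 : Nat.find hex ≠ 0 := fun h0 => by
    have := Nat.find_spec hex
    rw [h0, derivedSeries_zero] at this
    exact top_ne_bot this
  obtain ⟨k, hk⟩ := Nat.exists_eq_succ_of_ne_zero h0
  refine ⟨derivedSeries G k, derivedSeries_normal _ k, Nat.find_min hex (by omega),
    fun x hx y hy => ?_⟩
  have := Nat.find_spec hex
  rw [hk, derivedSeries_succ, eq_bot_iff] at this
  exact commutatorElement_eq_one_iff_mul_comm.mp (this (commutator_mem_commutator hx hy))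

theorem le_pCore_aux (hp2 : p ≠ 2) :
    ∀ (n : ℕ) (G : Type u) [Group G] [Finite G], Nat.card G ≤ n → Group.IsSolvable G →
      ∀ A : Subgroup G, IsPGroup p A → Hyp A → A ≤ pCore p G
  | 0, G, _, _, hn, _, _, _, _ => absurd Nat.card_pos (not_lt.mpr hn)
  | n + 1, G, _, _, hn, hG, A, hA, h => by
    rcases subsingleton_or_nontrivial G with hG1 | hG1
    · exact le_of_eq (Subsingleton.elim _ _)
    haveI := hG
    have hquot : ∀ (N : Subgroup G) [N.Normal], N ≠ ⊥ →
        A.map (QuotientGroup.mk' N) ≤ pCore p (G ⧸ N) := fun N _ hN => by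
      refine le_pCore_aux hp2 n (G ⧸ N) ?_ inferInstance _ (hA.map _)
        (h.map _ (QuotientGroup.mk'_surjective N))
      have h2 : 1 < Nat.card N := (one_lt_card_iff_ne_bot (H := N)).mpr hN
      have h3 := card_mul_index N
      rw [index_eq_card] at h3
      have := Nat.card_pos (α := G ⧸ N)
      nlinarith
    by_cases hO : pCore p G ≠ ⊥
    · have := hquot (pCore p G) hO
      rw [Cores.pCore_quotient_pCore, le_bot_iff, Subgroup.map_eq_bot_iff, QuotientGroup.ker_mk'] at this
      exact this
    push Not at hO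
    obtain ⟨N, hNn, hNne, hNc⟩ := exists_abelian_normal hG
    haveI := hNn
    letI : CommGroup N :=
      { (inferInstance : Group N) with mul_comm := fun x y => Subtype.ext (hNc x x.2 y y.2) }
    have hNp : ¬ p ∣ Nat.card N := by
      intro hd
      obtain ⟨x, hx⟩ := exists_prime_orderOf_dvd_card' p hd
      have hn' : (zpowers x).Normal := ⟨fun y hy z => by
        rwa [mul_comm z y, mul_inv_cancel_right]⟩
      have h1 : zpowers x ≤ pCore p N := Cores.le_pCore (hN := hn')
        (IsPGroup.of_card (n := 1) (by rw [Nat.card_zpowers, hx, pow_one]))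
      have h2 := Cores.map_pCore_le_of_normal (p := p) N ⟨x, h1 (mem_zpowers x), rfl⟩
      rw [hO, mem_bot] at h2
      have : x = 1 := Subtype.ext h2
      rw [this, orderOf_one] at hx
      exact hp.out.one_lt.ne hx
    set π := QuotientGroup.mk' N
    set P := pCore p (G ⧸ N)
    have hAP : A.map π ≤ P := hquot N hNne
    let φ : G ⧸ N →* MulAut N := QuotientGroup.lift N MulAut.conjNormal fun m hm => by
      refine MulEquiv.ext fun x => Subtype.ext ?_
      simp only [MulAut.conjNormal_apply, MulAut.one_apply]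
      rw [hNc m hm x x.2, mul_inv_cancel_right]
    letI : DistribMulAction (G ⧸ N) (Additive N) :=
      { smul := fun q v => Additive.ofMul (φ q (Additive.toMul v))
        one_smul := fun v => by
          show Additive.ofMul (φ 1 (Additive.toMul v)) = v
          rw [map_one]; rfl
        mul_smul := fun q r v => by
          show Additive.ofMul (φ (q * r) (Additive.toMul v)) = _
          rw [map_mul]; rfl
        smul_zero := fun q => by
          show Additive.ofMul (φ q 1) = 0
          rw [map_one]; rfl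
        smul_add := fun q v w => by
          show Additive.ofMul (φ q (Additive.toMul v * Additive.toMul w)) = _
          rw [map_mul]; rfl }
    have hsmul : ∀ (g : G) (x : N), π g • Additive.ofMul x = Additive.ofMul x →
        g * (x : G) = (x : G) * g := fun g x e => by
      have e' : MulAut.conjNormal g x = x := e
      have e2 := congrArg Subtype.val e'
      rwa [MulAut.conjNormal_apply, mul_inv_eq_iff_eq_mul] at e2
    have hsmul' : ∀ (g : G) (x : N), g * (x : G) = (x : G) * g →
        π g • Additive.ofMul x = Additive.ofMul x := fun g x e => by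
      show Additive.ofMul (MulAut.conjNormal g x) = Additive.ofMul x
      refine congrArg Additive.ofMul (Subtype.ext ?_)
      rw [MulAut.conjNormal_apply, e, mul_inv_cancel_right]
    by_cases hmove : ∃ a ∈ A, ∃ v : Additive N, π a • v ≠ v
    · exfalso
      obtain ⟨a, haA, hav⟩ := hmove
      obtain ⟨v, hv⟩ := OrbitAvoid.exists_avoid hp2 P (pCore_normal p _) Cores.pCore_isPGroup
        (by rw [Nat.card_congr Additive.toMul]; exact hNp) (π a) (hAP ⟨a, haA, rfl⟩) hav
      set x : N := Additive.toMul v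
      obtain ⟨g, hcg, hs⟩ := h x
      obtain ⟨c, hc⟩ := isConj_iff.mp hcg
      have hgN : g ∈ N := hc ▸ hNn.conj_mem _ x.2 c
      set S := A ⊔ MulAut.conj g • A with hSdef
      set A' := A.subgroupOf S
      have hAS : A ≤ S := le_sup_left
      have hA'p : IsPGroup p A' := hA.comap_of_injective _ S.subtype_injective
      set T := (pCore p S).map S.subtype
      have hAT : A ≤ T := fun y hy =>
        ⟨⟨y, hAS hy⟩, Cores.le_pCore_of_isSubnormal hs hA'p hy, rfl⟩
      have hTp : IsPGroup p T := Cores.pCore_isPGroup.map _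
      have hSAN : ∀ y ∈ S, π y ∈ A.map π := by
        intro y hy
        have hle : S ≤ (A.map π).comap π := by
          refine sup_le (fun z hz => ⟨z, hz, rfl⟩) ?_
          rintro - ⟨z, hz, rfl⟩
          refine ⟨z, hz, ?_⟩
          show π z = π (g * z * g⁻¹)
          rw [map_mul, map_mul, map_inv,
            show π g = 1 from (QuotientGroup.eq_one_iff g).mpr hgN, one_mul, inv_one, mul_one]
        exact hle hy
      have hone : ∀ y ∈ N, (∃ k, y ^ p ^ k = 1) → y = 1 := by
        rintro y hy ⟨k, hk⟩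
        have h1 : orderOf (⟨y, hy⟩ : N) ∣ p ^ k := orderOf_dvd_of_pow_eq_one (Subtype.ext (by simpa using hk))
        obtain ⟨j, -, hj⟩ := (Nat.dvd_prime_pow hp.out).mp h1
        rcases Nat.eq_zero_or_pos j with rfl | hjp
        · rw [pow_zero, orderOf_eq_one_iff] at hj
          exact congrArg Subtype.val hj
        · exact absurd ((dvd_pow_self p hjp.ne').trans (hj ▸ orderOf_dvd_natCard _)) hNp
      have hTA : T ≤ A := by
        intro y hy
        obtain ⟨b, hb, e⟩ := hSAN y (map_subtype_le _ hy)
        have hbN : b⁻¹ * y ∈ N := QuotientGroup.eq.mp e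
        have h1 : b⁻¹ * y ∈ T := mul_mem (inv_mem (hAT hb)) hy
        obtain ⟨k, hk⟩ := hTp ⟨_, h1⟩
        have := hone _ hbN ⟨k, by simpa using congrArg Subtype.val hk⟩
        rw [inv_mul_eq_one] at this
        exact this ▸ hb
      have hTeq : T = A := le_antisymm hTA hAT
      have hgaS : g * a * g⁻¹ ∈ S := mem_sup_right ⟨a, haA, by simp⟩
      set m := a⁻¹ * (g * a * g⁻¹) with hm
      have hmN : m ∈ N := by
        rw [hm, ← mul_assoc, ← mul_assoc]
        exact mul_mem (by simpa using hNn.conj_mem g hgN a⁻¹) (inv_mem hgN)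
      have hmS : m ∈ S := mul_mem (inv_mem (hAS haA)) hgaS
      have hnorm : m * a * m⁻¹ ∈ A := by
        rw [← hTeq]
        obtain ⟨a', ha', e⟩ : a ∈ T := hTeq.symm ▸ haA
        refine ⟨⟨m, hmS⟩ * a' * ⟨m, hmS⟩⁻¹, (pCore_normal p _).conj_mem a' ha' _, ?_⟩
        simp [← e]
      have hcomm : m * a = a * m := by
        have h1 : a⁻¹ * (m * a * m⁻¹) ∈ A := mul_mem (inv_mem haA) hnorm
        have h2 : a⁻¹ * (m * a * m⁻¹) ∈ N := by
          rw [← mul_assoc, ← mul_assoc]
          exact mul_mem (by simpa using hNn.conj_mem m hmN a⁻¹) (inv_mem hmN)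
        obtain ⟨k, hk⟩ := hA ⟨_, h1⟩
        have h3 := hone _ h2 ⟨k, by simpa using congrArg Subtype.val hk⟩
        rw [inv_mul_eq_one, eq_mul_inv_iff_mul_eq] at h3
        exact h3.symm
      obtain ⟨k, hk⟩ := hA ⟨a, haA⟩
      have hak : a ^ p ^ k = 1 := by simpa using congrArg Subtype.val hk
      have hm1 : m = 1 := by
        refine hone m hmN ⟨k, ?_⟩
        have h1 : (a * m) ^ p ^ k = 1 := by
          rw [hm, mul_inv_cancel_left, conj_pow, hak, mul_one, mul_inv_cancel]
        rwa [(Commute.mul_pow (show Commute a m from hcomm.symm)), hak, one_mul] at h1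
      rw [hm, inv_mul_eq_one, eq_mul_inv_iff_mul_eq] at hm1
      -- the conjugate of `a` fixing `v`
      refine hv (π c)⁻¹ ?_
      rw [inv_inv, ← map_inv, ← map_mul, ← map_mul]
      refine hsmul' _ x ?_
      have hx : (x : G) = c⁻¹ * g * c := by rw [← hc]; group
      rw [hx]
      calc c⁻¹ * a * c * (c⁻¹ * g * c) = c⁻¹ * (a * g) * c := by group
        _ = c⁻¹ * (g * a) * c := by rw [hm1]
        _ = c⁻¹ * g * c * (c⁻¹ * a * c) := by group
    · push Not at hmove
      set K := P.comap π ⊓ centralizer (N : Set G)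
      haveI : (centralizer (N : Set G)).Normal := inferInstance
      haveI : (P.comap π).Normal := (pCore_normal p _).comap π
      haveI : K.Normal := normal_inf_normal _ _
      have hAK : A ≤ K := fun a ha => ⟨hAP ⟨a, ha, rfl⟩, mem_centralizer_iff.mpr fun y hy =>
        (hsmul a ⟨y, hy⟩ (hmove a ha _)).symm⟩
      let f : K →* P := (π.comp K.subtype).codRestrict P fun y => y.2.1
      haveI : Group.IsNilpotent P := (Cores.pCore_isPGroup (p := p)).isNilpotent
      have hK : Group.IsNilpotent K := by
        refine Subgroup.isNilpotent_of_ker_le_center f fun y hy => mem_center_iff.mpr fun z => ?_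
        have hyN : (y : G) ∈ N := (QuotientGroup.eq_one_iff _).mp (congrArg Subtype.val hy)
        exact Subtype.ext (mem_centralizer_iff.mp z.2.2 y hyN).symm
      obtain ⟨Q, hQ⟩ := (hA.comap_of_injective _ K.subtype_injective : IsPGroup p (A.subgroupOf K)).exists_le_sylow
      haveI := hK
      haveI hQn : (Q : Subgroup K).Normal := Q.normal_of_normalizerCondition Group.normalizerCondition_of_isNilpotent
      intro a ha
      have h1 : (⟨a, hAK ha⟩ : K) ∈ pCore p K := Cores.le_pCore Q.isPGroup' (hQ ha)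
      exact Cores.map_pCore_le_of_normal (p := p) K ⟨_, h1, rfl⟩

theorem le_pCore {G : Type u} [Group G] [Finite G] (hG : Group.IsSolvable G) (hp2 : p ≠ 2)
    (A : Subgroup G) (hA : IsPGroup p A) (h : Hyp A) : A ≤ pCore p G :=
  le_pCore_aux hp2 (Nat.card G) G le_rfl hG A hA h

end Cfsg.Agent.H24.SubConj
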