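import Mathlib.GroupTheory.IsSubnormal
import Mathlib.GroupTheory.Sylow
import Mathlib.Order.Atoms.Finite
import Mathlib.GroupTheory.QuotientGroup.Basic
import Mathlib.GroupTheory.Index
import Mathlib.Algebra.Group.Subgroup.Pointwise

set_option autoImplicit false

namespace Cfsg.Agent.H24

open Subgroup
open scoped Pointwise

variable {G : Type*} [Group G]

/-- `A` is subnormal in `X`. -/
def SnIn (A X : Subgroup G) : Prop := (A.subgroupOf X).IsSubnormal

theorem snIn_top_iff {A : Subgroup G} : SnIn A ⊤ ↔ A.IsSubnormal :=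
  ⟨fun h => IsSubnormal.trans le_top h .top, fun h => h.subgroupOf⟩

theorem SnIn.mono {A X Y : Subgroup G} (h : SnIn A X) (hYX : Y ≤ X) : SnIn A Y := by
  have e : A.subgroupOf Y = (A.subgroupOf X).comap (inclusion hYX) := by
    ext y; simp [mem_subgroupOf]
  rw [SnIn, e]
  exact IsSubnormal.comap _ h

theorem SnIn.trans {A B X : Subgroup G} (hAB : A ≤ B) (hBX : B ≤ X) (h : SnIn A B) (h' : SnIn B X) :
    SnIn A X := by
  refine IsSubnormal.trans (fun y hy => hAB hy) ?_ h'
  have e : (A.subgroupOf X).subgroupOf (B.subgroupOf X) =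
      (A.subgroupOf B).comap (subgroupOfEquivOfLe hBX).toMonoidHom := by
    ext y; simp [mem_subgroupOf]
  rw [e]
  exact IsSubnormal.comap _ h

theorem mem_conj_smul_iff {A : Subgroup G} {g y : G} :
    y ∈ MulAut.conj g • A ↔ g⁻¹ * y * g ∈ A := by
  rw [mem_pointwise_smul_iff_inv_smul_mem, MulAut.smul_def, MulAut.conj_inv_apply]

theorem SnIn.conj {A X : Subgroup G} (h : SnIn A X) (g : G) :
    SnIn (MulAut.conj g • A) (MulAut.conj g • X) := by
  let e : ↥X ≃* ↥(MulAut.conj g • X) := equivSMul (MulAut.conj g) X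
  have he : (MulAut.conj g • A).subgroupOf (MulAut.conj g • X) = (A.subgroupOf X).map e.toMonoidHom := by
    ext y
    rw [mem_map_equiv, mem_subgroupOf, mem_subgroupOf, mem_pointwise_smul_iff_inv_smul_mem]
    rfl
  rw [SnIn, he]
  exact IsSubnormal.map e.surjective h

/-- Two subnormal subgroups, one normalising the other, generate a subnormal subgroup. -/
theorem isSubnormal_sup_aux : ∀ (n : ℕ) (G : Type*) [Group G] [Finite G], Nat.card G = n →
    ∀ A B : Subgroup G, A.IsSubnormal → B.IsSubnormal → A ≤ normalizer (B : Set G) →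
    (A ⊔ B).IsSubnormal := by
  intro n
  induction n using Nat.strong_induction_on with
  | _ n ih =>
    intro G _ _ hn A B hA hB hAB
    let C : Subgroup G := normalClosure (B : Set G)
    have hBC : B ≤ C := le_normalClosure
    have hY : (A ⊔ C).IsSubnormal := by
      have h := (hA.quotient (K := C)).comap (QuotientGroup.mk' C)
      rwa [comap_map_eq, QuotientGroup.ker_mk'] at h
    by_cases htop : A ⊔ C = ⊤
    · rcases IsSubnormal.lt_normal (hB.subgroupOf (K := C)) with h | ⟨K, hK, hBK, hKlt⟩
      · rw [subgroupOf_eq_top] at h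
        have : B = C := le_antisymm hBC h
        rw [this, htop]; exact .top
      · exfalso
        have hcore : B ≤ (K.map C.subtype).normalCore := by
          intro b hb g
          have hg : g ∈ A ⊔ C := htop ▸ mem_top g
          obtain ⟨a, ha, c, hc, rfl⟩ := mem_sup_of_normal_right.1 hg
          -- write `a * c = c' * a`
          have hc' : a * c * a⁻¹ ∈ C := (inferInstance : C.Normal).conj_mem c hc a
          have hab : a * b * a⁻¹ ∈ B := (mem_normalizer_iff.1 (hAB ha) b).1 hb
          refine ⟨⟨a * c * a⁻¹, hc'⟩ * ⟨a * b * a⁻¹, hBC hab⟩ * ⟨a * c * a⁻¹, hc'⟩⁻¹,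
            hK.conj_mem _ (hBK (show (⟨a * b * a⁻¹, hBC hab⟩ : C) ∈ B.subgroupOf C from hab)) _, ?_⟩
          simp [mul_assoc]
        have hle : C ≤ K.map C.subtype :=
          le_trans (normalClosure_le_normal hcore) (normalCore_le _)
        apply hKlt.ne
        rw [eq_top_iff]
        intro x _
        obtain ⟨y, hy, hyx⟩ := hle x.2
        rwa [Subtype.ext hyx] at hy
    · have hlt : Nat.card ↥(A ⊔ C) < n := by
        rw [← hn]
        exact lt_of_le_of_ne (card_le_card_group _) fun h => htop (eq_top_of_card_eq _ h)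
      have hle : A ⊔ B ≤ A ⊔ C := sup_le_sup_left hBC A
      refine IsSubnormal.trans hle ?_ hY
      rw [subgroupOf_sup le_sup_left (le_trans hBC le_sup_right)]
      refine ih _ hlt _ rfl _ _ hA.subgroupOf hB.subgroupOf ?_
      intro a ha
      rw [mem_normalizer_iff]
      intro b
      simpa [mem_subgroupOf] using mem_normalizer_iff.1 (hAB ha) (b : G)

theorem isSubnormal_sup [Finite G] {A B : Subgroup G} (hA : A.IsSubnormal) (hB : B.IsSubnormal)
    (hAB : A ≤ normalizer (B : Set G)) : (A ⊔ B).IsSubnormal :=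
  isSubnormal_sup_aux _ G rfl A B hA hB hAB

theorem SnIn.sup [Finite G] {A B X : Subgroup G} (hAX : A ≤ X) (hBX : B ≤ X) (hA : SnIn A X)
    (hB : SnIn B X) (hAB : A ≤ normalizer (B : Set G)) : SnIn (A ⊔ B) X := by
  rw [SnIn, subgroupOf_sup hAX hBX]
  refine isSubnormal_sup hA hB fun a ha => ?_
  rw [mem_normalizer_iff]
  intro b
  simpa [mem_subgroupOf] using mem_normalizer_iff.1 (hAB ha) (b : G)

theorem exists_conj_normalizing {K : Type*} [Group K] {A : Subgroup K} {L : Subgroup K}
    (hL : L.IsSubnormal) (hAL : A ≤ L) (hLN : L ≤ normalizer (A : Set K))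
    (hA : normalizer (A : Set K) ≠ ⊤) :
    ∃ x : K, MulAut.conj x • A ≠ A ∧ MulAut.conj x • A ≤ normalizer (A : Set K) ∧
      A ≤ normalizer ((MulAut.conj x • A : Subgroup K) : Set K) := by
  induction hL with
  | top => exact absurd (top_le_iff.1 hLN) hA
  | step L H hLH hH hN ih =>
    by_cases hHN : H ≤ normalizer (A : Set K)
    · exact ih (hAL.trans hLH) hHN
    obtain ⟨x, hx, hxN⟩ := SetLike.not_le_iff_exists.1 hHN
    have hnorm := (normal_subgroupOf_iff_le_normalizer hLH).1 hN
    refine ⟨x, fun h => hxN ?_, ?_, ?_⟩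
    · rw [mem_normalizer_iff]
      intro y
      conv_rhs => rw [← h, mem_conj_smul_iff]
      simp [mul_assoc]
    · intro y hy
      rw [mem_conj_smul_iff] at hy
      refine hLN ((mem_normalizer_iff.1 (hnorm (inv_mem hx)) y).2 ?_)
      simpa [mul_assoc] using hAL hy
    · intro a ha
      have h1 : x⁻¹ * a * x ∈ normalizer (A : Set K) := by
        refine hLN ?_
        simpa using (mem_normalizer_iff.1 (hnorm (inv_mem hx)) a).1 (hAL ha)
      rw [mem_normalizer_iff]
      intro y
      rw [mem_conj_smul_iff, mem_conj_smul_iff]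
      have := mem_normalizer_iff.1 h1 (x⁻¹ * y * x)
      simpa [mul_assoc] using this

/-- Wielandt's zipper lemma. -/
theorem zipper [Finite G] : ∀ (n : ℕ) (A : Subgroup G), A.index = n →
    (∀ X : Subgroup G, X ≠ ⊤ → A ≤ X → SnIn A X) → ¬ A.IsSubnormal →
    ∀ M K : Subgroup G, IsCoatom M → IsCoatom K → A ≤ M → A ≤ K → M = K := by
  intro n
  induction n using Nat.strong_induction_on with
  | _ n ih =>
    intro A hn hsn hns
    have hN : normalizer (A : Set G) ≠ ⊤ := fun h => hns (normalizer_eq_top_iff.1 h).isSubnormal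
    obtain ⟨M₀, hM₀, hNM⟩ := (eq_top_or_exists_le_coatom (normalizer (A : Set G))).resolve_left hN
    suffices ∀ K : Subgroup G, IsCoatom K → A ≤ K → K = M₀ by
      intro M K hM hK hAM hAK
      rw [this M hM hAM, this K hK hAK]
    intro K hK hAK
    by_cases hKN : K ≤ normalizer (A : Set G)
    · exact ((hK.le_iff.1 (hKN.trans hNM)).resolve_left hM₀.1).symm
    have hNK : normalizer ((A.subgroupOf K : Subgroup K) : Set K) ≠ ⊤ := by
      intro h
      apply hKN
      rw [← normal_subgroupOf_iff_le_normalizer hAK]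
      exact normalizer_eq_top_iff.1 h
    obtain ⟨x, hne, h1, h2⟩ := exists_conj_normalizing (hsn K hK.1 hAK) le_rfl le_normalizer hNK
    let B : Subgroup G := MulAut.conj (x : G) • A
    have hB : ∀ y : K, y ∈ MulAut.conj x • A.subgroupOf K ↔ (y : G) ∈ B := by
      intro y
      rw [mem_conj_smul_iff, mem_conj_smul_iff, mem_subgroupOf]
      simp
    have hBK : B ≤ K := by
      intro y hy
      rw [mem_conj_smul_iff] at hy
      have := mul_mem (mul_mem x.2 (hAK hy)) (inv_mem x.2)
      simpa [mul_assoc] using this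
    have hBN : B ≤ normalizer (A : Set G) := by
      intro y hy
      rw [mem_normalizer_iff]
      intro a
      have hyK := hBK hy
      constructor
      · intro ha
        exact (mem_normalizer_iff.1 (h1 ((hB ⟨y, hyK⟩).2 hy)) ⟨a, hAK ha⟩).1 ha
      · intro ha
        have haK : a ∈ K := by
          have := mul_mem (mul_mem (inv_mem hyK) (hAK ha)) hyK
          simpa [mul_assoc] using this
        exact (mem_normalizer_iff.1 (h1 ((hB ⟨y, hyK⟩).2 hy)) ⟨a, haK⟩).2 ha
    have hAB : A ≤ normalizer (B : Set G) := by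
      intro a ha
      rw [mem_normalizer_iff]
      intro y
      constructor
      · intro hy
        exact (hB _).1 ((mem_normalizer_iff.1 (h2 (show (⟨a, hAK ha⟩ : K) ∈ A.subgroupOf K from ha))
          ⟨y, hBK hy⟩).1 ((hB _).2 hy))
      · intro hy
        have hyK : y ∈ K := by
          have := mul_mem (mul_mem (inv_mem (hAK ha)) (hBK hy)) (hAK ha)
          simpa [mul_assoc] using this
        exact (hB _).1 ((mem_normalizer_iff.1 (h2 (show (⟨a, hAK ha⟩ : K) ∈ A.subgroupOf K from ha))
          ⟨y, hyK⟩).2 ((hB _).2 hy))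
    have hBA : ¬ B ≤ A := by
      intro h
      apply hne
      have hcard : Nat.card B = Nat.card A := Nat.card_congr (equivSMul (MulAut.conj (x : G)) A).toEquiv.symm
      have hBe : B = A := eq_of_le_of_card_ge h hcard.ge
      ext y
      rw [hB, hBe, mem_subgroupOf]
    have hlt : A < A ⊔ B := lt_of_le_of_ne le_sup_left fun h => hBA (h ▸ le_sup_right)
    have hTX : ∀ X : Subgroup G, X ≠ ⊤ → A ⊔ B ≤ X → SnIn (A ⊔ B) X := by
      intro X hX hle
      have hBX : SnIn B X := by
        have hX' : MulAut.conj (x : G)⁻¹ • X ≠ ⊤ := by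
          intro h
          apply hX
          rw [eq_top_iff]
          intro y _
          have hy : (x : G)⁻¹ * y * x ∈ MulAut.conj (x : G)⁻¹ • X := h ▸ mem_top _
          rw [mem_conj_smul_iff] at hy
          simpa [mul_assoc] using hy
        have hAX' : A ≤ MulAut.conj (x : G)⁻¹ • X := by
          intro a ha
          rw [mem_conj_smul_iff]
          refine hle (mem_sup_right ?_)
          rw [mem_conj_smul_iff]
          simpa [mul_assoc] using ha
        have h := (hsn _ hX' hAX').conj (x : G)
        rwa [← mul_smul, ← map_mul, mul_inv_cancel, map_one, one_smul] at h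
      exact SnIn.sup (le_sup_left.trans hle) (le_sup_right.trans hle)
        (hsn X hX (le_sup_left.trans hle)) hBX hAB
    have hTns : ¬ (A ⊔ B).IsSubnormal := fun h =>
      hns (.step A _ le_sup_left h
        (normal_subgroupOf_of_le_normalizer (sup_le le_normalizer hBN)))
    exact ih _ (hn ▸ index_strictAnti hlt) _ rfl hTX hTns K M₀ hK hM₀
      (sup_le hAK hBK) ((sup_le le_normalizer hBN).trans hNM)

/-- Wielandt's subnormality criterion. -/
theorem wielandt_criterion_aux : ∀ (n : ℕ) (G : Type*) [Group G] [Finite G], Nat.card G = n →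
    ∀ A : Subgroup G, (∀ g : G, SnIn A (A ⊔ MulAut.conj g • A)) → A.IsSubnormal := by
  intro n
  induction n using Nat.strong_induction_on with
  | _ n ih =>
    intro G _ _ hn A h
    have hsn : ∀ X : Subgroup G, X ≠ ⊤ → A ≤ X → SnIn A X := by
      intro X hX hAX
      have hlt : Nat.card X < n := by
        rw [← hn]
        exact lt_of_le_of_ne (card_le_card_group _) fun h => hX (eq_top_of_card_eq _ h)
      refine ih _ hlt X rfl _ fun g => ?_
      let T : Subgroup G := A ⊔ MulAut.conj (g : G) • A
      have hconj : MulAut.conj g • A.subgroupOf X = (MulAut.conj (g : G) • A).subgroupOf X := by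
        ext y
        rw [mem_conj_smul_iff, mem_subgroupOf, mem_subgroupOf, mem_conj_smul_iff]
        simp
      have hgX : MulAut.conj (g : G) • A ≤ X := by
        intro y hy
        rw [mem_conj_smul_iff] at hy
        have := mul_mem (mul_mem g.2 (hAX hy)) (inv_mem g.2)
        simpa [mul_assoc] using this
      rw [hconj, ← subgroupOf_sup hAX hgX]
      have hTX : T ≤ X := sup_le hAX hgX
      have e : (A.subgroupOf X).subgroupOf (T.subgroupOf X) =
          (A.subgroupOf T).comap (subgroupOfEquivOfLe hTX).toMonoidHom := by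
        ext y; simp [mem_subgroupOf]
      show ((A.subgroupOf X).subgroupOf (T.subgroupOf X)).IsSubnormal
      rw [e]
      exact IsSubnormal.comap _ (h g)
    by_contra hns
    by_cases hA : A = ⊤
    · exact hns (hA ▸ .top)
    obtain ⟨M, hM, hAM⟩ := (eq_top_or_exists_le_coatom A).resolve_left hA
    have hall : ∀ g : G, MulAut.conj g • A ≤ M := by
      intro g
      by_cases htop : A ⊔ MulAut.conj g • A = ⊤
      · exact absurd (snIn_top_iff.1 (htop ▸ h g)) hns
      obtain ⟨K, hK, hle⟩ := (eq_top_or_exists_le_coatom _).resolve_left htop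
      exact (le_sup_right.trans hle).trans
        (zipper _ A rfl hsn hns K M hK hM (le_sup_left.trans hle) hAM).le
    let C : Subgroup G := normalClosure (A : Set G)
    have hCM : C ≤ M := by
      rw [show C = closure (Group.conjugatesOfSet (A : Set G)) from rfl, closure_le]
      intro y hy
      obtain ⟨a, ha, hay⟩ := Group.mem_conjugatesOfSet_iff.1 hy
      obtain ⟨g, hg⟩ := isConj_iff.1 hay
      exact hall g (mem_conj_smul_iff.2 (by rw [← hg]; simpa [mul_assoc] using ha))
    have hC : C ≠ ⊤ := fun h => hM.1 (top_le_iff.1 (h ▸ hCM))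
    exact hns (IsSubnormal.trans le_normalClosure (hsn C hC le_normalClosure)
      (normalClosure_normal.isSubnormal))

end Cfsg.Agent.H24
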